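import Cfsg.Agent.Lib.HallJankoType.Relation
import Cfsg.Agent.Lib.HallJanko.Simple

/-!
Groups of Hall–Janko type are isomorphic to the Hall–Janko group.
-/

set_option autoImplicit false
set_option linter.unusedSectionVars false

namespace CfsgLib.HallJankoType

open Cfsg CfsgLargeExtra Equiv CfsgLib.CosetEnum

universe u

variable {G : Type u} [Group G] [Finite G]

theorem iso_of_HJ {z : G} {Q : Subgroup G} {pm : G → Perm (Fin 5)} (h : HJ z Q pm) : Cfsg.Spor.IsoJ2 G := by
  obtain ⟨x, t, t', d, Q', pm', D⟩ := exists_cyc h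
  obtain ⟨M, S⟩ := D.exists_sub
  obtain ⟨Φ, hΦ⟩ := S.exists_hom
  obtain ⟨e⟩ := J2Iso.isoJ2
  haveI := J2Iso.upper.1
  haveI : IsSimpleGroup Cfsg.Spor.J2 := CfsgHJ.isSimple_J2
  haveI : IsSimpleGroup presJ2.Grp := e.isSimpleGroup
  have hinj : Function.Injective Φ := by
    rw [← MonoidHom.ker_eq_bot_iff]
    refine (IsSimpleGroup.eq_bot_or_eq_top_of_normal Φ.ker inferInstance).resolve_right fun htop => ?_
    refine h.es.ne ?_
    rw [← hΦ]
    exact MonoidHom.mem_ker.mp (htop ▸ Subgroup.mem_top _)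
  have hcard : Nat.card presJ2.Grp = Nat.card G := by
    rw [S.card_G, Nat.card_congr e.toEquiv, Nat.card_congr CfsgHJ.hjEquiv.toEquiv, CfsgHJ.card_hjGroup]
  exact ⟨(MulEquiv.ofBijective Φ ((Nat.bijective_iff_injective_and_card Φ).mpr ⟨hinj, hcard⟩)).symm.trans e⟩

end CfsgLib.HallJankoType
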