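import Cfsg.Agent.Lib.HallJankoType.Elements

/-!
Groups of Hall–Janko type: the Sylow five-subgroup and the two classes of subgroups of order five.
-/

set_option autoImplicit false
set_option linter.unusedSectionVars false
set_option maxRecDepth 100000

namespace CfsgLib.HallJankoType

open Cfsg CfsgLargeExtra Equiv
open scoped Pointwise

universe u

theorem a5_five_move : ∀ a : alternatingGroup (Fin 5), a ^ 5 = 1 → a ≠ 1 →
    ∃ b : alternatingGroup (Fin 5), b * a * b⁻¹ * a ≠ a * (b * a * b⁻¹) := by decide +kernel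

variable {G : Type u} [Group G] [Finite G]

theorem card_cj' (g : G) (H : Subgroup G) : Nat.card ↥(CfsgLargeExtra.cj g H) = Nat.card ↥H :=
  Subgroup.card_map_of_injective (MulAut.conj g).injective

/-- The fixed points of an element of prime order on a subgroup that it normalises. -/
theorem fixed_modEq {p : ℕ} [hp : Fact p.Prime] (H : Subgroup G) {s : G} (hs : s ^ p = 1)
    (hn : s ∈ Subgroup.normalizer (H : Set G)) :
    Nat.card ↥(H ⊓ Subgroup.centralizer ({s} : Set G)) ≡ Nat.card ↥H [MOD p] := by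
  classical
  haveI : Fintype ↥H := Fintype.ofFinite _
  have hmem := Subgroup.mem_normalizer_iff.mp hn
  let φ : Perm ↥H :=
    { toFun := fun a => ⟨s * a * s⁻¹, (hmem _).mp a.2⟩
      invFun := fun a => ⟨s⁻¹ * a * s, (hmem _).mpr (by
        rw [show s * (s⁻¹ * (a : G) * s) * s⁻¹ = a by group]; exact a.2)⟩
      left_inv := fun a => Subtype.ext (by simp [mul_assoc])
      right_inv := fun a => Subtype.ext (by simp [mul_assoc]) }
  have hpw : ∀ (k : ℕ) (a : ↥H), ((φ ^ k) a : G) = s ^ k * a * (s ^ k)⁻¹ := by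
    intro k
    induction k with
    | zero => intro a; simp
    | succ k ih =>
      intro a
      rw [pow_succ', Perm.mul_apply]
      show s * ((φ ^ k) a : G) * s⁻¹ = _
      rw [ih, pow_succ']; group
  have hφ : φ ^ p ^ 1 = 1 := by
    rw [pow_one]
    exact Perm.ext fun a => Subtype.ext (by rw [hpw, hs]; simp)
  have h1 := Equiv.Perm.card_compl_support_modEq hφ
  rw [← Nat.card_eq_fintype_card] at h1
  convert h1 using 1
  rw [← Nat.card_eq_finsetCard]
  exact Nat.card_congr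
    { toFun := fun a => ⟨⟨(a : G), a.2.1⟩, by
        simp only [Finset.mem_compl, Perm.notMem_support]
        exact Subtype.ext (conj_fix_iff.mpr (mem_cent.mp a.2.2).symm)⟩
      invFun := fun a => ⟨((a : ↥H) : G), (a : ↥H).2, mem_cent.mpr (conj_fix_iff.mp
        (congrArg Subtype.val (Perm.notMem_support.mp (Finset.mem_compl.mp a.2)))).symm⟩
      left_inv := fun a => rfl
      right_inv := fun a => rfl }

theorem sylow_card {p k m : ℕ} [hp : Fact p.Prime] (hG : Nat.card G = p ^ k * m) (hm : ¬ p ∣ m) (P : Sylow p G) :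
    Nat.card ↥(P : Subgroup G) = p ^ k := by
  have hm0 : m ≠ 0 := fun e => hm (e ▸ dvd_zero _)
  rw [P.card_eq_multiplicity, hG, Nat.factorization_mul (pow_ne_zero _ hp.out.ne_zero) hm0, Finsupp.add_apply,
    Nat.factorization_eq_zero_of_not_dvd hm, add_zero, hp.out.factorization_pow, Finsupp.single_eq_same]

theorem conj_zpow_cube {s v : G} (hs : s ^ 3 = 1) (hv : orderOf v = 5) (h : s * v * s⁻¹ ∈ Subgroup.zpowers v) :
    s * v * s⁻¹ = v := by
  obtain ⟨i, hi⟩ := zpow_of_mem_five hv h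
  have h2 : ∀ n : ℕ, s * v ^ n * s⁻¹ = v ^ ((i : ℕ) * n) := fun n => by
    rw [pow_mul, ← hi, conj_pow]
  have h3 : v ^ ((i : ℕ) * ((i : ℕ) * (i : ℕ))) = v ^ 1 := by
    rw [← h2, ← h2, ← hi, show s * (s * (s * v * s⁻¹) * s⁻¹) * s⁻¹ = s ^ 3 * v * (s ^ 3)⁻¹ by
      simp [pow_succ, mul_assoc], hs]
    simp
  rw [pow_eq_pow_iff_modEq, hv] at h3
  have hall : ∀ i : Fin 5, ((i : ℕ) * ((i : ℕ) * (i : ℕ))) % 5 = 1 → (i : ℕ) = 1 := by decide +kernel
  rw [hi, hall i h3, pow_one]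

variable {z x t t' d : G} {Q Q' : Subgroup G} {pm pm' : G → Perm (Fin 5)}
variable {M : Subgroup G}

theorem HJ.cent_five_two (_h : HJ z Q pm) {f : G} (hf : f * z = z * f) (ho : orderOf f = 5)
    (h10 : Nat.card ↥(Subgroup.centralizer ({z} : Set G) ⊓ Subgroup.centralizer ({f} : Set G)) = 10) :
    ¬ 4 ∣ Nat.card ↥(Subgroup.centralizer ({f} : Set G)) := by
  intro h4
  haveI : Fact (Nat.Prime 2) := ⟨Nat.prime_two⟩
  set W := Subgroup.centralizer ({f} : Set G) with hW
  set C2 := Subgroup.centralizer ({z} : Set G) ⊓ W with hC2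
  let zW : ↥W := ⟨z, mem_cent.mpr hf.symm⟩
  have hz2 : zW ^ 2 = 1 := Subtype.ext (by rw [SubgroupClass.coe_pow, pow_two]; exact _h.zz)
  have hzo : orderOf zW = 2 := orderOf_eq_prime hz2 fun e => _h.es.ne (congrArg Subtype.val e)
  obtain ⟨T, hT⟩ := (IsPGroup.of_card (n := 1) (by rw [Nat.card_zpowers, hzo, pow_one]) :
    IsPGroup 2 ↥(Subgroup.zpowers zW)).exists_le_sylow
  have hzT : zW ∈ (T : Subgroup ↥W) := hT (Subgroup.mem_zpowers _)
  -- involutions of `C2`
  have hgen : ∀ w ∈ C2, w * w = 1 → w = 1 ∨ w = z := by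
    intro w hw hw2
    have hzf : orderOf (z * f) = 10 := by
      rw [(show Commute z f from hf.symm).orderOf_mul_eq_mul_orderOf_of_coprime (by rw [_h.hz, ho]; norm_num),
        _h.hz, ho]
    have hle : Subgroup.zpowers (z * f) ≤ C2 := Subgroup.zpowers_le.mpr
      ⟨mem_cent.mpr (Commute.mul_left (Commute.refl z) hf), mem_cent.mpr (Commute.mul_left hf.symm (Commute.refl f))⟩
    have heq := Subgroup.eq_of_le_of_card_ge hle (by rw [Nat.card_zpowers, hzf, h10])
    rw [← heq] at hw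
    obtain ⟨k, rfl⟩ := Subgroup.mem_zpowers_iff.mp hw
    rw [← zpow_add, ← orderOf_dvd_iff_zpow_eq_one, hzf] at hw2
    obtain ⟨m, hm⟩ : (5 : ℤ) ∣ k := by omega
    rw [hm, (show Commute z f from hf.symm).mul_zpow, zpow_mul f,
      show f ^ (5 : ℤ) = 1 by rw [show (5 : ℤ) = ((5 : ℕ) : ℤ) from rfl, zpow_natCast, ← ho, pow_orderOf_eq_one],
      one_zpow, mul_one, zpow_mul, show z ^ (5 : ℤ) = z by
        rw [show (5 : ℤ) = 2 + 2 + 1 from rfl, zpow_add, zpow_add, zpow_two, _h.zz]; simp]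
    exact mem_zpowers_sq _h.zz (Subgroup.mem_zpowers_iff.mpr ⟨m, rfl⟩)
  have hTne : Nontrivial ↥(T : Subgroup ↥W) := ⟨⟨1, ⟨zW, hzT⟩, fun e =>
    _h.es.ne (congrArg (fun a : ↥(T : Subgroup ↥W) => ((a : ↥W) : G)) e).symm⟩⟩
  obtain ⟨⟨w, hwc⟩, hwo⟩ := exists_prime_orderOf_dvd_card' (G := ↥(Subgroup.center ↥(T : Subgroup ↥W))) 2 (by
    haveI := T.isPGroup'.center_nontrivial
    obtain ⟨n, hn⟩ := IsPGroup.iff_card.mp (T.isPGroup'.to_subgroup (Subgroup.center ↥(T : Subgroup ↥W)))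
    have hn0 : n ≠ 0 := fun e => by
      have := Finite.one_lt_card (α := ↥(Subgroup.center ↥(T : Subgroup ↥W)))
      rw [hn, e, pow_zero] at this
      omega
    rw [hn]; exact dvd_pow_self 2 hn0)
  rw [Subgroup.orderOf_mk] at hwo
  have hwz : ((w : ↥W) : G) * z = z * ((w : ↥W) : G) :=
    congrArg (fun a : ↥(T : Subgroup ↥W) => ((a : ↥W) : G)) (Subgroup.mem_center_iff.mp hwc ⟨zW, hzT⟩).symm
  have hw2 : ((w : ↥W) : G) * ((w : ↥W) : G) = 1 := by
    have := hwo ▸ pow_orderOf_eq_one w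
    rw [pow_two] at this
    exact congrArg (fun a : ↥(T : Subgroup ↥W) => ((a : ↥W) : G)) this
  rcases hgen _ ⟨mem_cent.mpr hwz, (w : ↥W).2⟩ hw2 with e | e
  · rw [show w = 1 from Subtype.ext (Subtype.ext e), orderOf_one] at hwo
    omega
  -- so the Sylow subgroup centralises `z`
  have hTle : (T : Subgroup ↥W).map W.subtype ≤ C2 := by
    rintro _ ⟨a, ha, rfl⟩
    refine ⟨mem_cent.mpr ?_, a.2⟩
    have := congrArg (fun a : ↥(T : Subgroup ↥W) => ((a : ↥W) : G)) (Subgroup.mem_center_iff.mp hwc ⟨a, ha⟩)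
    simpa [e] using this
  have hd := Subgroup.card_dvd_of_le hTle
  rw [h10, Subgroup.card_map_of_injective Subtype.val_injective] at hd
  have h4' : 4 ∣ Nat.card ↥(T : Subgroup ↥W) := T.pow_dvd_card_of_pow_dvd_card (n := 2) (by simpa using h4)
  exact absurd (h4'.trans hd) (by norm_num)

namespace Sub

variable {D : Cyc z x t t' d Q Q' pm pm'} (S : Sub D M)
include S

theorem four_dvd_cent {f : G} (hfM : f ∈ M) : 4 ∣ Nat.card ↥(Subgroup.centralizer ({f} : Set G)) := by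
  rw [← S.card_F]
  exact Subgroup.card_dvd_of_le fun a ha => mem_cent.mpr (S.F_central ha hfM)

theorem card_sylow_five (P : Sylow 5 G) : Nat.card ↥(P : Subgroup G) = 25 := by
  haveI : Fact (Nat.Prime 5) := ⟨by norm_num⟩
  exact sylow_card (k := 2) (m := 24192) (by rw [S.card_G]; norm_num) (by norm_num) P

theorem sylow_comm (P : Sylow 5 G) {a b : G} (ha : a ∈ (P : Subgroup G)) (hb : b ∈ (P : Subgroup G)) :
    a * b = b * a := by
  haveI : Fact (Nat.Prime 5) := ⟨by norm_num⟩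
  exact congrArg Subtype.val
    (IsPGroup.commutative_of_card_eq_prime_sq (p := 5) (by rw [S.card_sylow_five P]; norm_num)
      (⟨a, ha⟩ : ↥(P : Subgroup G)) ⟨b, hb⟩)

theorem card_cent_five {f : G} (hfM : f ∈ M) (ho : orderOf f = 5) :
    Nat.card ↥(Subgroup.centralizer ({f} : Set G)) = 300 ∧
      ∃ q : ↥(Subgroup.centralizer ({f} : Set G)) →* alternatingGroup (Fin 5),
        Function.Surjective q ∧ ∀ w, q w = 1 ↔ (w : G) ∈ Subgroup.zpowers f := by
  haveI : Fact (Nat.Prime 5) := ⟨by norm_num⟩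
  obtain ⟨hcard, N, hN, hnorm, hiso⟩ := S.card_cent (Or.inr rfl) hfM ho
  obtain ⟨P, hP⟩ := (IsPGroup.of_card (n := 1) (by rw [Nat.card_zpowers, ho, pow_one]) :
    IsPGroup 5 ↥(Subgroup.zpowers f)).exists_le_sylow
  have h25 : 25 ∣ Nat.card ↥(Subgroup.centralizer ({f} : Set G)) := by
    rw [← S.card_sylow_five P]
    exact Subgroup.card_dvd_of_le fun a ha => mem_cent.mpr (S.sylow_comm P ha (hP (Subgroup.mem_zpowers _)))
  have h300 : Nat.card ↥(Subgroup.centralizer ({f} : Set G)) = 300 := by omega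
  obtain ⟨e⟩ := hiso h300
  refine ⟨h300, e.toMonoidHom.comp (QuotientGroup.mk' N), e.surjective.comp (QuotientGroup.mk'_surjective N),
    fun w => ?_⟩
  show e (QuotientGroup.mk' N w) = 1 ↔ _
  rw [MulEquiv.map_eq_one_iff, QuotientGroup.mk'_apply, QuotientGroup.eq_one_iff, hN]
  constructor
  · rintro ⟨i, rfl⟩
    exact Subgroup.mem_zpowers_iff.mpr ⟨i, by simp⟩
  · rintro ⟨i, hi⟩
    exact ⟨i, Subtype.ext (by simpa using hi)⟩

/-- No element of order five of `M` is conjugate to its square. -/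
theorem no_square {f : G} (hfM : f ∈ M) (ho : orderOf f = 5) (g : G) : g * f * g⁻¹ ≠ f * f := by
  intro hg
  haveI : Fact (Nat.Prime 2) := ⟨Nat.prime_two⟩
  set W := Subgroup.centralizer ({f} : Set G) with hW
  have hf5 : f ^ 5 = 1 := ho ▸ pow_orderOf_eq_one f
  have hFW : F D ≤ W := fun a ha => mem_cent.mpr (S.F_central ha hfM)
  have hgF : CfsgLargeExtra.cj g (F D) ≤ W := by
    intro a ha
    rw [CfsgLargeExtra.mem_cj] at ha
    have h1 := S.F_central ha hfM
    have h2 : a * (f * f) = f * f * a := by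
      rw [← hg, show a * (g * f * g⁻¹) = g * (g⁻¹ * a * g * f) * g⁻¹ by group, h1]; group
    have h6 : f * f * (f * f) * (f * f) = f := by
      calc f * f * (f * f) * (f * f) = f ^ 5 * f := by simp [pow_succ, mul_assoc]
        _ = f := by rw [hf5, one_mul]
    refine mem_cent.mpr ?_
    rw [← h6]
    exact Commute.mul_right (Commute.mul_right h2 h2) h2
  have hW300 := (S.card_cent_five hfM ho).1
  have hfac : (Nat.card ↥W).factorization 2 = 2 := by
    rw [hW300, show (300 : ℕ) = 2 ^ 2 * 75 from rfl, Nat.factorization_mul (by norm_num) (by norm_num),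
      Finsupp.add_apply, Nat.Prime.factorization_pow Nat.prime_two, Finsupp.single_eq_same,
      Nat.factorization_eq_zero_of_not_dvd (by norm_num)]
  have hc1 : Nat.card ↥((F D).subgroupOf W) = 2 ^ (Nat.card ↥W).factorization 2 := by
    rw [hfac, Nat.card_congr (Subgroup.subgroupOfEquivOfLe hFW).toEquiv, S.card_F]; rfl
  have hc2 : Nat.card ↥((CfsgLargeExtra.cj g (F D)).subgroupOf W) = 2 ^ (Nat.card ↥W).factorization 2 := by
    rw [hfac, Nat.card_congr (Subgroup.subgroupOfEquivOfLe hgF).toEquiv, card_cj', S.card_F]; rfl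
  obtain ⟨c, hc⟩ := MulAction.exists_smul_eq ↥W (Sylow.ofCard _ hc2) (Sylow.ofCard _ hc1)
  have hn : (c : G) * g ∈ Subgroup.normalizer (F D : Set G) := mem_normalizer_of_le fun a ha => by
    have hmem : (⟨g * a * g⁻¹, hgF (CfsgLargeExtra.conj_mem_cj ha)⟩ : ↥W) ∈
        (CfsgLargeExtra.cj g (F D)).subgroupOf W := CfsgLargeExtra.conj_mem_cj ha
    have h2 := Subgroup.smul_mem_pointwise_smul _ (MulAut.conj c) _ hmem
    have h3 : ((c • Sylow.ofCard _ hc2 : Sylow 2 ↥W) : Subgroup ↥W) = (F D).subgroupOf W := by rw [hc]; rfl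
    rw [Sylow.coe_subgroup_smul] at h3
    rw [show (MulAut.conj c • ((CfsgLargeExtra.cj g (F D)).subgroupOf W)) = (F D).subgroupOf W from h3] at h2
    have h4 : (c : G) * (g * a * g⁻¹) * (c : G)⁻¹ ∈ F D := h2
    rwa [show (c : G) * g * a * ((c : G) * g)⁻¹ = (c : G) * (g * a * g⁻¹) * (c : G)⁻¹ by group]
  obtain ⟨m, hm, hmc⟩ := S.exists_inner_part hn
  have h5 : (c : G) * g * f * ((c : G) * g)⁻¹ = f * f := by
    rw [show (c : G) * g * f * ((c : G) * g)⁻¹ = (c : G) * (g * f * g⁻¹) * (c : G)⁻¹ by group, hg]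
    exact conj_fix_iff.mpr (Commute.mul_right (mem_cent.mp c.2) (mem_cent.mp c.2))
  refine S.five_no_square hfM hm hf5 (fun e => by rw [e, orderOf_one] at ho; omega) ?_
  rw [← h5]
  calc m * f * m⁻¹ = m * ((m⁻¹ * ((c : G) * g)) * f * (m⁻¹ * ((c : G) * g))⁻¹) * m⁻¹ := by
        rw [conj_fix_iff.mpr (hmc f hfM)]
    _ = _ := by group

/-- A Sylow five-subgroup is self-centralizing. -/
theorem cent_sylow_five (P : Sylow 5 G) : Subgroup.centralizer ((P : Subgroup G) : Set G) = P := by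
  haveI : Fact (Nat.Prime 5) := ⟨by norm_num⟩
  obtain ⟨f, hfM, ho⟩ := S.exists_five
  obtain ⟨P₀, hP₀⟩ := (IsPGroup.of_card (n := 1) (by rw [Nat.card_zpowers, ho, pow_one]) :
    IsPGroup 5 ↥(Subgroup.zpowers f)).exists_le_sylow
  have hfP : f ∈ (P₀ : Subgroup G) := hP₀ (Subgroup.mem_zpowers _)
  have key : ∀ c, (∀ p ∈ (P₀ : Subgroup G), c * p = p * c) → c ∈ (P₀ : Subgroup G) := by
    intro c hc
    obtain ⟨-, q, -, hq⟩ := S.card_cent_five hfM ho
    let cW : ↥(Subgroup.centralizer ({f} : Set G)) := ⟨c, mem_cent.mpr (hc f hfP)⟩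
    obtain ⟨p, hp, hpn⟩ : ∃ p ∈ (P₀ : Subgroup G), p ∉ Subgroup.zpowers f := by
      by_contra hall
      push Not at hall
      have := Subgroup.card_le_of_le (show (P₀ : Subgroup G) ≤ Subgroup.zpowers f from hall)
      rw [S.card_sylow_five, Nat.card_zpowers, ho] at this
      omega
    let pW : ↥(Subgroup.centralizer ({f} : Set G)) := ⟨p, mem_cent.mpr (S.sylow_comm P₀ hp hfP)⟩
    have hp25 : (q pW) ^ 5 = 1 := by
      have h25 : pW ^ 25 = 1 := Subtype.ext (by
        have := congrArg Subtype.val (pow_card_eq_one' (x := (⟨p, hp⟩ : ↥(P₀ : Subgroup G))))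
        rw [S.card_sylow_five] at this
        simpa using this)
      have h1 : (q pW) ^ 25 = 1 := by rw [← map_pow, h25, map_one]
      have hall : ∀ a : alternatingGroup (Fin 5), a ^ 25 = 1 → a ^ 5 = 1 := by decide +kernel
      exact hall _ h1
    have hp1 : q pW ≠ 1 := fun e => hpn ((hq pW).mp e)
    have hcomm : q pW * q cW = q cW * q pW := by
      rw [← map_mul, ← map_mul]; exact congrArg q (Subtype.ext (hc p hp).symm)
    obtain ⟨k, hk⟩ : ∃ k : ℕ, q cW = q (pW ^ k) := by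
      rcases a5_five.2.2.2 _ _ hp25 hp1 hcomm with e | e | e | e | e
      · exact ⟨0, by rw [e, pow_zero, map_one]⟩
      · exact ⟨1, by rw [e, pow_one]⟩
      · exact ⟨2, by rw [e, pow_two, map_mul]⟩
      · exact ⟨3, by rw [e, map_pow, pow_succ, pow_two]⟩
      · exact ⟨4, by rw [e, map_pow, pow_succ, pow_succ, pow_two]⟩
    have h1 : q ((pW ^ k)⁻¹ * cW) = 1 := by rw [map_mul, map_inv, hk, inv_mul_cancel]
    have h2 : (p ^ k)⁻¹ * c ∈ (P₀ : Subgroup G) := hP₀ (by simpa [pW, cW] using (hq _).mp h1)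
    simpa using mul_mem (pow_mem hp k) h2
  obtain ⟨g, hg⟩ := MulAction.exists_smul_eq G P P₀
  have hconj : ∀ a, a ∈ (P : Subgroup G) ↔ g * a * g⁻¹ ∈ (P₀ : Subgroup G) := fun a => by
    rw [← hg, Sylow.coe_subgroup_smul]
    exact (Subgroup.smul_mem_pointwise_smul_iff (a := MulAut.conj g) (x := a)).symm
  refine le_antisymm (fun c hc => (hconj c).mpr (key _ fun p hp => ?_))
    fun c hc => Subgroup.mem_centralizer_iff.mpr fun a ha => S.sylow_comm P ha hc
  have ha : g⁻¹ * p * g ∈ (P : Subgroup G) :=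
    (hconj _).mpr (by rwa [show g * (g⁻¹ * p * g) * g⁻¹ = p by group])
  have h1 := Subgroup.mem_centralizer_iff.mp hc _ ha
  calc g * c * g⁻¹ * p = g * (c * (g⁻¹ * p * g)) * g⁻¹ := by group
    _ = g * (g⁻¹ * p * g * c) * g⁻¹ := by rw [h1]
    _ = p * (g * c * g⁻¹) := by group

/-- An element whose cube is trivial and which normalises a Sylow five-subgroup fixes no subgroup of it. -/
theorem sylow_five_free (P : Sylow 5 G) {s v : G} (hs : s ^ 3 = 1) (hn : s ∈ Subgroup.normalizer (P : Set G))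
    (hv : v ∈ (P : Subgroup G)) (hov : orderOf v = 5) (h : s * v * s⁻¹ ∈ Subgroup.zpowers v) : s = 1 := by
  haveI : Fact (Nat.Prime 3) := ⟨Nat.prime_three⟩
  haveI : Fact (Nat.Prime 5) := ⟨by norm_num⟩
  have hfix := conj_fix_iff.mp (conj_zpow_cube hs hov h)
  set K := (P : Subgroup G) ⊓ Subgroup.centralizer ({s} : Set G) with hK
  have hmod := fixed_modEq (P : Subgroup G) hs hn
  rw [S.card_sylow_five, ← hK] at hmod
  have h5 : 5 ∣ Nat.card ↥K := by
    rw [← hov, ← Subgroup.orderOf_mk v (show v ∈ K from ⟨hv, mem_cent.mpr hfix.symm⟩)]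
    exact orderOf_dvd_natCard _
  have hdvd : Nat.card ↥K ∣ 25 := S.card_sylow_five P ▸ Subgroup.card_dvd_of_le inf_le_left
  have h25 : Nat.card ↥K = 25 := by
    have hle := Nat.le_of_dvd (by norm_num) hdvd
    unfold Nat.ModEq at hmod
    interval_cases hc : Nat.card ↥K <;> omega
  have heq : K = P := Subgroup.eq_of_le_of_card_ge inf_le_left (by rw [h25, S.card_sylow_five])
  have hsP : s ∈ (P : Subgroup G) := by
    rw [← S.cent_sylow_five P]
    refine Subgroup.mem_centralizer_iff.mpr fun a ha => ?_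
    exact mem_cent.mp ((heq ▸ ha : a ∈ K).2)
  have h3 : s ^ 25 = 1 := by
    have := congrArg Subtype.val (pow_card_eq_one' (x := (⟨s, hsP⟩ : ↥(P : Subgroup G))))
    rw [S.card_sylow_five] at this
    simpa using this
  rwa [show (25 : ℕ) = 3 * 8 + 1 from rfl, pow_succ, pow_mul, hs, one_pow, one_mul] at h3

theorem norm_sylow_five_mem (P : Sylow 5 G) {f : G} (hfM : f ∈ M) (ho : orderOf f = 5) (hfP : f ∈ (P : Subgroup G)) :
    Nat.card ↥(Subgroup.normalizer (P : Set G)) = 300 ∧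
      (orb (Subgroup.normalizer (P : Set G)) f).ncard = 6 := by
  classical
  haveI : Fact (Nat.Prime 5) := ⟨by norm_num⟩
  set N := Subgroup.normalizer (P : Set G) with hN
  set W := Subgroup.centralizer ({f} : Set G) with hW
  obtain ⟨hW300, q, hqs, hq⟩ := S.card_cent_five hfM ho
  have hPW : (P : Subgroup G) ≤ W := fun a ha => mem_cent.mpr (S.sylow_comm P ha hfP)
  have hfac : (Nat.card ↥W).factorization 5 = 2 := by
    rw [hW300, show (300 : ℕ) = 5 ^ 2 * 12 from rfl, Nat.factorization_mul (by norm_num) (by norm_num),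
      Finsupp.add_apply, Nat.Prime.factorization_pow (by norm_num), Finsupp.single_eq_same,
      Nat.factorization_eq_zero_of_not_dvd (by norm_num)]
  have hPc : Nat.card ↥((P : Subgroup G).subgroupOf W) = 5 ^ (Nat.card ↥W).factorization 5 := by
    rw [hfac, Nat.card_congr (Subgroup.subgroupOfEquivOfLe hPW).toEquiv, S.card_sylow_five]; rfl
  set P' : Sylow 5 ↥W := Sylow.ofCard _ hPc with hP'
  have hP'e : (P' : Subgroup ↥W) = (P : Subgroup G).subgroupOf W := rfl
  have hidx := P'.card_eq_index_normalizer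
  have hmul := Subgroup.card_mul_index (Subgroup.normalizer (P' : Set ↥W))
  rw [hW300, ← hidx] at hmul
  have hdiv := P'.card_dvd_index
  have hi12 : (P' : Subgroup ↥W).index = 12 := by
    have := Subgroup.card_mul_index (P' : Subgroup ↥W)
    rw [hW300, hP'e, Nat.card_congr (Subgroup.subgroupOfEquivOfLe hPW).toEquiv, S.card_sylow_five] at this
    rw [hP'e]; omega
  rw [hi12] at hdiv
  have hmod := card_sylow_modEq_one 5 ↥W
  have hn1 : Nat.card (Sylow 5 ↥W) ≠ 1 := by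
    intro h1
    rw [h1, mul_one] at hmul
    have htop : Subgroup.normalizer (P' : Set ↥W) = ⊤ :=
      Subgroup.eq_top_of_card_eq _ (by rw [hmul, hW300])
    obtain ⟨p, hp, hpn⟩ : ∃ p ∈ (P : Subgroup G), p ∉ Subgroup.zpowers f := by
      by_contra hall
      push Not at hall
      have := Subgroup.card_le_of_le (show (P : Subgroup G) ≤ Subgroup.zpowers f from hall)
      rw [S.card_sylow_five, Nat.card_zpowers, ho] at this
      omega
    let pW : ↥W := ⟨p, hPW hp⟩
    have hp1 : q pW ≠ 1 := fun e => hpn ((hq pW).mp e)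
    have hp5 : (q pW) ^ 5 = 1 := by
      have h25 : pW ^ 25 = 1 := Subtype.ext (by
        have := congrArg Subtype.val (pow_card_eq_one' (x := (⟨p, hp⟩ : ↥(P : Subgroup G))))
        rw [S.card_sylow_five] at this
        simpa using this)
      have h1 : (q pW) ^ 25 = 1 := by rw [← map_pow, h25, map_one]
      have hall : ∀ a : alternatingGroup (Fin 5), a ^ 25 = 1 → a ^ 5 = 1 := by decide +kernel
      exact hall _ h1
    obtain ⟨b, hb⟩ := a5_five_move _ hp5 hp1
    obtain ⟨w, rfl⟩ := hqs b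
    apply hb
    have hwp : w * pW * w⁻¹ ∈ (P' : Subgroup ↥W) :=
      (Subgroup.mem_normalizer_iff.mp (htop ▸ Subgroup.mem_top w : w ∈ Subgroup.normalizer (P' : Set ↥W)) pW).mp hp
    rw [← map_inv, ← map_mul, ← map_mul, ← map_mul, ← map_mul]
    exact congrArg q (Subtype.ext (S.sylow_comm P hwp hp))
  have hn6 : Nat.card (Sylow 5 ↥W) = 6 := by
    have hle := Nat.le_of_dvd (by norm_num) hdiv
    have h0 : 0 < Nat.card (Sylow 5 ↥W) := Nat.card_pos
    unfold Nat.ModEq at hmod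
    interval_cases hc : Nat.card (Sylow 5 ↥W) <;> omega
  rw [hn6] at hmul
  have hNW : Nat.card ↥(N ⊓ W) = 50 := by
    have h1 : Nat.card ↥(N.subgroupOf W) = 50 := by
      rw [hN, show (Subgroup.normalizer (P : Set G)).subgroupOf W = Subgroup.normalizer (P' : Set ↥W) from
        Subgroup.subgroupOf_normalizer_eq hPW]
      omega
    rw [← h1, ← Subgroup.inf_subgroupOf_right N W,
      Nat.card_congr (Subgroup.subgroupOfEquivOfLe (inf_le_right : N ⊓ W ≤ W)).toEquiv]
  set O := orb N f with hO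
  have hr := ncard_orb N f
  rw [← hW, hNW, ← hO] at hr
  -- at most twelve conjugates
  have hOP : O ⊆ ((P : Subgroup G) : Set G) \ {1} := by
    rintro _ ⟨n, hn, rfl⟩
    exact ⟨((Subgroup.mem_normalizer_iff.mp hn) f).mp hfP,
      fun e => by rw [conj_eq_one_iff.mp e, orderOf_one] at ho; omega⟩
  set O2 := (fun a => a * a) '' O with hO2
  have hsq5 : ∀ a ∈ O, a ^ 5 = 1 := by
    rintro _ ⟨n, -, rfl⟩
    rw [conj_pow, ← ho, pow_orderOf_eq_one, mul_one, mul_inv_cancel]
  have hinj : Set.InjOn (fun a : G => a * a) O := fun a ha b hb e => by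
    have e' : a * a = b * b := e
    calc a = a ^ 5 * a := by rw [hsq5 a ha, one_mul]
      _ = (a * a) * (a * a) * (a * a) := by simp [pow_succ, mul_assoc]
      _ = (b * b) * (b * b) * (b * b) := by rw [e']
      _ = b ^ 5 * b := by simp [pow_succ, mul_assoc]
      _ = b := by rw [hsq5 b hb, one_mul]
  have hdisj : Disjoint O O2 := by
    rw [Set.disjoint_left]
    rintro _ ⟨n, -, rfl⟩ ⟨_, ⟨k, -, rfl⟩, e⟩
    refine S.no_square hfM ho (k⁻¹ * n) ?_
    rw [show k⁻¹ * n * f * (k⁻¹ * n)⁻¹ = k⁻¹ * (n * f * n⁻¹) * k by group, ← e]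
    group
  have hO2P : O2 ⊆ ((P : Subgroup G) : Set G) \ {1} := by
    rintro _ ⟨a, ha, rfl⟩
    refine ⟨mul_mem (hOP ha).1 (hOP ha).1, fun e => (hOP ha).2 ?_⟩
    show a = 1
    have e' : a * a = 1 := e
    calc a = a ^ 5 * a := by rw [hsq5 a ha, one_mul]
      _ = (a * a) * (a * a) * (a * a) := by simp [pow_succ, mul_assoc]
      _ = 1 := by simp [e']
  have h24 : (((P : Subgroup G) : Set G) \ {1}).ncard = 24 := by
    rw [Set.ncard_sdiff_singleton_of_mem (one_mem _), ← Nat.card_coe_set_eq]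
    exact congrArg (· - 1) (S.card_sylow_five P)
  have hle : O.ncard ≤ 12 := by
    have := Set.ncard_le_ncard (Set.union_subset hOP hO2P) (Set.toFinite _)
    rw [Set.ncard_union_eq hdisj, hO2, hinj.ncard_image, h24] at this
    omega
  -- an inverter
  have hO1 : O.ncard ≠ 1 := by
    intro h1
    obtain ⟨v, hv, -, hvf⟩ := S.inverter hfM (fun e => by rw [e, orderOf_one] at ho; omega)
      (Or.inr (ho ▸ pow_orderOf_eq_one f))
    have hvPW : CfsgLargeExtra.cj v (P : Subgroup G) ≤ W := by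
      intro a ha
      rw [CfsgLargeExtra.mem_cj] at ha
      have hc := S.sylow_comm P ha (inv_mem hfP)
      refine mem_cent.mpr ?_
      have e : v * f⁻¹ * v⁻¹ = f := by rw [← conj_inv, hvf, inv_inv]
      calc a * f = a * (v * f⁻¹ * v⁻¹) := by rw [e]
        _ = v * (v⁻¹ * a * v * f⁻¹) * v⁻¹ := by group
        _ = v * (f⁻¹ * (v⁻¹ * a * v)) * v⁻¹ := by rw [hc]
        _ = v * f⁻¹ * v⁻¹ * a := by group
        _ = f * a := by rw [e]
    have hc2 : Nat.card ↥((CfsgLargeExtra.cj v (P : Subgroup G)).subgroupOf W) =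
        5 ^ (Nat.card ↥W).factorization 5 := by
      rw [hfac, Nat.card_congr (Subgroup.subgroupOfEquivOfLe hvPW).toEquiv, card_cj',
        S.card_sylow_five]
      rfl
    obtain ⟨c, hc⟩ := MulAction.exists_smul_eq ↥W (Sylow.ofCard _ hc2) P'
    have hn : (c : G) * v ∈ N := mem_normalizer_of_le fun a ha => by
      have hmem : (⟨v * a * v⁻¹, hvPW (CfsgLargeExtra.conj_mem_cj ha)⟩ : ↥W) ∈
          (CfsgLargeExtra.cj v (P : Subgroup G)).subgroupOf W := CfsgLargeExtra.conj_mem_cj ha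
      have h2 := Subgroup.smul_mem_pointwise_smul _ (MulAut.conj c) _ hmem
      have h3 : ((c • Sylow.ofCard _ hc2 : Sylow 5 ↥W) : Subgroup ↥W) = (P : Subgroup G).subgroupOf W := by
        rw [hc]; rfl
      rw [Sylow.coe_subgroup_smul] at h3
      rw [show (MulAut.conj c • ((CfsgLargeExtra.cj v (P : Subgroup G)).subgroupOf W)) =
        (P : Subgroup G).subgroupOf W from h3] at h2
      have h4 : (c : G) * (v * a * v⁻¹) * (c : G)⁻¹ ∈ (P : Subgroup G) := h2
      rwa [show (c : G) * v * a * ((c : G) * v)⁻¹ = (c : G) * (v * a * v⁻¹) * (c : G)⁻¹ by group]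
    have hmem : f⁻¹ ∈ O := ⟨_, hn, by
      rw [show (c : G) * v * f * ((c : G) * v)⁻¹ = (c : G) * (v * f * v⁻¹) * (c : G)⁻¹ by group, hvf]
      exact conj_fix_iff.mpr (Commute.inv_right (mem_cent.mp c.2))⟩
    have hfO : f ∈ O := ⟨1, one_mem _, by simp⟩
    obtain ⟨a, ha⟩ := Set.ncard_eq_one.mp h1
    rw [ha, Set.mem_singleton_iff] at hmem hfO
    have e : f * f = 1 := mul_eq_one_iff_eq_inv.mpr (hfO.trans hmem.symm)
    have := orderOf_dvd_of_pow_eq_one (show f ^ 2 = 1 by rw [pow_two, e])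
    rw [ho] at this
    omega
  have hn5 := Subgroup.card_mul_index N
  rw [S.card_G, ← hr] at hn5
  have hmodG := card_sylow_modEq_one 5 G
  rw [P.card_eq_index_normalizer, ← hN] at hmodG
  have h6 : O.ncard = 6 := by
    unfold Nat.ModEq at hmodG
    interval_cases hc : O.ncard <;> omega
  exact ⟨by rw [← hr, h6], h6⟩

theorem norm_sylow_five (P : Sylow 5 G) : Nat.card ↥(Subgroup.normalizer (P : Set G)) = 300 := by
  haveI : Fact (Nat.Prime 5) := ⟨by norm_num⟩
  obtain ⟨f, hfM, ho⟩ := S.exists_five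
  obtain ⟨P₀, hP₀⟩ := (IsPGroup.of_card (n := 1) (by rw [Nat.card_zpowers, ho, pow_one]) :
    IsPGroup 5 ↥(Subgroup.zpowers f)).exists_le_sylow
  have h1 := (S.norm_sylow_five_mem P₀ hfM ho (hP₀ (Subgroup.mem_zpowers _))).1
  have e := P.card_eq_index_normalizer.symm.trans P₀.card_eq_index_normalizer
  have h2 := Subgroup.card_mul_index (Subgroup.normalizer (P : Set G))
  have h3 := Subgroup.card_mul_index (Subgroup.normalizer (P₀ : Set G))
  rw [e, ← h3] at h2
  rw [← h1]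
  exact Nat.eq_of_mul_eq_mul_right (Nat.pos_of_ne_zero Subgroup.index_ne_zero_of_finite) h2

/-- The two classes of subgroups of order five. -/
theorem exists_five_data : ∃ fA fB : G, fA * z = z * fA ∧ orderOf fA = 5 ∧ fB ∈ M ∧ orderOf fB = 5 ∧
    Nat.card ↥(Subgroup.centralizer ({z} : Set G) ⊓ Subgroup.centralizer ({fA} : Set G)) = 10 ∧
    (∀ g : G, g * fB * g⁻¹ ∉ Subgroup.zpowers fA) ∧
    ∀ w : G, orderOf w = 5 → ∃ g : G, g * w * g⁻¹ ∈ Subgroup.zpowers fA ∨ g * w * g⁻¹ ∈ Subgroup.zpowers fB := by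
  classical
  haveI : Fact (Nat.Prime 5) := ⟨by norm_num⟩
  haveI : Fact (Nat.Prime 3) := ⟨Nat.prime_three⟩
  obtain ⟨fA, -, hfz, hoA, -, -, -, -, -, h10⟩ := D.K.P.h.exists_five_pair
  obtain ⟨fB, hfM, hoB⟩ := S.exists_five
  have hsep : ∀ g : G, g * fB * g⁻¹ ∉ Subgroup.zpowers fA := by
    intro g hg
    refine D.K.P.h.cent_five_two hfz hoA h10 ?_
    have hne : g * fB * g⁻¹ ≠ 1 := fun e => by rw [conj_eq_one_iff.mp e, orderOf_one] at hoB; omega
    have hmem : fA ∈ Subgroup.zpowers (g * fB * g⁻¹) :=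
      (zpowers_eq_of_mem hoA hg hne).1 ▸ Subgroup.mem_zpowers _
    have heq : Subgroup.centralizer ({fA} : Set G) = Subgroup.centralizer ({g * fB * g⁻¹} : Set G) := by
      obtain ⟨i, hi⟩ := Subgroup.mem_zpowers_iff.mp hg
      obtain ⟨j, hj⟩ := Subgroup.mem_zpowers_iff.mp hmem
      ext a
      rw [mem_cent, mem_cent]
      exact ⟨fun h => by rw [← hi]; exact (show Commute a fA from h).zpow_right i,
        fun h => by rw [← hj]; exact (show Commute a _ from h).zpow_right j⟩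
    rw [heq, card_cent_conj]
    exact S.four_dvd_cent hfM
  refine ⟨fA, fB, hfz, hoA, hfM, hoB, h10, hsep, ?_⟩
  obtain ⟨P, hP⟩ := (IsPGroup.of_card (n := 1) (by rw [Nat.card_zpowers, hoB, pow_one]) :
    IsPGroup 5 ↥(Subgroup.zpowers fB)).exists_le_sylow
  have hfP : fB ∈ (P : Subgroup G) := hP (Subgroup.mem_zpowers _)
  obtain ⟨hN300, hO6⟩ := S.norm_sylow_five_mem P hfM hoB hfP
  set N := Subgroup.normalizer (P : Set G) with hN
  -- every element of order five can be moved into `P`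
  have hmove : ∀ w : G, orderOf w = 5 → ∃ g : G, g * w * g⁻¹ ∈ (P : Subgroup G) := fun w hw => by
    obtain ⟨R, hR⟩ := (IsPGroup.of_card (n := 1) (by rw [Nat.card_zpowers, hw, pow_one]) :
      IsPGroup 5 ↥(Subgroup.zpowers w)).exists_le_sylow
    obtain ⟨g, hg⟩ := MulAction.exists_smul_eq G R P
    refine ⟨g, ?_⟩
    rw [← hg, Sylow.coe_subgroup_smul]
    exact Subgroup.smul_mem_pointwise_smul w (MulAut.conj g) _ (hR (Subgroup.mem_zpowers _))
  obtain ⟨g₀, hy⟩ := hmove fA hoA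
  set y := g₀ * fA * g₀⁻¹ with hydef
  have hoy : orderOf y = 5 := (orderOf_conj' g₀ fA).trans hoA
  obtain ⟨⟨s, hsN⟩, hso⟩ := exists_prime_orderOf_dvd_card' (G := ↥N) 3 (by rw [hN300]; norm_num)
  rw [Subgroup.orderOf_mk] at hso
  have hs3 : s ^ 3 = 1 := hso ▸ pow_orderOf_eq_one s
  have hs1 : s ≠ 1 := fun e => by rw [e, orderOf_one] at hso; omega
  set y₁ := s * y * s⁻¹ with hy₁def
  set y₂ := s * y₁ * s⁻¹ with hy₂def
  have hy₁ : y₁ ∈ (P : Subgroup G) := (Subgroup.mem_normalizer_iff.mp hsN y).mp hy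
  have hy₂ : y₂ ∈ (P : Subgroup G) := (Subgroup.mem_normalizer_iff.mp hsN y₁).mp hy₁
  have hoy₁ : orderOf y₁ = 5 := (orderOf_conj' s y).trans hoy
  have hoy₂ : orderOf y₂ = 5 := (orderOf_conj' s y₁).trans hoy₁
  let T : G → Set G := fun a => (Subgroup.zpowers a : Set G) \ {1}
  have hT4 : ∀ a : G, orderOf a = 5 → (T a).ncard = 4 := fun a ha => by
    rw [Set.ncard_sdiff_singleton_of_mem (one_mem _), ← Nat.card_coe_set_eq,
      show Nat.card ↥(Subgroup.zpowers a : Set G) = 5 from (Nat.card_zpowers a).trans ha]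
  have hTd : ∀ a b : G, orderOf a = 5 → orderOf b = 5 → b ∉ Subgroup.zpowers a → Disjoint (T a) (T b) :=
    fun a b ha hb hab => Set.disjoint_left.mpr fun v hva hvb => hab (by
      rw [← (zpowers_eq_of_mem ha hva.1 hva.2).1, (zpowers_eq_of_mem hb hvb.1 hvb.2).1]
      exact Subgroup.mem_zpowers b)
  have h01 : Disjoint (T y) (T y₁) := hTd _ _ hoy hoy₁ fun h => hs1 (S.sylow_five_free P hs3 hsN hy hoy h)
  have h12 : Disjoint (T y₁) (T y₂) := hTd _ _ hoy₁ hoy₂ fun h => hs1 (S.sylow_five_free P hs3 hsN hy₁ hoy₁ h)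
  have h02 : Disjoint (T y) (T y₂) := hTd _ _ hoy hoy₂ fun h => by
    have h' : s * s * y * (s * s)⁻¹ ∈ Subgroup.zpowers y := by
      rwa [show s * s * y * (s * s)⁻¹ = y₂ by rw [hy₂def, hy₁def]; group]
    have := S.sylow_five_free P (by rw [← pow_two, ← pow_mul, show 2 * 3 = 3 * 2 from rfl, pow_mul, hs3, one_pow])
      (mul_mem hsN hsN) hy hoy h'
    exact hs1 (by
      calc s = s ^ 3 * (s * s)⁻¹ := by group
        _ = 1 := by rw [this, hs3]; simp)
  set O := orb N fB with hO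
  set O2 := (fun a => a * a) '' O with hO2
  set TT := T y ∪ T y₁ ∪ T y₂ with hTT
  have hTT12 : TT.ncard = 12 := by
    rw [hTT, Set.ncard_union_eq (Set.disjoint_union_left.mpr ⟨h02, h12⟩), Set.ncard_union_eq h01,
      hT4 _ hoy, hT4 _ hoy₁, hT4 _ hoy₂]
  have hOsq : ∀ a ∈ O, a ^ 5 = 1 := by
    rintro _ ⟨n, -, rfl⟩
    rw [conj_pow, ← hoB, pow_orderOf_eq_one, mul_one, mul_inv_cancel]
  have hinj : Set.InjOn (fun a : G => a * a) O := fun a ha b hb e => by
    have e' : a * a = b * b := e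
    calc a = a ^ 5 * a := by rw [hOsq a ha, one_mul]
      _ = (a * a) * (a * a) * (a * a) := by simp [pow_succ, mul_assoc]
      _ = (b * b) * (b * b) * (b * b) := by rw [e']
      _ = b ^ 5 * b := by simp [pow_succ, mul_assoc]
      _ = b := by rw [hOsq b hb, one_mul]
  -- two classes of elements
  have hBclass : ∀ v ∈ O ∪ O2, ∃ g : G, g * v * g⁻¹ ∈ Subgroup.zpowers fB := by
    rintro v (⟨n, -, rfl⟩ | ⟨_, ⟨n, -, rfl⟩, rfl⟩) <;> refine ⟨n⁻¹, ?_⟩
    · simp [mul_assoc]
    · simpa [mul_assoc] using mul_mem (Subgroup.mem_zpowers fB) (Subgroup.mem_zpowers fB)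
  have hTclass : ∀ v ∈ TT, ∃ g : G, g * v * g⁻¹ ∈ Subgroup.zpowers fA := by
    have hTa : ∀ g, ∀ v ∈ T (g * fA * g⁻¹), ∃ g : G, g * v * g⁻¹ ∈ Subgroup.zpowers fA := fun g v hv => by
      obtain ⟨i, rfl⟩ := Subgroup.mem_zpowers_iff.mp hv.1
      exact ⟨g⁻¹, Subgroup.mem_zpowers_iff.mpr ⟨i, by rw [conj_zpow]; group⟩⟩
    rintro v ((hv | hv) | hv)
    · exact hTa g₀ v hv
    · exact hTa (s * g₀) v (by rwa [show s * g₀ * fA * (s * g₀)⁻¹ = y₁ by rw [hy₁def, hydef]; group])
    · exact hTa (s * s * g₀) v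
        (by rwa [show s * s * g₀ * fA * (s * s * g₀)⁻¹ = y₂ by rw [hy₂def, hy₁def, hydef]; group])
  have hOP : ∀ a ∈ O, a ∈ (P : Subgroup G) ∧ a ≠ 1 := by
    rintro _ ⟨n, hn, rfl⟩
    exact ⟨((Subgroup.mem_normalizer_iff.mp hn) fB).mp hfP,
      fun e => by rw [conj_eq_one_iff.mp e, orderOf_one] at hoB; omega⟩
  have hd : Disjoint (O ∪ O2) TT := by
    rw [Set.disjoint_left]
    intro v hv hvT
    obtain ⟨g, hg⟩ := hBclass v hv
    obtain ⟨g', hg'⟩ := hTclass v hvT
    have hv1 : v ≠ 1 := by rcases hvT with (h | h) | h <;> exact h.2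
    obtain ⟨i, hi⟩ := Subgroup.mem_zpowers_iff.mp
      ((zpowers_eq_of_mem hoB hg (fun e => hv1 (conj_eq_one_iff.mp e))).1 ▸ Subgroup.mem_zpowers fB :
        fB ∈ Subgroup.zpowers (g * v * g⁻¹))
    refine hsep (g' * g⁻¹) ?_
    rw [← hi, conj_zpow, show g' * g⁻¹ * (g * v ^ i * g⁻¹) * (g' * g⁻¹)⁻¹ = g' * v ^ i * g'⁻¹ by group,
      ← conj_zpow]
    exact Subgroup.zpow_mem _ hg' i
  have hd2 : Disjoint O O2 := by
    rw [Set.disjoint_left]
    rintro _ ⟨n, -, rfl⟩ ⟨_, ⟨k, -, rfl⟩, e⟩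
    refine S.no_square hfM hoB (k⁻¹ * n) ?_
    rw [show k⁻¹ * n * fB * (k⁻¹ * n)⁻¹ = k⁻¹ * (n * fB * n⁻¹) * k by group, ← e]
    group
  have hsub : O ∪ O2 ∪ TT ⊆ ((P : Subgroup G) : Set G) \ {1} := by
    rintro v ((hv | ⟨a, ha, rfl⟩) | hv)
    · exact hOP v hv
    · refine ⟨mul_mem (hOP a ha).1 (hOP a ha).1, fun e => (hOP a ha).2 ?_⟩
      have e' : a * a = 1 := e
      calc a = a ^ 5 * a := by rw [hOsq a ha, one_mul]
        _ = (a * a) * (a * a) * (a * a) := by simp [pow_succ, mul_assoc]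
        _ = 1 := by simp [e']
    · rcases hv with (h | h) | h
      · exact ⟨Subgroup.zpowers_le.mpr hy h.1, h.2⟩
      · exact ⟨Subgroup.zpowers_le.mpr hy₁ h.1, h.2⟩
      · exact ⟨Subgroup.zpowers_le.mpr hy₂ h.1, h.2⟩
  have hall := Set.eq_of_subset_of_ncard_le hsub (by
    rw [Set.ncard_union_eq hd, Set.ncard_union_eq hd2, hO2, hinj.ncard_image, hTT12, hO6,
      Set.ncard_sdiff_singleton_of_mem (one_mem _), ← Nat.card_coe_set_eq]
    exact (congrArg (· - 1) (S.card_sylow_five P)).le) (Set.toFinite _)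
  intro w hw
  obtain ⟨g, hg⟩ := hmove w hw
  have hgw : g * w * g⁻¹ ∈ ((P : Subgroup G) : Set G) \ {1} :=
    ⟨hg, fun e => by rw [conj_eq_one_iff.mp e, orderOf_one] at hw; omega⟩
  rw [← hall] at hgw
  have hcomp : ∀ g' : G, g' * g * w * (g' * g)⁻¹ = g' * (g * w * g⁻¹) * g'⁻¹ := fun g' => by group
  rcases hgw with h | h
  · obtain ⟨g', hg'⟩ := hBclass _ h
    exact ⟨g' * g, Or.inr (by rwa [hcomp])⟩
  · obtain ⟨g', hg'⟩ := hTclass _ h
    exact ⟨g' * g, Or.inl (by rwa [hcomp])⟩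

end Sub

end CfsgLib.HallJankoType
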