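import Mathlib

/-!
Elementary facts on the even permutations of five points.
-/

set_option autoImplicit false
set_option maxRecDepth 100000

namespace CfsgLib.HallJankoType

open Equiv

/-- An even involution of five points. -/
def IsInv5 (σ : Perm (Fin 5)) : Prop :=
  Perm.sign σ = 1 ∧ σ * σ = 1 ∧ σ ≠ 1

instance (σ : Perm (Fin 5)) : Decidable (IsInv5 σ) := by unfold IsInv5; infer_instance

/-- A reference involution. -/
def refInv : Perm (Fin 5) := swap 0 1 * swap 2 3

theorem isInv5_refInv : IsInv5 refInv := by decide +kernel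

theorem inv5_to_ref : ∀ σ : Perm (Fin 5), IsInv5 σ → ∃ c : Perm (Fin 5), Perm.sign c = 1 ∧ c * σ * c⁻¹ = refInv := by
  decide +kernel

theorem inv5_conj {σ τ : Perm (Fin 5)} (hσ : IsInv5 σ) (hτ : IsInv5 τ) :
    ∃ c : Perm (Fin 5), Perm.sign c = 1 ∧ c * σ * c⁻¹ = τ := by
  obtain ⟨c, hc, hcσ⟩ := inv5_to_ref σ hσ
  obtain ⟨d, hd, hdτ⟩ := inv5_to_ref τ hτ
  refine ⟨d⁻¹ * c, by simp [hc, hd], ?_⟩
  have e : d⁻¹ * c * σ * (d⁻¹ * c)⁻¹ = d⁻¹ * (c * σ * c⁻¹) * d := by group
  rw [e, hcσ, ← hdτ]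
  group

theorem inv5_cent_card : ∀ σ : Perm (Fin 5), IsInv5 σ →
    (Finset.univ.filter fun ρ : Perm (Fin 5) => Perm.sign ρ = 1 ∧ ρ * σ = σ * ρ).card = 4 := by
  decide +kernel

theorem inv5_count : (Finset.univ.filter fun ρ : Perm (Fin 5) => IsInv5 ρ).card = 15 := by decide +kernel

/-- An element of order five. -/
def refFive : Perm (Fin 5) := finRotate 5

theorem refFive_facts : Perm.sign refFive = 1 ∧ refFive ^ 5 = 1 ∧ refFive ≠ 1 := by decide +kernel

theorem five_normalizer : ∀ ρ : Perm (Fin 5), Perm.sign ρ = 1 →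
    ρ * refFive * ρ⁻¹ ≠ refFive ^ 2 ∧ ρ * refFive * ρ⁻¹ ≠ refFive ^ 3 := by
  decide +kernel

theorem five_cent_card : (Finset.univ.filter fun ρ : Perm (Fin 5) =>
    Perm.sign ρ = 1 ∧ ρ * refFive = refFive * ρ).card = 5 := by decide +kernel

theorem five_inverter : ∃ ρ : Perm (Fin 5), IsInv5 ρ ∧ ρ * refFive * ρ⁻¹ = refFive⁻¹ := by decide +kernel

/-- A commuting even involution of a pair lies in the four group. -/
theorem four_closed : ∀ α : Perm (Fin 5), IsInv5 α → ∀ β, IsInv5 β → α * β = β * α → α ≠ β →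
    ∀ ρ, Perm.sign ρ = 1 → ρ * α = α * ρ → ρ = 1 ∨ ρ = α ∨ ρ = β ∨ ρ = α * β := by
  intro α hα β hβ hc hne ρ hρ hρα
  classical
  have hs : ({1, α, β, α * β} : Finset (Perm (Fin 5))) ⊆
      Finset.univ.filter fun ρ : Perm (Fin 5) => Perm.sign ρ = 1 ∧ ρ * α = α * ρ := by
    intro x hx
    simp only [Finset.mem_insert, Finset.mem_singleton] at hx
    simp only [Finset.mem_filter, Finset.mem_univ, true_and]
    rcases hx with rfl | rfl | rfl | rfl
    · simp
    · exact ⟨hα.1, rfl⟩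
    · exact ⟨hβ.1, hc.symm⟩
    · exact ⟨by simp [hα.1, hβ.1], by rw [mul_assoc, ← hc]⟩
  have hab1 : α * β ≠ 1 := fun e => hne (by rw [eq_inv_of_mul_eq_one_left e, inv_eq_of_mul_eq_one_right hβ.2.1])
  have hcard : ({1, α, β, α * β} : Finset (Perm (Fin 5))).card = 4 := by
    rw [Finset.card_insert_of_notMem, Finset.card_insert_of_notMem, Finset.card_pair]
    · exact fun e => hα.2.2 (mul_eq_right.mp e.symm)
    · simp only [Finset.mem_insert, Finset.mem_singleton, not_or]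
      exact ⟨hne, fun e => hβ.2.2 (mul_eq_left.mp e.symm)⟩
    · simp only [Finset.mem_insert, Finset.mem_singleton, not_or]
      exact ⟨hα.2.2.symm, hβ.2.2.symm, hab1.symm⟩
  have heq := Finset.eq_of_subset_of_card_le hs (by rw [inv5_cent_card α hα, hcard])
  have hmem : ρ ∈ ({1, α, β, α * β} : Finset (Perm (Fin 5))) := by
    rw [heq]
    simp [hρ, hρα]
  simpa using hmem

end CfsgLib.HallJankoType
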