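import Cfsg.Agent.Lib.HallJankoType.Pair

/-!
Groups of Hall–Janko type: the two classes of involutions, and the element of order three centralising `t`.
-/

set_option autoImplicit false
set_option linter.unusedSectionVars false

namespace CfsgLib.HallJankoType

open Cfsg CfsgLargeExtra Equiv

universe u

variable {G : Type u} [Group G] [Finite G] {z x t t' : G} {Q Q' : Subgroup G} {pm pm' : G → Perm (Fin 5)}

theorem orderOf_two_of {y : G} (h : y * y = 1) (h1 : y ≠ 1) : orderOf y = 2 :=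
  orderOf_eq_prime (by rw [pow_two, h]) h1

theorem conj_sq (c y : G) (h : y * y = 1) : c * y * c⁻¹ * (c * y * c⁻¹) = 1 := by
  rw [show c * y * c⁻¹ * (c * y * c⁻¹) = c * (y * y) * c⁻¹ by group, h]; group

theorem conj_back {c a b : G} (h : c * a * c⁻¹ = b) : c⁻¹ * b * c = a := by rw [← h]; group

theorem exists_cfg_of_HJ (h : HJ z Q pm) :
    ∃ (x t t' : G) (Q' : Subgroup G) (pm' : G → Perm (Fin 5)), Cfg z x t t' Q Q' pm pm' := by
  obtain ⟨x, Q', pm', P⟩ := h.exists_pair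
  obtain ⟨t, t', K⟩ := P.exists_cfg
  exact ⟨x, t, t', Q', pm', K⟩

namespace Cfg

variable (K : Cfg z x t t' Q Q' pm pm')
include K

theorem t_not_Q : t ∉ Q := fun hq => K.inv.2.2 (K.P.h.pm_Q hq)

theorem t_ne : t ≠ 1 := fun e => K.t_not_Q (e ▸ one_mem _)

theorem ht : orderOf t = 2 := orderOf_two_of K.tt K.t_ne

theorem U_comm_t {u : G} (hu : u ∈ K.P.U) : u * t = t * u := K.P.U_central hu K.tz K.tx

theorem U_comm_t' {u : G} (hu : u ∈ K.P.U) : u * t' = t' * u := K.P.U_central hu K.tz' K.tx'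

/-- The centralizer of `z` and `t`. -/
def E (_K : Cfg z x t t' Q Q' pm pm') : Subgroup G :=
  Subgroup.centralizer ({z} : Set G) ⊓ Subgroup.centralizer ({t} : Set G)

theorem mem_E {e : G} : e ∈ K.E ↔ e * z = z * e ∧ e * t = t * e :=
  ⟨fun h => ⟨mem_cent.mp h.1, mem_cent.mp h.2⟩, fun h => ⟨mem_cent.mpr h.1, mem_cent.mpr h.2⟩⟩

theorem U_le_E : K.P.U ≤ K.E := fun u hu =>
  K.mem_E.mpr ⟨K.P.h.es.comm u (K.P.U_mem hu).1, K.U_comm_t hu⟩

theorem t_mem_E : t ∈ K.E := K.mem_E.mpr ⟨K.tz, rfl⟩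

theorem t'_mem_E : t' ∈ K.E := K.mem_E.mpr ⟨K.tz', K.comm.symm⟩

theorem pm_tt' : pm (t * t') = pm t * pm t' := K.P.h.pm_mul _ _ K.tz K.tz'

theorem pm_comm : pm t * pm t' = pm t' * pm t := by
  rw [← K.pm_tt', K.comm, K.P.h.pm_mul _ _ K.tz' K.tz]

theorem E_cases {e : G} (he : e ∈ K.E) :
    ∃ u ∈ K.P.U, e = u ∨ e = t * u ∨ e = t' * u ∨ e = t * t' * u := by
  obtain ⟨hez, het⟩ := K.mem_E.mp he
  have key : ∀ g ∈ K.E, pm g = 1 → g ∈ K.P.U := fun g hg h1 => by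
    obtain ⟨hgz, hgt⟩ := K.mem_E.mp hg
    exact K.centQ g ((K.P.h.pm_ker g hgz).mp h1) hgt
  have hsolve : ∀ w ∈ K.E, pm e = pm w → ∃ u ∈ K.P.U, e = w * u := by
    intro w hw hp
    refine ⟨w⁻¹ * e, key _ (mul_mem (inv_mem hw) he) ?_, by group⟩
    have hwz := (K.mem_E.mp hw).1
    rw [K.P.h.pm_mul _ _ (Commute.inv_left hwz) hez, K.P.h.pm_inv hwz, hp, inv_mul_cancel]
  have hc : pm e * pm t = pm t * pm e := by
    rw [← K.P.h.pm_mul _ _ hez K.tz, het, K.P.h.pm_mul _ _ K.tz hez]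
  rcases four_closed _ K.inv _ K.inv' K.pm_comm K.pm_ne _ (K.P.h.pm_sign e hez) hc with h | h | h | h
  · exact ⟨e, key e he h, Or.inl rfl⟩
  · obtain ⟨u, hu, e'⟩ := hsolve t K.t_mem_E h
    exact ⟨u, hu, Or.inr (Or.inl e')⟩
  · obtain ⟨u, hu, e'⟩ := hsolve t' K.t'_mem_E h
    exact ⟨u, hu, Or.inr (Or.inr (Or.inl e'))⟩
  · obtain ⟨u, hu, e'⟩ := hsolve (t * t') (mul_mem K.t_mem_E K.t'_mem_E) (h.trans K.pm_tt'.symm)
    exact ⟨u, hu, Or.inr (Or.inr (Or.inr e'))⟩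

theorem E_comm_x {e : G} (he : e ∈ K.E) : e * x = x * e := by
  obtain ⟨u, hu, rfl | rfl | rfl | rfl⟩ := K.E_cases he
  · exact (K.P.U_mem hu).2.1
  · exact Commute.mul_left K.tx (K.P.U_mem hu).2.1
  · exact Commute.mul_left K.tx' (K.P.U_mem hu).2.1
  · exact Commute.mul_left (Commute.mul_left K.tx K.tx') (K.P.U_mem hu).2.1

theorem E_sq {e : G} (he : e ∈ K.E) : e * e = 1 := by
  have h2 : ∀ w : G, ∀ u ∈ K.P.U, w * z = z * w → w * x = x * w → w * w = 1 → w * u * (w * u) = 1 := by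
    intro w u hu hwz hwx hww
    rw [show w * u * (w * u) = w * (u * w) * u by group, K.P.U_central hu hwz hwx,
      show w * (w * u) * u = w * w * (u * u) by group, hww, (K.P.U_mem hu).2.2, one_mul]
  obtain ⟨u, hu, rfl | rfl | rfl | rfl⟩ := K.E_cases he
  · exact (K.P.U_mem hu).2.2
  · exact h2 t u hu K.tz K.tx K.tt
  · exact h2 t' u hu K.tz' K.tx' K.tt'
  · refine h2 _ u hu (Commute.mul_left K.tz K.tz') (Commute.mul_left K.tx K.tx') ?_
    rw [show t * t' * (t * t') = t * (t' * t) * t' by group, ← K.comm,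
      show t * (t * t') * t' = t * t * (t' * t') by group, K.tt, K.tt', one_mul]

theorem E_inv {a : G} (ha : a ∈ K.E) : a⁻¹ = a := inv_eq_of_mul_eq_one_right (K.E_sq ha)

theorem E_comm {a b : G} (ha : a ∈ K.E) (hb : b ∈ K.E) : a * b = b * a := by
  have e := inv_eq_of_mul_eq_one_right (K.E_sq (mul_mem ha hb))
  rw [mul_inv_rev, K.E_inv ha, K.E_inv hb] at e
  exact e.symm

theorem E_inter_Q {e : G} (he : e ∈ K.E) (hq : e ∈ Q) : e ∈ K.P.U := K.centQ e hq (K.mem_E.mp he).2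

theorem card_E : Nat.card ↥K.E = 16 := by
  classical
  let φ : ↥K.E →* Perm (Fin 5) :=
    MonoidHom.mk' (fun a => pm a) fun a b => K.P.h.pm_mul _ _ (K.mem_E.mp a.2).1 (K.mem_E.mp b.2).1
  have hr : (φ.range : Set (Perm (Fin 5))) = {1, pm t, pm t', pm t * pm t'} := by
    ext σ
    constructor
    · rintro ⟨⟨a, ha⟩, rfl⟩
      have haz := (K.mem_E.mp ha).1
      refine Set.mem_insert_iff.mpr ?_
      show pm a = 1 ∨ pm a ∈ ({pm t, pm t', pm t * pm t'} : Set (Perm (Fin 5)))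
      obtain ⟨u, hu, rfl | rfl | rfl | rfl⟩ := K.E_cases ha
      · exact Or.inl (K.P.h.pm_Q (K.P.U_mem hu).1)
      · have huz := K.P.h.es.comm u (K.P.U_mem hu).1
        right; left; rw [K.P.h.pm_mul _ _ K.tz huz, K.P.h.pm_Q (K.P.U_mem hu).1, mul_one]
      · have huz := K.P.h.es.comm u (K.P.U_mem hu).1
        right; right; left; rw [K.P.h.pm_mul _ _ K.tz' huz, K.P.h.pm_Q (K.P.U_mem hu).1, mul_one]
      · have huz := K.P.h.es.comm u (K.P.U_mem hu).1
        right; right; right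
        show pm (t * t' * u) = pm t * pm t'
        rw [K.P.h.pm_mul _ _ (Commute.mul_left K.tz K.tz') huz, K.P.h.pm_Q (K.P.U_mem hu).1, mul_one, K.pm_tt']
    · rintro (rfl | rfl | rfl | rfl)
      exacts [⟨1, map_one φ⟩, ⟨⟨t, K.t_mem_E⟩, rfl⟩, ⟨⟨t', K.t'_mem_E⟩, rfl⟩,
        ⟨⟨t * t', mul_mem K.t_mem_E K.t'_mem_E⟩, K.pm_tt'⟩]
  have hr4 : Nat.card φ.range = 4 := by
    rw [show Nat.card φ.range = (φ.range : Set (Perm (Fin 5))).ncard from Nat.card_coe_set_eq _, hr,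
      Set.ncard_insert_of_notMem, Set.ncard_insert_of_notMem, Set.ncard_pair]
    · exact fun e => K.inv.2.2 (mul_eq_right.mp e.symm)
    · rintro (e | e)
      exacts [K.pm_ne e, K.inv'.2.2 (mul_eq_left.mp e.symm)]
    · rintro (e | e | e)
      · exact K.inv.2.2 e.symm
      · exact K.inv'.2.2 e.symm
      · exact K.pm_ne ((eq_inv_of_mul_eq_one_left e.symm).trans (inv_eq_of_mul_eq_one_right K.inv'.2.1))
  have hk : Nat.card φ.ker = 4 := by
    rw [← K.P.card_U]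
    exact Nat.card_congr
      { toFun := fun a => ⟨(a.1 : G),
          K.E_inter_Q a.1.2 ((K.P.h.pm_ker _ (K.mem_E.mp a.1.2).1).mp a.2)⟩
        invFun := fun u => ⟨⟨u.1, K.U_le_E u.2⟩, K.P.h.pm_Q (K.P.U_mem u.2).1⟩
        left_inv := fun a => rfl
        right_inv := fun u => rfl }
  rw [← Subgroup.card_mul_index φ.ker, Subgroup.index_ker, hk, hr4]

/-- All involutions of the coset `tQ` are conjugate under `Q`. -/
theorem coset_orbit {y : G} (hy : y * y = 1) (hq : t⁻¹ * y ∈ Q) : ∃ q ∈ Q, q * t * q⁻¹ = y := by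
  classical
  set T := {w : G | t⁻¹ * w ∈ Q ∧ w * w = 1} with hT
  have hsub : orb Q t ⊆ T := by
    rintro w ⟨q, hq', rfl⟩
    refine ⟨?_, conj_sq q t K.tt⟩
    rw [show t⁻¹ * (q * t * q⁻¹) = t⁻¹ * q * t⁻¹⁻¹ * q⁻¹ by group]
    exact mul_mem (K.P.h.nor_mem (Commute.inv_left K.tz) hq') (inv_mem hq')
  have hcond : ∀ q ∈ Q, t * q * (t * q) = 1 → q * t = t * q ∨ q * t = z * (t * q) := by
    intro q hq' h2
    have e1 : t * q * t = q⁻¹ := eq_inv_of_mul_eq_one_left (by rw [mul_assoc]; exact h2)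
    have e2 : q * t = t * q⁻¹ := by rw [← e1, ← mul_assoc, ← mul_assoc, K.tt, one_mul]
    rcases K.P.h.es.inv_cases hq' with e | e <;> rw [e] at e2
    · exact Or.inl e2
    · right; rw [e2, ← mul_assoc]; exact Commute.mul_left K.tz (K.P.h.es.comm q hq')
  have hU4 : (K.P.U : Set G).ncard = 4 := by rw [← Nat.card_coe_set_eq]; exact K.P.card_U
  have hT8 : T.ncard ≤ 8 := by
    have hmem : ∀ w ∈ T, t⁻¹ * w ∈ Q ∧
        (t⁻¹ * w * t = t * (t⁻¹ * w) ∨ t⁻¹ * w * t = z * (t * (t⁻¹ * w))) := fun w hw =>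
      ⟨hw.1, hcond _ hw.1 (by rw [mul_inv_cancel_left]; exact hw.2)⟩
    by_cases hall : ∀ w ∈ T, t⁻¹ * w ∈ K.P.U
    · have h4 : T.ncard ≤ 4 := by
        rw [← hU4]
        exact Set.ncard_le_ncard_of_injOn (fun w => t⁻¹ * w) hall (fun a _ b _ e => mul_left_cancel e)
          (Set.toFinite _)
      omega
    · push Not at hall
      obtain ⟨w₀, hw₀, hn⟩ := hall
      obtain ⟨hq₀, hc₀⟩ := hmem w₀ hw₀
      rcases K.flip _ hq₀ hc₀ with hU | hall'
      · exact absurd hU hn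
      have hsub' : T ⊆ (fun u => t * u) '' (K.P.U : Set G) ∪
          (fun u => t * (u * (t⁻¹ * w₀)⁻¹)) '' (K.P.U : Set G) := by
        intro w hw
        obtain ⟨hwq, hwc⟩ := hmem w hw
        rcases hall' _ hwq hwc with hU | hU
        · exact Or.inl ⟨_, hU, by simp⟩
        · exact Or.inr ⟨_, hU, by group⟩
      have := Set.ncard_le_ncard hsub' (Set.toFinite _)
      have := Set.ncard_union_le ((fun u => t * u) '' (K.P.U : Set G))
        ((fun u => t * (u * (t⁻¹ * w₀)⁻¹)) '' (K.P.U : Set G))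
      have := Set.ncard_image_le (f := fun u => t * u) (Set.toFinite (K.P.U : Set G))
      have := Set.ncard_image_le (f := fun u => t * (u * (t⁻¹ * w₀)⁻¹)) (Set.toFinite (K.P.U : Set G))
      omega
  have hc : Nat.card ↥(Q ⊓ Subgroup.centralizer ({t} : Set G)) = 4 := by
    rw [← K.P.card_U]
    congr 2
    ext q
    exact ⟨fun hq' => K.centQ q hq'.1 (mem_cent.mp hq'.2),
      fun hu => ⟨(K.P.U_mem hu).1, mem_cent.mpr (K.U_comm_t hu)⟩⟩
  have ho := ncard_orb Q t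
  rw [hc, K.P.h.card] at ho
  have heq : orb Q t = T := Set.eq_of_subset_of_ncard_le hsub (by omega) (Set.toFinite _)
  have hmem : y ∈ orb Q t := by rw [heq]; exact ⟨hq, hy⟩
  exact hmem

/-- The involutions outside `Q` form one class of `C(z)`. -/
theorem exists_conj_t {y : G} (hyz : y * z = z * y) (hy : y * y = 1) (hyQ : y ∉ Q) :
    ∃ c : G, c * z = z * c ∧ c * t * c⁻¹ = y := by
  have hinv : IsInv5 (pm y) := ⟨K.P.h.pm_sign y hyz, by rw [← K.P.h.pm_mul _ _ hyz hyz, hy, K.P.h.pm_one],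
    fun e => hyQ ((K.P.h.pm_ker y hyz).mp e)⟩
  obtain ⟨σ, hσ, hconj⟩ := inv5_conj K.inv hinv
  obtain ⟨c, hc, rfl⟩ := K.P.h.pm_surj σ hσ
  have hctz : c * t * c⁻¹ * z = z * (c * t * c⁻¹) :=
    Commute.mul_left (Commute.mul_left hc K.tz) (Commute.inv_left hc)
  have hq : t⁻¹ * (c⁻¹ * y * c) ∈ Q := by
    have hyz' : c⁻¹ * y * c * z = z * (c⁻¹ * y * c) :=
      Commute.mul_left (Commute.mul_left (Commute.inv_left hc) hyz) hc
    refine (K.P.h.pm_ker _ (Commute.mul_left (Commute.inv_left K.tz) hyz')).mp ?_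
    have e : pm (c⁻¹ * y * c) = pm t := by
      have := K.P.h.pm_conj (Commute.inv_left hc) hyz
      rw [inv_inv, K.P.h.pm_inv hc, inv_inv] at this
      rw [this, ← hconj]; group
    rw [K.P.h.pm_mul _ _ (Commute.inv_left K.tz) hyz', e, K.P.h.pm_inv K.tz, inv_mul_cancel]
  have hsq : c⁻¹ * y * c * (c⁻¹ * y * c) = 1 := by
    rw [show c⁻¹ * y * c * (c⁻¹ * y * c) = c⁻¹ * (y * y) * c by group, hy]; group
  obtain ⟨q, hqQ, e⟩ := K.coset_orbit hsq hq
  refine ⟨c * q, Commute.mul_left hc (K.P.h.es.comm q hqQ), ?_⟩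
  rw [show c * q * t * (c * q)⁻¹ = c * (q * t * q⁻¹) * c⁻¹ by group, e]; group

theorem orb_t : orb (Subgroup.centralizer ({z} : Set G)) t = {y | y * z = z * y ∧ y * y = 1 ∧ y ∉ Q} := by
  ext y
  constructor
  · rintro ⟨c, hc, rfl⟩
    have hc' := mem_cent.mp hc
    exact ⟨Commute.mul_left (Commute.mul_left hc' K.tz) (Commute.inv_left hc'), conj_sq c t K.tt,
      fun hq => K.t_not_Q ((K.P.h.nor_mem_iff hc').mp hq)⟩
  · rintro ⟨h1, h2, h3⟩
    obtain ⟨c, hc, e⟩ := K.exists_conj_t h1 h2 h3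
    exact ⟨c, mem_cent.mpr hc, e⟩

theorem ncard_out : {y : G | y * z = z * y ∧ y * y = 1 ∧ y ∉ Q}.ncard = 120 := by
  have e := ncard_orb (Subgroup.centralizer ({z} : Set G)) t
  rw [K.orb_t, K.P.h.card_C, show Nat.card ↥(Subgroup.centralizer ({z} : Set G) ⊓
    Subgroup.centralizer ({t} : Set G)) = 16 from K.card_E] at e
  omega

/-- Every involution is conjugate into the centralizer of `z`. -/
theorem exists_conj_mem_C {y : G} (hy : y * y = 1) : ∃ g : G, g * y * g⁻¹ * z = z * (g * y * g⁻¹) := by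
  classical
  haveI : Fact (Nat.Prime 2) := ⟨Nat.prime_two⟩
  obtain ⟨T⟩ : Nonempty (Sylow 2 ↥(Subgroup.centralizer ({z} : Set G))) := inferInstance
  set T' := (T : Subgroup ↥(Subgroup.centralizer ({z} : Set G))).map (Subgroup.subtype _) with hT'
  have hTC : ∀ g ∈ T', g * z = z * g := by
    rintro _ ⟨w, -, rfl⟩; exact mem_cent.mp w.2
  have hTp : IsPGroup 2 ↥T' := T.2.map _
  have hQT : Q ≤ T' := by
    intro q hq
    have hnorm : (Q.subgroupOf (Subgroup.centralizer ({z} : Set G))).Normal :=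
      ⟨fun a ha g => K.P.h.nor_mem (mem_cent.mp g.2) ha⟩
    have hp : IsPGroup 2 ↥(Q.subgroupOf (Subgroup.centralizer ({z} : Set G))) :=
      (IsPGroup.of_card (n := 5) (by rw [K.P.h.card]; rfl) : IsPGroup 2 ↥Q).of_equiv
        (Subgroup.subgroupOfEquivOfLe K.P.h.Q_le).symm
    exact ⟨⟨q, K.P.h.Q_le hq⟩, hp.le_sylow_of_normal T hq, rfl⟩
  obtain ⟨P, hP⟩ := hTp.exists_le_sylow
  have heq : (P : Subgroup G) = T' := by
    by_contra hne
    have hlt : T' < (P : Subgroup G) := lt_of_le_of_ne hP (Ne.symm hne)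
    haveI : Group.IsNilpotent ↥(P : Subgroup G) := P.2.isNilpotent
    have hT'' : T'.subgroupOf (P : Subgroup G) < ⊤ := lt_top_iff_ne_top.mpr fun e =>
      hne (le_antisymm (Subgroup.subgroupOf_eq_top.mp e) hP)
    obtain ⟨⟨n, hnP⟩, hn, hnn⟩ := SetLike.exists_of_lt (Group.normalizerCondition_of_isNilpotent _ hT'')
    have hn' : ∀ w ∈ T', n * w * n⁻¹ ∈ T' := fun w hw =>
      ((Subgroup.mem_normalizer_iff.mp hn) ⟨w, hP hw⟩).mp hw
    have hn'' : ∀ w ∈ T', n⁻¹ * w * n ∈ T' := fun w hw => by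
      have := ((Subgroup.mem_normalizer_iff.mp (inv_mem hn)) ⟨w, hP hw⟩).mp hw
      have h2 : n⁻¹ * w * n⁻¹⁻¹ ∈ T' := this
      rwa [inv_inv] at h2
    have hcase := K.P.h.es.cen (n * z * n⁻¹) fun q hq => by
      have h1 := hTC _ (hn'' q (hQT hq))
      calc n * z * n⁻¹ * q = n * (z * (n⁻¹ * q * n)) * n⁻¹ := by group
        _ = n * (n⁻¹ * q * n * z) * n⁻¹ := by rw [h1]
        _ = q * (n * z * n⁻¹) := by group
    have hnz : n * z = z * n := conj_fix_iff.mp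
      (hcase.resolve_left fun e => K.P.h.es.ne (conj_eq_one_iff.mp e))
    set M := ((P : Subgroup G).subgroupOf (Subgroup.centralizer ({z} : Set G)))
    have hM : IsPGroup 2 ↥M := P.2.comap_of_injective _ (Subgroup.subtype_injective _)
    have hle : (T : Subgroup ↥(Subgroup.centralizer ({z} : Set G))) ≤ M := fun w hw => hP ⟨w, hw, rfl⟩
    have hMT := T.3 hM hle
    have hnM : (⟨n, mem_cent.mpr hnz⟩ : ↥(Subgroup.centralizer ({z} : Set G))) ∈ M := hnP
    rw [hMT] at hnM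
    exact hnn ⟨_, hnM, rfl⟩
  have hyp : IsPGroup 2 ↥(Subgroup.zpowers y) := by
    by_cases h1 : y = 1
    · subst h1
      exact (IsPGroup.of_bot (p := 2)).to_le (by rw [Subgroup.zpowers_one_eq_bot])
    · exact IsPGroup.of_card (n := 1) (by rw [Nat.card_zpowers, orderOf_two_of hy h1, pow_one])
  obtain ⟨R, hR⟩ := hyp.exists_le_sylow
  obtain ⟨g, hg⟩ := MulAction.exists_smul_eq G R P
  refine ⟨g, hTC _ ?_⟩
  rw [← heq, ← hg, Sylow.coe_subgroup_smul]
  exact Subgroup.smul_mem_pointwise_smul y (MulAut.conj g) _ (hR (Subgroup.mem_zpowers y))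

theorem class_cases {y : G} (hy : y * y = 1) (hy1 : y ≠ 1) : IsConj z y ∨ IsConj t y := by
  obtain ⟨g, hg⟩ := K.exists_conj_mem_C hy
  have hgy : IsConj y (g * y * g⁻¹) := isConj_iff.mpr ⟨g, rfl⟩
  have hne : g * y * g⁻¹ ≠ 1 := fun e => hy1 (conj_eq_one_iff.mp e)
  by_cases hq : g * y * g⁻¹ ∈ Q
  · left
    refine IsConj.trans ?_ hgy.symm
    by_cases hz' : g * y * g⁻¹ = z
    · rw [hz']
    · exact K.P.h.isConj_S ⟨hq, conj_sq g y hy, hne, hz'⟩
  · right
    obtain ⟨c, -, e⟩ := K.exists_conj_t hg (conj_sq g y hy) hq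
    exact (isConj_iff.mpr ⟨c, e⟩).trans hgy.symm

theorem not_conj : ¬ IsConj z t := by
  intro hc
  obtain ⟨a, b, ha, hb, hne⟩ := K.P.h.classes
  have key : ∀ y : G, orderOf y = 2 → IsConj z y := fun y hy => by
    rcases K.class_cases (by have := pow_orderOf_eq_one y; rwa [hy, pow_two] at this)
      (fun e => by rw [e, orderOf_one] at hy; omega) with h | h
    · exact h
    · exact hc.trans h
  exact hne ((key a ha).symm.trans (key b hb))

theorem conj_z_iff {y : G} (hyz : y * z = z * y) (hy : y * y = 1) (hy1 : y ≠ 1) : IsConj z y ↔ y ∈ Q := by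
  constructor
  · intro hc
    by_contra hq
    obtain ⟨c, -, e⟩ := K.exists_conj_t hyz hy hq
    exact K.not_conj (hc.trans (isConj_iff.mpr ⟨c, e⟩).symm)
  · intro hq
    by_cases hz' : y = z
    · rw [hz']
    · exact K.P.h.isConj_S ⟨hq, hy, hy1, hz'⟩

theorem conj_z_mem_U {y : G} (hy : y ∈ K.E) (hy1 : y ≠ 1) : IsConj z y ↔ y ∈ K.P.U := by
  rw [K.conj_z_iff (K.mem_E.mp hy).1 (K.E_sq hy) hy1]
  exact ⟨K.E_inter_Q hy, fun hu => (K.P.U_mem hu).1⟩

theorem conj_U {u : G} (hu : u ∈ K.P.U) (hu1 : u ≠ 1) : IsConj z u :=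
  (K.conj_z_mem_U (K.U_le_E hu) hu1).mpr hu

/-- Elements centralising `z` that carry `t` to an element centralising `x` fix the four group. -/
theorem conj_x_cases {c y : G} (hc : c * z = z * c) (hcy : c * t * c⁻¹ = y) {p : G} (hp : p ∈ K.P.h.S)
    (hyp : y * p = p * y) : c⁻¹ * p * c = x ∨ c⁻¹ * p * c = z * x := by
  have hS := K.P.h.S_conj (Commute.inv_left hc) hp
  rw [inv_inv] at hS
  have hcomm : c⁻¹ * p * c * t = t * (c⁻¹ * p * c) := by
    rw [← conj_back hcy]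
    calc c⁻¹ * p * c * (c⁻¹ * y * c) = c⁻¹ * (p * y) * c := by group
      _ = c⁻¹ * (y * p) * c := by rw [hyp]
      _ = c⁻¹ * y * c * (c⁻¹ * p * c) := by group
  rcases K.centQ _ hS.1 hcomm with e | e | e | e
  · exact absurd e hS.2.2.1
  · exact absurd e hS.2.2.2
  · exact Or.inl e
  · exact Or.inr e

theorem move_x {k : G} (hz' : k * x * k⁻¹ = z) (h1 : k * z * k⁻¹ = x ∨ k * z * k⁻¹ = z * x) :
    ∃ h : G, h * t = t * h ∧ h * x * h⁻¹ = z ∧ (h * z * h⁻¹ = x ∨ h * z * h⁻¹ = z * x) := by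
  set y := k * t * k⁻¹
  have hyz : y * z = z * y := by
    calc y * z = k * t * k⁻¹ * (k * x * k⁻¹) := by rw [hz']
      _ = k * (t * x) * k⁻¹ := by group
      _ = k * (x * t) * k⁻¹ := by rw [K.tx]
      _ = k * x * k⁻¹ * (k * t * k⁻¹) := by group
      _ = z * y := by rw [hz']
  have hyv : ∀ v : G, k * z * k⁻¹ = v → y * v = v * y := fun v hv => by
    calc y * v = k * t * k⁻¹ * (k * z * k⁻¹) := by rw [hv]
      _ = k * (t * z) * k⁻¹ := by group
      _ = k * (z * t) * k⁻¹ := by rw [K.tz]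
      _ = k * z * k⁻¹ * (k * t * k⁻¹) := by group
      _ = v * y := by rw [hv]
  have hyQ : y ∉ Q := fun hq => K.not_conj <|
    ((K.conj_z_iff hyz (conj_sq k t K.tt) fun e => K.t_ne (conj_eq_one_iff.mp e)).mpr hq).trans
      (isConj_iff.mpr ⟨k, rfl⟩).symm
  obtain ⟨c, hc, e⟩ := K.exists_conj_t hyz (conj_sq k t K.tt) hyQ
  have hpS : k * z * k⁻¹ ∈ K.P.h.S := by
    rcases h1 with e | e <;> rw [e]
    · exact K.P.memS
    · exact ⟨mul_mem K.P.h.es.mem K.P.hx, (K.P.U_mem (mul_mem K.P.zU K.P.xU)).2.2, K.P.zx_ne_one, K.P.zx_ne_z⟩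
  refine ⟨c⁻¹ * k, ?_, ?_, ?_⟩
  · rw [← conj_fix_iff, show c⁻¹ * k * t * (c⁻¹ * k)⁻¹ = c⁻¹ * (k * t * k⁻¹) * c by group]
    exact conj_back e
  · rw [show c⁻¹ * k * x * (c⁻¹ * k)⁻¹ = c⁻¹ * (k * x * k⁻¹) * c by group, hz']
    exact conj_back (conj_fix_iff.mpr hc)
  · rw [show c⁻¹ * k * z * (c⁻¹ * k)⁻¹ = c⁻¹ * (k * z * k⁻¹) * c by group]
    exact K.conj_x_cases hc e hpS (hyv _ rfl)

theorem exists_cycle : ∃ k : G, k * x * k⁻¹ = z ∧ k * z * k⁻¹ = z * x ∧ k * (z * x) * k⁻¹ = x := by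
  obtain ⟨s, hs, hsx⟩ := K.P.exists_s
  obtain ⟨r, hr, hrz⟩ := K.P.symm.exists_s
  have hsz : s * z * s⁻¹ = z := conj_fix_iff.mpr (K.P.h.es.comm s hs)
  have hrx : r * x * r⁻¹ = x := conj_fix_iff.mpr (K.P.h'.es.comm r hr)
  set e := s * r with he
  have e1 : e * z * e⁻¹ = x := by
    rw [he, show s * r * z * (s * r)⁻¹ = s * (r * z * r⁻¹) * s⁻¹ by group, hrz,
      show s * (z * x) * s⁻¹ = s * z * s⁻¹ * (s * x * s⁻¹) by group, hsz, hsx, ← K.P.zx, ← mul_assoc, K.P.h.zz,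
      one_mul]
  have e2 : e * x * e⁻¹ = z * x := by
    rw [he, show s * r * x * (s * r)⁻¹ = s * (r * x * r⁻¹) * s⁻¹ by group, hrx, hsx, K.P.zx]
  have e3 : e * (z * x) * e⁻¹ = z := by
    rw [show e * (z * x) * e⁻¹ = e * z * e⁻¹ * (e * x * e⁻¹) by group, e1, e2, K.P.zx, ← mul_assoc, K.P.xx, one_mul]
  refine ⟨e⁻¹, ?_, ?_, ?_⟩ <;> rw [inv_inv]
  · exact conj_back e1
  · exact conj_back e3
  · exact conj_back e2

/-- An element of order three centralising `t` cycles the four group. -/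
theorem exists_d : ∃ d : G, d * t = t * d ∧ orderOf d = 3 ∧ d * z * d⁻¹ = x ∧ d * x * d⁻¹ = z * x ∧
    d * (z * x) * d⁻¹ = z := by
  obtain ⟨k, k1, k2, k3⟩ := K.exists_cycle
  obtain ⟨h, ht, hx', hz'⟩ := K.move_x k1 (Or.inr k2)
  have hcyc : h * z * h⁻¹ = z * x := by
    refine hz'.resolve_left fun e => ?_
    -- `z * x` has the same centralizer in `C(t)` as `z`
    obtain ⟨g, hgt, hgz⟩ : ∃ g : G, g * t = t * g ∧ g * (z * x) * g⁻¹ = z := by
      have hk : k * k * (z * x) * (k * k)⁻¹ = z := by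
        rw [show k * k * (z * x) * (k * k)⁻¹ = k * (k * (z * x) * k⁻¹) * k⁻¹ by group, k3, k1]
      set y := k * k * t * (k * k)⁻¹ with hydef
      have hc : t * (z * x) = z * x * t := Commute.mul_right K.tz K.tx
      have hyz : y * z = z * y := by
        calc y * z = k * k * t * (k * k)⁻¹ * (k * k * (z * x) * (k * k)⁻¹) := by rw [hk]
          _ = k * k * (t * (z * x)) * (k * k)⁻¹ := by group
          _ = k * k * (z * x * t) * (k * k)⁻¹ := by rw [hc]
          _ = k * k * (z * x) * (k * k)⁻¹ * (k * k * t * (k * k)⁻¹) := by group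
          _ = z * y := by rw [hk]
      have hyQ : y ∉ Q := fun hq => K.not_conj <|
        ((K.conj_z_iff hyz (conj_sq _ t K.tt) fun e => K.t_ne (conj_eq_one_iff.mp e)).mpr hq).trans
          (isConj_iff.mpr ⟨k * k, rfl⟩).symm
      obtain ⟨c, hc', e'⟩ := K.exists_conj_t hyz (conj_sq _ t K.tt) hyQ
      refine ⟨c⁻¹ * (k * k), ?_, ?_⟩
      · rw [← conj_fix_iff, show c⁻¹ * (k * k) * t * (c⁻¹ * (k * k))⁻¹ = c⁻¹ * (k * k * t * (k * k)⁻¹) * c by group]
        exact conj_back e'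
      · rw [show c⁻¹ * (k * k) * (z * x) * (c⁻¹ * (k * k))⁻¹ = c⁻¹ * (k * k * (z * x) * (k * k)⁻¹) * c by group, hk]
        exact conj_back (conj_fix_iff.mpr hc')
    set W := Subgroup.centralizer ({z * x} : Set G) ⊓ Subgroup.centralizer ({t} : Set G) with hW
    have hsub : K.E.map (MulAut.conj g⁻¹).toMonoidHom ≤ W := by
      rintro _ ⟨a, ha, rfl⟩
      obtain ⟨haz, hat⟩ := K.mem_E.mp ha
      have hgt' : g⁻¹ * t * g = t := conj_back (conj_fix_iff.mpr hgt)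
      have hgz' : g⁻¹ * z * g = z * x := conj_back hgz
      refine ⟨mem_cent.mpr ?_, mem_cent.mpr ?_⟩ <;>
        simp only [MulEquiv.coe_toMonoidHom, MulAut.conj_apply, inv_inv]
      · rw [← hgz']
        calc g⁻¹ * a * g * (g⁻¹ * z * g) = g⁻¹ * (a * z) * g := by group
          _ = g⁻¹ * (z * a) * g := by rw [haz]
          _ = g⁻¹ * z * g * (g⁻¹ * a * g) := by group
      · conv_lhs => rw [← hgt']
        conv_rhs => rw [← hgt']
        calc g⁻¹ * a * g * (g⁻¹ * t * g) = g⁻¹ * (a * t) * g := by group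
          _ = g⁻¹ * (t * a) * g := by rw [hat]
          _ = g⁻¹ * t * g * (g⁻¹ * a * g) := by group
    have hEW : K.E ≤ W := fun a ha => ⟨mem_cent.mpr (Commute.mul_right (K.mem_E.mp ha).1 (K.E_comm_x ha)), ha.2⟩
    have hcard : Nat.card ↥W = Nat.card ↥K.E := by
      refine le_antisymm ?_ (Subgroup.card_le_of_le hEW)
      have hinv : W.map (MulAut.conj g).toMonoidHom ≤ K.E := by
        rintro _ ⟨a, ⟨ha1, ha2⟩, rfl⟩
        have h1 := mem_cent.mp ha1
        have h2 := mem_cent.mp ha2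
        refine K.mem_E.mpr ⟨?_, ?_⟩ <;> simp only [MulEquiv.coe_toMonoidHom, MulAut.conj_apply]
        · rw [← hgz]
          calc g * a * g⁻¹ * (g * (z * x) * g⁻¹) = g * (a * (z * x)) * g⁻¹ := by group
            _ = g * (z * x * a) * g⁻¹ := by rw [h1]
            _ = g * (z * x) * g⁻¹ * (g * a * g⁻¹) := by group
        · have hgt' := conj_fix_iff.mpr hgt
          conv_lhs => rw [← hgt']
          conv_rhs => rw [← hgt']
          calc g * a * g⁻¹ * (g * t * g⁻¹) = g * (a * t) * g⁻¹ := by group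
            _ = g * (t * a) * g⁻¹ := by rw [h2]
            _ = g * t * g⁻¹ * (g * a * g⁻¹) := by group
      have := Subgroup.card_le_of_le hinv
      rwa [Subgroup.card_map_of_injective (f := (MulAut.conj g).toMonoidHom) (MulAut.conj g).injective] at this
    have hWE : W = K.E := (Subgroup.eq_of_le_of_card_ge hEW hcard.le).symm
    have hhW : h ∈ W := by
      refine ⟨mem_cent.mpr ?_, mem_cent.mpr ht⟩
      rw [← conj_fix_iff, show h * (z * x) * h⁻¹ = h * z * h⁻¹ * (h * x * h⁻¹) by group, e, hx', K.P.zx]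
    rw [hWE] at hhW
    have : h * z * h⁻¹ = z := conj_fix_iff.mpr (K.mem_E.mp hhW).1
    exact K.P.ne (e.symm.trans this)
  have hzx' : h * (z * x) * h⁻¹ = x := by
    rw [show h * (z * x) * h⁻¹ = h * z * h⁻¹ * (h * x * h⁻¹) by group, hcyc, hx', K.P.zx, mul_assoc, K.P.h.zz,
      mul_one]
  have h3E : h ^ 3 ∈ K.E := by
    refine K.mem_E.mpr ⟨?_, Commute.pow_left ht 3⟩
    rw [← conj_fix_iff, show h ^ 3 * z * (h ^ 3)⁻¹ = h * (h * (h * z * h⁻¹) * h⁻¹) * h⁻¹ by simp [pow_succ, mul_assoc], hcyc, hzx', hx']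
  have h6 : h ^ 6 = 1 := by
    rw [show (6 : ℕ) = 3 + 3 from rfl, pow_add]; exact K.E_sq h3E
  have m1 : h ^ 2 * z * (h ^ 2)⁻¹ = x := by
    rw [show h ^ 2 * z * (h ^ 2)⁻¹ = h * (h * z * h⁻¹) * h⁻¹ by simp [pow_succ, mul_assoc], hcyc, hzx']
  have m2 : h ^ 2 * x * (h ^ 2)⁻¹ = z * x := by
    rw [show h ^ 2 * x * (h ^ 2)⁻¹ = h * (h * x * h⁻¹) * h⁻¹ by simp [pow_succ, mul_assoc], hx', hcyc]
  have m3 : h ^ 2 * (z * x) * (h ^ 2)⁻¹ = z := by
    rw [show h ^ 2 * (z * x) * (h ^ 2)⁻¹ = h * (h * (z * x) * h⁻¹) * h⁻¹ by simp [pow_succ, mul_assoc], hzx', hx']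
  refine ⟨h ^ 2, Commute.pow_left ht 2, ?_, m1, m2, m3⟩
  refine orderOf_eq_prime (p := 3) (hp := ⟨Nat.prime_three⟩) (by rw [← pow_mul]; exact h6) fun e => ?_
  rw [e, one_mul, inv_one, mul_one] at m1
  exact K.P.ne m1.symm

end Cfg

end CfsgLib.HallJankoType
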