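import Cfsg.Agent.Lib.HallJankoType.Second
import Cfsg.Agent.Lib.Involutions
import Cfsg.Agent.S0213

/-!
Groups of Hall–Janko type: the order in terms of the number of conjugates of `z` centralising `t`.
-/

set_option autoImplicit false
set_option linter.unusedSectionVars false

namespace CfsgLib.HallJankoType

open Cfsg CfsgLargeExtra Equiv

universe u

variable {G : Type u} [Group G] [Finite G] {z x t t' d : G} {Q Q' : Subgroup G} {pm pm' : G → Perm (Fin 5)}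

theorem mem_zpowers_sq {w a : G} (hw : w * w = 1) (ha : a ∈ Subgroup.zpowers w) : a = 1 ∨ a = w := by
  obtain ⟨k, rfl⟩ := Subgroup.mem_zpowers_iff.mp ha
  rcases Int.even_or_odd' k with ⟨j, rfl | rfl⟩
  · left; rw [zpow_mul, zpow_two, hw, one_zpow]
  · right; rw [zpow_add, zpow_mul, zpow_two, hw, one_zpow, one_mul, zpow_one]

theorem commute_of_mem_zpowers {a b w : G} (ha : a * a = 1) (hb : b * b = 1) (hw : w * w = 1)
    (hmem : w ∈ Subgroup.zpowers (a * b)) : a * w = w * a ∧ b * w = w * b := by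
  obtain ⟨k, rfl⟩ := Subgroup.mem_zpowers_iff.mp hmem
  have h1 : a * (a * b) ^ k * a⁻¹ = (a * b) ^ k := by
    rw [CfsgLib.Involutions.conj_zpow_eq_inv ha hb, zpow_neg]
    exact inv_eq_of_mul_eq_one_right hw
  have h2 := conj_fix_iff.mp h1
  refine ⟨h2, ?_⟩
  show Commute b ((a * b) ^ k)
  have hb' : b = a⁻¹ * (a * b) := by group
  have h3 : Commute (a⁻¹ * (a * b)) ((a * b) ^ k) := Commute.mul_left (Commute.inv_left h2) (Commute.self_zpow _ _)
  rwa [← hb'] at h3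

namespace Cyc

variable (D : Cyc z x t t' d Q Q' pm pm')
include D

theorem S_t {p : G} (hp : p ∈ D.K.P.h.S) : (p * t = t * p → p = x ∨ p = z * x) ∧ p * t ≠ z * (t * p) := by
  have h1 : p * t = t * p → p = x ∨ p = z * x := by
    intro hc
    rcases D.K.centQ p hp.1 hc with e | e | e | e
    exacts [absurd e hp.2.2.1, absurd e hp.2.2.2, Or.inl e, Or.inr e]
  refine ⟨h1, fun e => ?_⟩
  have hpx := D.K.flipx p hp.1 (Or.inr e)
  have hU : p ∈ D.K.P.U := D.K.P.h.ea D.K.P.memS hp.1 hp.2.1 hpx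
  rw [D.K.U_comm_t hU] at e
  exact D.K.P.h.es.ne (mul_eq_right.mp e.symm)

theorem comm_S {b : G} (hbz : b * z = z * b) (hb : b * b = 1) (hbQ : b ∉ Q) :
    {a | a ∈ D.K.P.h.S ∧ a * b = b * a}.ncard = 2 ∧ ∀ a ∈ D.K.P.h.S, a * b ≠ z * (b * a) := by
  obtain ⟨c, hc, rfl⟩ := D.K.exists_conj_t hbz hb hbQ
  have hback : ∀ a ∈ D.K.P.h.S, c⁻¹ * a * c ∈ D.K.P.h.S := fun a ha => by
    have := D.K.P.h.S_conj (Commute.inv_left hc) ha
    rwa [inv_inv] at this
  constructor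
  · have hset : {a | a ∈ D.K.P.h.S ∧ a * (c * t * c⁻¹) = c * t * c⁻¹ * a} = {c * x * c⁻¹, c * (z * x) * c⁻¹} := by
      ext a
      simp only [Set.mem_ofPred_eq, Set.mem_insert_iff, Set.mem_singleton_iff]
      constructor
      · rintro ⟨ha, hab⟩
        have hm : c⁻¹ * a * c * t = t * (c⁻¹ * a * c) := by
          have e := (conj_comm_iff c (c⁻¹ * a * c) t).mp (by
            rw [show c * (c⁻¹ * a * c) * c⁻¹ = a by group]; exact hab)
          exact e
        rcases (D.S_t (hback a ha)).1 hm with e | e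
        · left; rw [← e]; group
        · right; rw [← e]; group
      · have key : ∀ u ∈ D.K.P.U, u ≠ 1 → u ≠ z →
            c * u * c⁻¹ ∈ D.K.P.h.S ∧ c * u * c⁻¹ * (c * t * c⁻¹) = c * t * c⁻¹ * (c * u * c⁻¹) := fun u hu h1 hz' =>
          ⟨D.K.P.h.S_conj hc ⟨(D.K.P.U_mem hu).1, (D.K.P.U_mem hu).2.2, h1, hz'⟩,
            (conj_comm_iff c u t).mpr (D.K.U_comm_t hu)⟩
        rintro (rfl | rfl)
        · exact key x D.K.P.xU D.K.P.x1 D.K.P.ne
        · exact key (z * x) (mul_mem D.K.P.zU D.K.P.xU) D.K.P.zx_ne_one D.K.P.zx_ne_z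
    rw [hset, Set.ncard_pair]
    intro e
    exact D.K.P.zx_ne_x (mul_left_cancel (mul_right_cancel e)).symm
  · intro a ha e
    refine (D.S_t (hback a ha)).2 ?_
    calc c⁻¹ * a * c * t = c⁻¹ * (a * (c * t * c⁻¹)) * c := by group
      _ = c⁻¹ * (z * (c * t * c⁻¹ * a)) * c := by rw [e]
      _ = c⁻¹ * z * c * (t * (c⁻¹ * a * c)) := by group
      _ = z * (t * (c⁻¹ * a * c)) := by rw [conj_back (conj_fix_iff.mpr hc)]

/-- The pairs whose product powers to `z`. -/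
theorem pair_z {a b : G} : (IsConj z a ∧ IsConj t b ∧ z ∈ Subgroup.zpowers (a * b)) ↔
    ((b * z = z * b ∧ b * b = 1 ∧ b ∉ Q) ∧ a ∈ D.K.P.h.S ∧ a * b ≠ b * a) := by
  constructor
  · rintro ⟨hca, hcb, hmem⟩
    obtain ⟨g, rfl⟩ := isConj_iff.mp hca
    obtain ⟨k, rfl⟩ := isConj_iff.mp hcb
    have ha2 := conj_sq g z D.K.P.h.zz
    have hb2 := conj_sq k t D.K.tt
    have ha1 : g * z * g⁻¹ ≠ 1 := fun e => D.K.P.h.es.ne (conj_eq_one_iff.mp e)
    obtain ⟨haz, hbz⟩ := commute_of_mem_zpowers ha2 hb2 D.K.P.h.zz hmem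
    have haQ := (D.K.conj_z_iff haz ha2 ha1).mp (isConj_iff.mpr ⟨g, rfl⟩)
    have hbQ : k * t * k⁻¹ ∉ Q := fun hq => D.K.not_conj
      (((D.K.conj_z_iff hbz hb2 fun e => D.K.t_ne (conj_eq_one_iff.mp e)).mpr hq).trans
        (isConj_iff.mpr ⟨k, rfl⟩).symm)
    have hnc : g * z * g⁻¹ * (k * t * k⁻¹) ≠ k * t * k⁻¹ * (g * z * g⁻¹) := by
      intro e
      have hw : g * z * g⁻¹ * (k * t * k⁻¹) * (g * z * g⁻¹ * (k * t * k⁻¹)) = 1 := by
        calc g * z * g⁻¹ * (k * t * k⁻¹) * (g * z * g⁻¹ * (k * t * k⁻¹))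
            = g * z * g⁻¹ * (k * t * k⁻¹ * (g * z * g⁻¹)) * (k * t * k⁻¹) := by group
          _ = g * z * g⁻¹ * (g * z * g⁻¹ * (k * t * k⁻¹)) * (k * t * k⁻¹) := by rw [e]
          _ = (g * z * g⁻¹ * (g * z * g⁻¹)) * ((k * t * k⁻¹) * (k * t * k⁻¹)) := by group
          _ = 1 := by rw [ha2, hb2, mul_one]
      rcases mem_zpowers_sq hw hmem with e' | e'
      · exact D.K.P.h.es.ne e'
      · refine hbQ ?_
        rw [eq_inv_mul_of_mul_eq e'.symm]
        exact mul_mem (inv_mem haQ) D.K.P.h.es.mem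
    refine ⟨⟨hbz, hb2, hbQ⟩, ⟨haQ, ha2, ha1, fun e => hnc ?_⟩, hnc⟩
    rw [e]; exact hbz.symm
  · rintro ⟨⟨hbz, hb2, hbQ⟩, ha, hne⟩
    obtain ⟨c, hc, e⟩ := D.K.exists_conj_t hbz hb2 hbQ
    refine ⟨D.K.P.h.isConj_S ha, isConj_iff.mpr ⟨c, e⟩, ?_⟩
    have hbi : b⁻¹ = b := inv_eq_of_mul_eq_one_right hb2
    have haz := D.K.P.h.es.comm a ha.1
    have hS := D.K.P.h.S_conj hbz ha
    set a' := b * a * b⁻¹ with ha'
    have hnc' : a * a' ≠ a' * a := by
      intro e'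
      rcases D.K.P.h.ea ha hS.1 hS.2.1 e'.symm with h1 | h1 | h1 | h1
      · exact hS.2.2.1 h1
      · exact hS.2.2.2 h1
      · exact hne (conj_fix_iff.mp h1).symm
      · refine (D.comm_S hbz hb2 hbQ).2 a ha ?_
        have e2 : b * a = z * a * b := mul_inv_eq_iff_eq_mul.mp h1
        rw [e2, show z * (z * a * b) = z * z * (a * b) by group, D.K.P.h.zz, one_mul]
    have e1 : a * a' = z * (a' * a) := D.K.P.A_noncomm ha.1 hS.1 hnc'
    have h4 : (a * b) ^ 4 = z := by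
      have h2 : (a * b) ^ 2 = a * a' := by rw [pow_two, ha', hbi]; group
      rw [show (4 : ℕ) = 2 * 2 from rfl, pow_mul, h2, pow_two]
      calc a * a' * (a * a') = z * (a' * a) * (a * a') := by nth_rewrite 1 [e1]; rfl
        _ = z * (a' * (a * a) * a') := by group
        _ = z := by rw [ha.2.1, mul_one, hS.2.1, mul_one]
    have := Subgroup.pow_mem _ (Subgroup.mem_zpowers (a * b)) 4
    rwa [h4] at this

theorem card_pairs_z :
    Nat.card {p : G × G // IsConj z p.1 ∧ IsConj t p.2 ∧ z ∈ Subgroup.zpowers (p.1 * p.2)} = 960 := by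
  classical
  letI : Fintype G := Fintype.ofFinite G
  set B := {b : G | b * z = z * b ∧ b * b = 1 ∧ b ∉ Q} with hB
  have e : {p : G × G // IsConj z p.1 ∧ IsConj t p.2 ∧ z ∈ Subgroup.zpowers (p.1 * p.2)} ≃
      Σ b : ↥B, ↥(D.K.P.h.S \ {a | a ∈ D.K.P.h.S ∧ a * (b : G) = (b : G) * a}) :=
    { toFun := fun p => ⟨⟨p.1.2, (D.pair_z.mp p.2).1⟩, ⟨p.1.1, (D.pair_z.mp p.2).2.1,
        fun hm => (D.pair_z.mp p.2).2.2 hm.2⟩⟩
      invFun := fun s => ⟨(s.2.1, s.1.1), D.pair_z.mpr ⟨s.1.2, s.2.2.1, fun e => s.2.2.2 ⟨s.2.2.1, e⟩⟩⟩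
      left_inv := fun p => rfl
      right_inv := fun s => rfl }
  have h8 : ∀ b : ↥B, Nat.card ↥(D.K.P.h.S \ {a | a ∈ D.K.P.h.S ∧ a * (b : G) = (b : G) * a}) = 8 := by
    rintro ⟨b, hbz, hb2, hbQ⟩
    rw [Nat.card_coe_set_eq, Set.ncard_sdiff (fun a ha => ha.1), (D.comm_S hbz hb2 hbQ).1, D.K.P.h.ncard_S]
  rw [Nat.card_congr e, Nat.card_sigma, Finset.sum_congr rfl fun b _ => h8 b, Finset.sum_const, Finset.card_univ,
    ← Nat.card_eq_fintype_card, Nat.card_coe_set_eq, hB, D.K.ncard_out]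
  rfl

theorem pair_t {a b : G} : (IsConj z a ∧ IsConj t b ∧ t ∈ Subgroup.zpowers (a * b)) ↔
    (a ∈ D.I ∧ t * b ∈ D.I ∧ Odd (orderOf (a * (t * b)))) := by
  obtain ⟨M, hnor, hMt, hME, -, -, -⟩ := D.exists_M
  have htM : t ∉ M := fun hm => D.K.t_not_Q ((D.K.P.U_mem ((hME t).mp ⟨hm, D.K.t_mem_E⟩)).1)
  constructor
  · rintro ⟨hca, hcb, hmem⟩
    obtain ⟨g, rfl⟩ := isConj_iff.mp hca
    obtain ⟨k, rfl⟩ := isConj_iff.mp hcb
    set a := g * z * g⁻¹ with had
    set b := k * t * k⁻¹ with hbd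
    have ha2 : a * a = 1 := conj_sq g z D.K.P.h.zz
    have hb2 : b * b = 1 := conj_sq k t D.K.tt
    obtain ⟨hat, hbt⟩ := commute_of_mem_zpowers ha2 hb2 D.K.tt hmem
    have haI : a ∈ D.I := ⟨hat, isConj_iff.mpr ⟨g, rfl⟩⟩
    have haM : a ∈ M := by
      have hm := haI
      rw [← D.orb_I] at hm
      obtain ⟨c, hc, e⟩ := hm
      rw [← e]
      exact hnor c (mem_cent.mp hc) z ((hME z).mpr D.K.P.zU).1
    set c := t * b with hcdef
    have hct : c * t = t * c := Commute.mul_left (Commute.refl t) hbt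
    have hc2 : c * c = 1 := by
      calc c * c = t * (b * t) * b := by rw [hcdef]; simp [mul_assoc]
        _ = t * (t * b) * b := by rw [hbt]
        _ = (t * t) * (b * b) := by simp [mul_assoc]
        _ = 1 := by rw [D.K.tt, hb2, mul_one]
    obtain ⟨j, hj⟩ := Subgroup.mem_zpowers_iff.mp hmem
    have hab : a * b = a * c * t := by
      rw [hcdef, mul_assoc a (t * b) t, mul_assoc t b t, hbt, ← mul_assoc t t, D.K.tt, one_mul]
    have hcomm : Commute (a * c) t := Commute.mul_left hat hct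
    rw [hab, hcomm.mul_zpow] at hj
    rcases Int.even_or_odd' j with ⟨i, rfl | rfl⟩
    · exfalso
      rw [zpow_mul t, zpow_two, D.K.tt, one_zpow, mul_one, zpow_mul, zpow_two] at hj
      refine htM ?_
      rw [← hj]
      refine zpow_mem ?_ i
      rw [show a * c * (a * c) = a * (c * a * c) by group]
      refine mul_mem haM ?_
      have := hnor c hct a haM
      rwa [inv_eq_of_mul_eq_one_right hc2] at this
    · have h1 : (a * c) ^ (2 * i + 1) = 1 := by
        rw [zpow_add t, zpow_mul t, zpow_two, D.K.tt, one_zpow, one_mul, zpow_one] at hj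
        exact mul_eq_right.mp hj
      have hodd : Odd (orderOf (a * c)) := by
        rw [← Nat.not_even_iff_odd]
        intro hev
        have hd := orderOf_dvd_iff_zpow_eq_one.mpr h1
        obtain ⟨r, hr⟩ := hev
        rw [hr] at hd
        obtain ⟨q, hq⟩ := hd
        push_cast at hq
        have h' : (2 : ℤ) ∣ 2 * i + 1 := ⟨(r : ℤ) * q, by rw [hq]; ring⟩
        omega
      obtain ⟨w, -, hw⟩ := CfsgLib.Involutions.exists_conj_eq_of_odd ha2 hc2 hodd
      exact ⟨haI, ⟨hct, haI.2.trans (isConj_iff.mpr ⟨w, hw⟩)⟩, hodd⟩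
  · rintro ⟨⟨hat, hca⟩, hcI, hodd⟩
    set c := t * b with hcdef
    have hb : b = t * c := by rw [hcdef, ← mul_assoc, D.K.tt, one_mul]
    obtain ⟨hct, hcc⟩ := hcI
    have hm : c ∈ D.I := ⟨hct, hcc⟩
    rw [← D.orb_I] at hm
    obtain ⟨g, hg, e⟩ := hm
    have hgt := mem_cent.mp hg
    refine ⟨hca, ?_, ?_⟩
    · rw [hb, ← e]
      have e2 : t * (g * z * g⁻¹) = g * (t * z) * g⁻¹ := by
        rw [show g * (t * z) * g⁻¹ = g * t * g⁻¹ * (g * z * g⁻¹) by group, conj_fix_iff.mpr hgt]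
      rw [e2]
      refine IsConj.trans ?_ (isConj_iff.mpr ⟨g, rfl⟩)
      have htz : t * z ∈ D.K.E := mul_mem D.K.t_mem_E (D.K.U_le_E D.K.P.zU)
      have hne : t * z ≠ 1 := fun e3 => D.K.t_not_Q (by
        rw [eq_inv_of_mul_eq_one_left e3]; exact inv_mem D.K.P.h.es.mem)
      refine (D.K.class_cases (D.K.E_sq htz) hne).resolve_left fun hz' => D.K.t_not_Q ?_
      have hu := (D.K.P.U_mem ((D.K.conj_z_mem_U htz hne).mp hz')).1
      have := mul_mem hu D.K.P.h.es.mem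
      rwa [mul_assoc, D.K.P.h.zz, mul_one] at this
    · have hcomm : Commute (a * c) t := Commute.mul_left hat hct
      have hab : a * b = a * c * t := by rw [hb, mul_assoc, hct]
      have e3 : (a * b) ^ orderOf (a * c) = t := by
        rw [hab, hcomm.mul_pow, pow_orderOf_eq_one, one_mul]
        obtain ⟨r, hr⟩ := hodd
        rw [hr, pow_succ, pow_mul, pow_two, D.K.tt, one_pow, one_mul]
      have := Subgroup.pow_mem _ (Subgroup.mem_zpowers (a * b)) (orderOf (a * c))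
      rwa [e3] at this

theorem odd_z {c : G} (hc : c ∈ D.I) : Odd (orderOf (z * c)) ↔ c ≠ x ∧ c ≠ z * x := by
  obtain ⟨hct, hcc⟩ := hc
  obtain ⟨g, hg⟩ := isConj_iff.mp hcc
  have hc2 : c * c = 1 := by rw [← hg]; exact conj_sq g z D.K.P.h.zz
  have hc1 : c ≠ 1 := fun e => D.K.P.h.es.ne (conj_eq_one_iff.mp (hg.trans e))
  constructor
  · intro hodd
    have h2 : ∀ u : G, z * u * (z * u) = 1 → z * u ≠ 1 → Odd (orderOf (z * u)) → False := fun u h1 h1' ho => by
      rw [orderOf_two_of h1 h1'] at ho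
      exact absurd ho (by decide)
    refine ⟨fun e => ?_, fun e => ?_⟩ <;> rw [e] at hodd
    · exact h2 x (D.K.P.U_mem (mul_mem D.K.P.zU D.K.P.xU)).2.2 D.K.P.zx_ne_one hodd
    · refine h2 (z * x) ?_ ?_ hodd
      · simp [← mul_assoc, D.K.P.h.zz, D.K.P.xx]
      · rw [← mul_assoc, D.K.P.h.zz, one_mul]; exact D.K.P.x1
  · rintro ⟨hx', hy'⟩
    by_contra hev
    rw [Nat.not_odd_iff_even] at hev
    obtain ⟨hwz, hwc⟩ := CfsgLib.Involutions.central_half D.K.P.h.zz hc2 hev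
    set w := (z * c) ^ (orderOf (z * c) / 2) with hw
    have hw2 : orderOf w = 2 := CfsgLib.Involutions.orderOf_half hev
    have hwt : w * t = t * w := Commute.pow_left (Commute.mul_left D.K.tz.symm hct) _
    have hwE : w ∈ D.K.E := D.K.mem_E.mpr ⟨hwz, hwt⟩
    obtain ⟨M, hnor, -, hME, -, -, -⟩ := D.exists_M
    have hcM : c ∈ M := by
      have hm : c ∈ D.I := ⟨hct, hcc⟩
      rw [← D.orb_I] at hm
      obtain ⟨k, hk, e⟩ := hm
      rw [← e]
      exact hnor k (mem_cent.mp hk) z ((hME z).mpr D.K.P.zU).1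
    have hwU : w ∈ D.K.P.U := (hME w).mp ⟨pow_mem (mul_mem ((hME z).mpr D.K.P.zU).1 hcM) _, hwE⟩
    have hw1 : w ≠ 1 := fun e => by rw [e, orderOf_one] at hw2; omega
    have hcE := D.fix_U hct hwU hw1 hwc.symm
    rcases (D.K.conj_z_mem_U hcE hc1).mp hcc with e | e | e | e
    · exact hc1 e
    · rw [e, D.K.P.h.zz, orderOf_one] at hev
      exact absurd hev (by decide)
    · exact hx' e
    · exact hy' e

theorem odd_count {a : G} (ha : a ∈ D.I) :
    {c | c ∈ D.I ∧ Odd (orderOf (a * c))}.ncard = D.I.ncard - 2 := by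
  have hm := ha
  rw [← D.orb_I] at hm
  obtain ⟨g, hg, e⟩ := hm
  have hgt := mem_cent.mp hg
  have hI : ∀ c, c ∈ D.I → ∀ k, k * t = t * k → k * c * k⁻¹ ∈ D.I := fun c hc k hk =>
    ⟨Commute.mul_left (Commute.mul_left hk hc.1) (Commute.inv_left hk), hc.2.trans (isConj_iff.mpr ⟨k, rfl⟩)⟩
  have hset : {c | c ∈ D.I ∧ Odd (orderOf (a * c))} = (fun c => g * c * g⁻¹) '' (D.I \ {x, z * x}) := by
    ext c
    constructor
    · rintro ⟨hc, ho⟩
      refine ⟨g⁻¹ * c * g, ⟨?_, ?_⟩, by group⟩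
      · have := hI c hc g⁻¹ (Commute.inv_left hgt)
        rwa [inv_inv] at this
      · have hc' : g⁻¹ * c * g ∈ D.I := by
          have := hI c hc g⁻¹ (Commute.inv_left hgt)
          rwa [inv_inv] at this
        have ho' : Odd (orderOf (z * (g⁻¹ * c * g))) := by
          rw [← CfsgLib.Involutions.orderOf_conj g, show g * (z * (g⁻¹ * c * g)) * g⁻¹ = g * z * g⁻¹ * c by group, e]
          exact ho
        simpa [not_or] using (D.odd_z hc').mp ho'
    · rintro ⟨c, ⟨hc, hne⟩, rfl⟩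
      refine ⟨hI c hc g hgt, ?_⟩
      rw [← e, show g * z * g⁻¹ * (g * c * g⁻¹) = g * (z * c) * g⁻¹ by group, CfsgLib.Involutions.orderOf_conj]
      exact (D.odd_z hc).mpr (by simpa [not_or] using hne)
  have hsub : ({x, z * x} : Set G) ⊆ D.I := by
    rintro w (rfl | rfl)
    · exact ⟨D.K.tx.symm, D.K.conj_U D.K.P.xU D.K.P.x1⟩
    · exact ⟨(D.K.U_comm_t (mul_mem D.K.P.zU D.K.P.xU)), D.K.conj_U (mul_mem D.K.P.zU D.K.P.xU) D.K.P.zx_ne_one⟩
  rw [hset, Set.ncard_image_of_injective _ fun a b e => mul_left_cancel (mul_right_cancel e),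
    Set.ncard_sdiff hsub, Set.ncard_pair fun e => D.K.P.zx_ne_x e.symm]

theorem card_pairs_t :
    Nat.card {p : G × G // IsConj z p.1 ∧ IsConj t p.2 ∧ t ∈ Subgroup.zpowers (p.1 * p.2)} =
      D.I.ncard * (D.I.ncard - 2) := by
  classical
  letI : Fintype G := Fintype.ofFinite G
  have e : {p : G × G // IsConj z p.1 ∧ IsConj t p.2 ∧ t ∈ Subgroup.zpowers (p.1 * p.2)} ≃
      Σ a : ↥D.I, ↥{c | c ∈ D.I ∧ Odd (orderOf ((a : G) * c))} :=
    { toFun := fun p => ⟨⟨p.1.1, (D.pair_t.mp p.2).1⟩, ⟨t * p.1.2, (D.pair_t.mp p.2).2⟩⟩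
      invFun := fun s => ⟨(s.1.1, t * s.2.1), D.pair_t.mpr ⟨s.1.2, by
        rw [← mul_assoc, D.K.tt, one_mul]; exact s.2.2⟩⟩
      left_inv := fun p => Subtype.ext (Prod.ext rfl (show t * (t * p.1.2) = p.1.2 by
        rw [← mul_assoc, D.K.tt, one_mul]))
      right_inv := fun s => Sigma.ext rfl (heq_of_eq (Subtype.ext (show t * (t * s.2.1) = s.2.1 by
        rw [← mul_assoc, D.K.tt, one_mul]))) }
  rw [Nat.card_congr e, Nat.card_sigma, Finset.sum_congr rfl fun a _ => (Nat.card_coe_set_eq _).trans (D.odd_count a.2),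
    Finset.sum_const, Finset.card_univ, ← Nat.card_eq_fintype_card, Nat.card_coe_set_eq]
  rfl

theorem card_G : Nat.card G = 15360 * D.I.ncard + 1920 * (D.I.ncard * (D.I.ncard - 2)) := by
  have e := Cfsg.Agent.S0213.result z t D.K.P.h.hz D.K.ht D.K.not_conj fun y hy => by
    refine D.K.class_cases ?_ fun e => by rw [e, orderOf_one] at hy; omega
    have := pow_orderOf_eq_one y
    rwa [hy, pow_two] at this
  rw [D.card_Ct, D.card_pairs_z, D.card_pairs_t, D.K.P.h.card_C] at e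
  rw [e]; ring

end Cyc

end CfsgLib.HallJankoType
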