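import Cfsg.Agent.Lib.HallJankoType.Local

/-!
Groups of Hall–Janko type: elements of order three and five in `M` and their centralizers.
-/

set_option autoImplicit false
set_option linter.unusedSectionVars false
set_option maxRecDepth 100000

namespace CfsgLib.HallJankoType

open Cfsg CfsgLargeExtra Equiv

universe u

theorem a5_five : (∃ a : alternatingGroup (Fin 5), a ^ 5 = 1 ∧ a ≠ 1) ∧
    (∀ a : alternatingGroup (Fin 5), a ^ 5 = 1 → a ≠ 1 → ∃ b : alternatingGroup (Fin 5), b * b = 1 ∧ b * a * b⁻¹ = a⁻¹) ∧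
    (∀ a b : alternatingGroup (Fin 5), a ^ 5 = 1 → a ≠ 1 → b * a * b⁻¹ ≠ a * a) ∧
    (∀ a b : alternatingGroup (Fin 5), a ^ 5 = 1 → a ≠ 1 → a * b = b * a →
      b = 1 ∨ b = a ∨ b = a * a ∨ b = a * a * a ∨ b = a * a * a * a) := by
  refine ⟨?_, ?_, ?_, ?_⟩ <;> decide +kernel

theorem a5_three : (∀ a : alternatingGroup (Fin 5), a ^ 3 = 1 → a ≠ 1 →
    ∃ b : alternatingGroup (Fin 5), b * b = 1 ∧ b * a * b⁻¹ = a⁻¹) := by decide +kernel

variable {G : Type u} [Group G] [Finite G] {z x t t' d : G} {Q Q' : Subgroup G} {pm pm' : G → Perm (Fin 5)}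
variable {M : Subgroup G}

/-- Transport of the alternating facts into `M`. -/
theorem mem_alt_transport (e : ↥M ≃* alternatingGroup (Fin 5)) {a : G} (ha : a ∈ M) {n : ℕ} (h : a ^ n = 1)
    (ha1 : a ≠ 1) : (e ⟨a, ha⟩) ^ n = 1 ∧ e ⟨a, ha⟩ ≠ 1 := by
  refine ⟨?_, fun e' => ha1 (congrArg Subtype.val (e.injective (e'.trans e.map_one.symm)))⟩
  rw [← map_pow, show (⟨a, ha⟩ : ↥M) ^ n = 1 from Subtype.ext h, map_one]

namespace Sub

variable {D : Cyc z x t t' d Q Q' pm pm'} (S : Sub D M)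
include S

theorem exists_five : ∃ f ∈ M, orderOf f = 5 := by
  haveI : Fact (Nat.Prime 5) := ⟨by norm_num⟩
  obtain ⟨⟨f, hf⟩, ho⟩ := exists_prime_orderOf_dvd_card' (G := ↥M) 5 (by rw [S.card_M]; norm_num)
  exact ⟨f, hf, by rw [Subgroup.orderOf_mk] at ho; exact ho⟩

theorem inverter {a : G} (ha : a ∈ M) (ha1 : a ≠ 1) (h : a ^ 3 = 1 ∨ a ^ 5 = 1) :
    ∃ v ∈ M, v * v = 1 ∧ v * a * v⁻¹ = a⁻¹ := by
  obtain ⟨e⟩ := S.exists_iso
  obtain ⟨b, hb2, hb⟩ : ∃ b : alternatingGroup (Fin 5), b * b = 1 ∧ b * e ⟨a, ha⟩ * b⁻¹ = (e ⟨a, ha⟩)⁻¹ := by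
    rcases h with h | h <;> obtain ⟨h', h1'⟩ := mem_alt_transport e ha h ha1
    · exact a5_three _ h' h1'
    · exact a5_five.2.1 _ h' h1'
  refine ⟨(e.symm b : ↥M), (e.symm b).2, ?_, ?_⟩
  · exact congrArg Subtype.val (show e.symm b * e.symm b = 1 by rw [← map_mul, hb2, map_one])
  · refine congrArg Subtype.val (show e.symm b * ⟨a, ha⟩ * (e.symm b)⁻¹ = ⟨a, ha⟩⁻¹ from e.injective ?_)
    simp [hb]

theorem cent_three {a b : G} (ha : a ∈ M) (hb : b ∈ M) (h : a ^ 3 = 1) (ha1 : a ≠ 1) (hc : a * b = b * a) :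
    b ∈ Subgroup.zpowers a := by
  obtain ⟨e⟩ := S.exists_iso
  obtain ⟨h', h1'⟩ := mem_alt_transport e ha h ha1
  rcases alt_five_cent_three _ (e ⟨b, hb⟩) h' h1' (by rw [← map_mul, ← map_mul]; exact congrArg e (Subtype.ext hc))
    with e' | e' | e'
  · rw [show b = 1 from congrArg Subtype.val (e.injective (e'.trans e.map_one.symm))]; exact one_mem _
  · rw [show b = a from congrArg Subtype.val (e.injective e')]; exact Subgroup.mem_zpowers a
  · rw [← map_mul] at e'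
    rw [show b = a * a from congrArg Subtype.val (e.injective e')]
    exact mul_mem (Subgroup.mem_zpowers a) (Subgroup.mem_zpowers a)

theorem cent_five {a b : G} (ha : a ∈ M) (hb : b ∈ M) (h : a ^ 5 = 1) (ha1 : a ≠ 1) (hc : a * b = b * a) :
    b ∈ Subgroup.zpowers a := by
  obtain ⟨e⟩ := S.exists_iso
  obtain ⟨h', h1'⟩ := mem_alt_transport e ha h ha1
  have ma := Subgroup.mem_zpowers a
  rcases a5_five.2.2.2 _ (e ⟨b, hb⟩) h' h1' (by rw [← map_mul, ← map_mul]; exact congrArg e (Subtype.ext hc))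
    with e' | e' | e' | e' | e'
  · rw [show b = 1 from congrArg Subtype.val (e.injective (e'.trans e.map_one.symm))]; exact one_mem _
  all_goals (try simp only [← map_mul] at e'); have e'' := congrArg Subtype.val (e.injective e')
  · rw [show b = a from e'']; exact ma
  · rw [show b = a * a from e'']; exact mul_mem ma ma
  · rw [show b = a * a * a from e'']; exact mul_mem (mul_mem ma ma) ma
  · rw [show b = a * a * a * a from e'']; exact mul_mem (mul_mem (mul_mem ma ma) ma) ma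

theorem five_no_square {a b : G} (ha : a ∈ M) (hb : b ∈ M) (h : a ^ 5 = 1) (ha1 : a ≠ 1) :
    b * a * b⁻¹ ≠ a * a := by
  intro hc
  obtain ⟨e⟩ := S.exists_iso
  obtain ⟨h', h1'⟩ := mem_alt_transport e ha h ha1
  refine a5_five.2.2.1 _ (e ⟨b, hb⟩) h' h1' ?_
  rw [← map_inv, ← map_mul, ← map_mul, ← map_mul]
  exact congrArg e (Subtype.ext hc)

/-- An element of order three centralising `M` and cycling `F`. -/
theorem exists_c0 : ∃ c : G, orderOf c = 3 ∧ c ∈ Subgroup.normalizer (F D : Set G) ∧ (∀ m ∈ M, c * m = m * c) ∧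
    c * t * c⁻¹ ∈ F D ∧ c * t * c⁻¹ ≠ t ∧ c * t * c⁻¹ ≠ 1 ∧ c * (c * t * c⁻¹) * c⁻¹ = t * (c * t * c⁻¹) ∧
    (∀ a, a ∈ F D ↔ a = 1 ∨ a = t ∨ a = c * t * c⁻¹ ∨ a = t * (c * t * c⁻¹)) := by
  classical
  set L := Subgroup.normalizer (F D : Set G) with hL
  have hF4 : (F D : Set G).ncard = 4 := by rw [← Nat.card_coe_set_eq]; exact S.card_F
  obtain ⟨f₁, hf₁, hf₁n⟩ : ∃ f ∈ F D, f ∉ ({1, t} : Set G) := by
    by_contra hall
    push Not at hall
    have := Set.ncard_le_ncard (show (F D : Set G) ⊆ {1, t} from hall) (Set.toFinite _)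
    rw [hF4, Set.ncard_pair D.K.t_ne.symm] at this
    omega
  rw [Set.mem_insert_iff, Set.mem_singleton_iff, not_or] at hf₁n
  obtain ⟨g, hg, hgt⟩ := S.exists_move hf₁ hf₁n.1
  obtain ⟨m, hm, hmc⟩ := S.exists_inner_part hg
  set c := m⁻¹ * g with hc
  have hmL : m ∈ L := mem_normalizer_of_le fun a ha => by
    rw [conj_fix_iff.mpr (S.F_central ha hm).symm]; exact ha
  have hcL : c ∈ L := mul_mem (inv_mem hmL) hg
  have hct : c * t * c⁻¹ = f₁ := by
    rw [hc, show m⁻¹ * g * t * (m⁻¹ * g)⁻¹ = m⁻¹ * (g * t * g⁻¹) * m by group, hgt]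
    exact conj_back (conj_fix_iff.mpr (S.F_central hf₁ hm).symm)
  have hFsq : ∀ a ∈ F D, a * a = 1 := fun a ha => D.K.E_sq ha.1
  have hFcomm : ∀ a ∈ F D, ∀ b ∈ F D, a * b = b * a := fun a ha b hb => D.K.E_comm ha.1 hb.1
  have htf : t * f₁ ∈ F D := mul_mem S.t_mem_F hf₁
  have hFset : ∀ a, a ∈ F D ↔ a = 1 ∨ a = t ∨ a = f₁ ∨ a = t * f₁ := by
    have h4 : ({1, t, f₁, t * f₁} : Set G).ncard = 4 := by
      rw [Set.ncard_insert_of_notMem, Set.ncard_insert_of_notMem, Set.ncard_pair]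
      · exact fun e => D.K.t_ne (mul_eq_right.mp e.symm)
      · rintro (e | e)
        exacts [hf₁n.2 e.symm, hf₁n.1 (mul_eq_left.mp e.symm)]
      · rintro (e | e | e)
        · exact D.K.t_ne e.symm
        · exact hf₁n.1 e.symm
        · exact hf₁n.2 ((eq_inv_of_mul_eq_one_right e.symm).trans (inv_eq_of_mul_eq_one_right D.K.tt))
    have hsub : ({1, t, f₁, t * f₁} : Set G) ⊆ (F D : Set G) := by
      rintro a (rfl | rfl | rfl | rfl)
      exacts [one_mem _, S.t_mem_F, hf₁, htf]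
    have heq := Set.eq_of_subset_of_ncard_le hsub (by rw [hF4, h4]) (Set.toFinite _)
    exact fun a => (Set.ext_iff.mp heq a).symm
  -- the cube lies in `F`
  have hc3 : c ^ 3 ∈ F D := by
    haveI : ((Subgroup.centralizer ({t} : Set G)).subgroupOf L).Normal :=
      ⟨fun a ha k => mem_cent.mpr (S.norm_Ct k.2 (mem_cent.mp ha))⟩
    have hidx : ((Subgroup.centralizer ({t} : Set G)).subgroupOf L).index = 3 := by
      have hle : Subgroup.centralizer ({t} : Set G) ≤ L := fun y hy => mem_normalizer_of_le fun a ha => by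
        rw [conj_fix_iff.mpr ((S.F_eq_center.mp ha).2 y (mem_cent.mp hy)).symm]
        exact ha
      have := Subgroup.card_mul_index ((Subgroup.centralizer ({t} : Set G)).subgroupOf L)
      rw [Nat.card_congr (Subgroup.subgroupOfEquivOfLe hle).toEquiv, S.card_C, S.norm_card] at this
      omega
    have h3 := Subgroup.pow_index_mem ((Subgroup.centralizer ({t} : Set G)).subgroupOf L) ⟨c, hcL⟩
    rw [hidx] at h3
    obtain ⟨f, hf, m', hm', e⟩ := S.exists_FM (mem_cent.mp h3 : c ^ 3 * t = t * c ^ 3)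
    have : m' = 1 := S.M_no_center hm' fun y hy => by
      have h1 : c ^ 3 * y = y * c ^ 3 := Commute.pow_left (hmc y hy) 3
      rw [e] at h1
      have h2 := S.F_central hf hy
      calc m' * y = f⁻¹ * (f * m' * y) := by group
        _ = f⁻¹ * (y * (f * m')) := by rw [h1]
        _ = f⁻¹ * (y * f) * m' := by group
        _ = f⁻¹ * (f * y) * m' := by rw [h2]
        _ = y * m' := by group
    rw [e, this, mul_one]
    exact hf
  have hc3t : c ^ 3 * t = t * c ^ 3 := hFcomm _ hc3 _ S.t_mem_F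
  have hc6 : c ^ 6 = 1 := by rw [show (6 : ℕ) = 3 + 3 from rfl, pow_add]; exact hFsq _ hc3
  -- pass to the element of order three
  set c₀ := c ^ 4 with hc₀
  have hc₀c : ∀ a ∈ F D, c₀ * a * c₀⁻¹ = c * a * c⁻¹ := fun a ha => by
    rw [hc₀, show c ^ 4 * a * (c ^ 4)⁻¹ = c * (c ^ 3 * a * (c ^ 3)⁻¹) * c⁻¹ by simp [pow_succ, mul_assoc],
      conj_fix_iff.mpr (hFcomm _ hc3 _ ha)]
  have hcF : ∀ a ∈ F D, c * a * c⁻¹ ∈ F D := fun a ha => ((Subgroup.mem_normalizer_iff.mp hcL) a).mp ha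
  have e1 : c₀ * t * c₀⁻¹ = f₁ := by rw [hc₀c t S.t_mem_F, hct]
  have e2 : c₀ * f₁ * c₀⁻¹ = t * f₁ := by
    rw [hc₀c f₁ hf₁]
    rcases (hFset _).mp (hcF f₁ hf₁) with e | e | e | e
    · exact absurd (conj_eq_one_iff.mp e) hf₁n.1
    · exfalso
      have h2 : c * (c * t * c⁻¹) * c⁻¹ = t := by rw [hct, e]
      have h3 : c ^ 3 * t * (c ^ 3)⁻¹ = f₁ := by
        rw [show c ^ 3 * t * (c ^ 3)⁻¹ = c * (c * (c * t * c⁻¹) * c⁻¹) * c⁻¹ by simp [pow_succ, mul_assoc], h2, hct]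
      rw [conj_fix_iff.mpr hc3t] at h3
      exact hf₁n.2 h3.symm
    · rw [← hct] at e
      exact absurd (hct.symm.trans (mul_left_cancel (mul_right_cancel e))) hf₁n.2
    · exact e
  refine ⟨c₀, orderOf_eq_prime (hp := ⟨Nat.prime_three⟩) ?_ fun e => hf₁n.2 ?_, pow_mem hcL 4,
    fun y hy => Commute.pow_left (hmc y hy) 4, e1 ▸ hf₁, e1 ▸ hf₁n.2, e1 ▸ hf₁n.1, by rw [e1, e2], e1 ▸ hFset⟩
  · rw [hc₀, ← pow_mul, show 4 * 3 = 6 * 2 from rfl, pow_mul, hc6, one_pow]
  · rw [← e1, e]; simp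

/-- The centralizer in `C(t)` of an element of `M` of odd prime order. -/
theorem cent_in_Ct {a w : G} (ha : a ∈ M) (h : (a ^ 3 = 1 ∨ a ^ 5 = 1) ∧ a ≠ 1) :
    (w * t = t * w ∧ w * a = a * w) ↔ ∃ f ∈ F D, ∃ i : ℤ, w = f * a ^ i := by
  constructor
  · rintro ⟨hwt, hwa⟩
    obtain ⟨f, hf, m, hm, rfl⟩ := S.exists_FM hwt
    have h2 : a * m = m * a := by
      calc a * m = f⁻¹ * (f * a) * m := by group
        _ = f⁻¹ * (a * f) * m := by rw [S.F_central hf ha]
        _ = f⁻¹ * (a * (f * m)) := by group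
        _ = f⁻¹ * (f * m * a) := by rw [hwa]
        _ = m * a := by group
    have hz' : m ∈ Subgroup.zpowers a := by
      rcases h.1 with h' | h'
      · exact S.cent_three ha hm h' h.2 h2
      · exact S.cent_five ha hm h' h.2 h2
    obtain ⟨i, rfl⟩ := Subgroup.mem_zpowers_iff.mp hz'
    exact ⟨f, hf, i, rfl⟩
  · rintro ⟨f, hf, i, rfl⟩
    exact ⟨Commute.mul_left (D.K.mem_E.mp hf.1).2 (Commute.zpow_left (S.Mt a ha) i),
      Commute.mul_left (S.F_central hf ha) (Commute.zpow_left (Commute.refl a) i)⟩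

theorem card_G : Nat.card G = 604800 := D.card_eq

/-- The centralizer of an element of order `p` in `M`: twelve or sixty times `p`. -/
theorem card_cent {p : ℕ} [hp : Fact p.Prime] (h35 : p = 3 ∨ p = 5) {a : G} (ha : a ∈ M) (ho : orderOf a = p) :
    (Nat.card ↥(Subgroup.centralizer ({a} : Set G)) = 12 * p ∨
      Nat.card ↥(Subgroup.centralizer ({a} : Set G)) = 60 * p) ∧
    ∃ N : Subgroup ↥(Subgroup.centralizer ({a} : Set G)),
      N = Subgroup.zpowers ⟨a, mem_cent.mpr rfl⟩ ∧ ∃ _ : N.Normal,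
        Nat.card ↥(Subgroup.centralizer ({a} : Set G)) = 60 * p →
          Nonempty (↥(Subgroup.centralizer ({a} : Set G)) ⧸ N ≃* alternatingGroup (Fin 5)) := by
  obtain ⟨c, hc3, -, hcM, hf₁, hf₁t, hf₁1, hcyc, hFset⟩ := S.exists_c0
  have ha1 : a ≠ 1 := fun e => by rw [e, orderOf_one] at ho; exact hp.out.ne_one ho.symm
  have hpow : a ^ 3 = 1 ∨ a ^ 5 = 1 := by
    rcases h35 with rfl | rfl
    · exact Or.inl (ho ▸ pow_orderOf_eq_one a)
    · exact Or.inr (ho ▸ pow_orderOf_eq_one a)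
  set W := Subgroup.centralizer ({a} : Set G) with hW
  have hFW : ∀ f ∈ F D, f ∈ W := fun f hf => mem_cent.mpr (S.F_central hf ha)
  set f₁ := c * t * c⁻¹ with hf₁def
  let g' : ↥W := ⟨a, mem_cent.mpr rfl⟩
  let tW : ↥W := ⟨t, hFW t S.t_mem_F⟩
  let fW : ↥W := ⟨f₁, hFW f₁ hf₁⟩
  let cW : ↥W := ⟨c, mem_cent.mpr (hcM a ha)⟩
  refine card_of_four_mod (by rcases h35 with rfl | rfl <;> norm_num) g' tW fW cW ?_ ?_
    (Subtype.ext D.K.tt) (Subtype.ext (D.K.E_sq hf₁.1)) (Subtype.ext (D.K.E_comm D.K.t_mem_E hf₁.1))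
    (fun e => D.K.t_ne (congrArg Subtype.val e)) (fun e => hf₁1 (congrArg Subtype.val e))
    (fun e => hf₁t (congrArg Subtype.val e).symm) ?_ (Subtype.ext rfl) (Subtype.ext hcyc)
  · rw [← Subgroup.orderOf_coe]; exact ho
  · exact fun w => Subtype.ext (mem_cent.mp w.2)
  · intro w
    constructor
    · intro hw
      obtain ⟨f, hf, i, e⟩ := (S.cent_in_Ct ha ⟨hpow, ha1⟩).mp
        ⟨(congrArg Subtype.val hw : (w : G) * t = t * w), mem_cent.mp w.2⟩
      refine ⟨i, ?_⟩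
      rcases (hFset f).mp hf with h | h | h | h <;> rw [h] at e
      · exact Or.inl (Subtype.ext (by simpa [g'] using e))
      · exact Or.inr (Or.inl (Subtype.ext (by simpa [g', tW] using e)))
      · exact Or.inr (Or.inr (Or.inl (Subtype.ext (by simpa [g', fW] using e))))
      · exact Or.inr (Or.inr (Or.inr (Subtype.ext (by simpa [g', fW, tW] using e))))
    · rintro ⟨i, rfl | rfl | rfl | rfl⟩ <;> apply Subtype.ext
      · simpa [g', tW] using (Commute.zpow_left (S.Mt a ha) i).eq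
      all_goals
        have hai : a ^ i * t = t * a ^ i := (Commute.zpow_left (S.Mt a ha) i).eq
        have hf1t : f₁ * t = t * f₁ := D.K.E_comm hf₁.1 D.K.t_mem_E
      · simpa [g', tW] using (Commute.mul_left (Commute.refl t) hai).eq
      · simpa [g', tW, fW] using (Commute.mul_left hf1t hai).eq
      · simpa [g', tW, fW] using (Commute.mul_left (Commute.mul_left (Commute.refl t) hf1t) hai).eq

end Sub

end CfsgLib.HallJankoType
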