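import Cfsg.Agent.Lib.HallJankoType.Norm

/-!
Groups of Hall–Janko type: elements of odd prime order, general tools.
-/

set_option autoImplicit false
set_option linter.unusedSectionVars false
set_option maxRecDepth 100000

namespace CfsgLib.HallJankoType

open Cfsg CfsgLargeExtra Equiv

universe u

variable {G : Type u} [Group G] [Finite G]

/-- An element of a centralizer of a conjugate, pulled back. -/
theorem orderOf_conj' (g a : G) : orderOf (g * a * g⁻¹) = orderOf a := by
  rw [← MulAut.conj_apply, MulEquiv.orderOf_eq]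

theorem cent_conj {g a b c : G} (hg : g * a * g⁻¹ = b) :
    c * b = b * c ↔ g⁻¹ * c * g * a = a * (g⁻¹ * c * g) := by
  have h := conj_comm_iff g (g⁻¹ * c * g) a
  rw [show g * (g⁻¹ * c * g) * g⁻¹ = c by group, hg] at h
  exact h

theorem card_cent_conj (g a : G) :
    Nat.card ↥(Subgroup.centralizer ({g * a * g⁻¹} : Set G)) = Nat.card ↥(Subgroup.centralizer ({a} : Set G)) :=
  Nat.card_congr
    { toFun := fun c => ⟨g⁻¹ * c.1 * g, mem_cent.mpr ((cent_conj rfl).mp (mem_cent.mp c.2))⟩
      invFun := fun c => ⟨g * c.1 * g⁻¹, mem_cent.mpr ((conj_comm_iff g c.1 a).mpr (mem_cent.mp c.2))⟩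
      left_inv := fun c => Subtype.ext (by show g * (g⁻¹ * c.1 * g) * g⁻¹ = c.1; group)
      right_inv := fun c => Subtype.ext (by show g⁻¹ * (g * c.1 * g⁻¹) * g = c.1; group) }

/-- Elements of order `p` in a subgroup whose order is divisible by `p` only once span conjugate subgroups. -/
theorem conj_of_sylow_prime {p : ℕ} [hp : Fact p.Prime] {H : Subgroup G} (h1 : p ∣ Nat.card ↥H)
    (h2 : ¬ p ^ 2 ∣ Nat.card ↥H) {a b : G} (ha : a ∈ H) (hb : b ∈ H) (hoa : orderOf a = p) (hob : orderOf b = p) :
    ∃ c ∈ H, c * b * c⁻¹ ∈ Subgroup.zpowers a := by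
  have hfac : (Nat.card ↥H).factorization p = 1 := by
    have hH : Nat.card ↥H ≠ 0 := Nat.card_pos.ne'
    refine le_antisymm ?_ (hp.out.factorization_pos_of_dvd hH h1)
    by_contra hlt
    exact h2 ((hp.out.pow_dvd_iff_le_factorization hH).mpr (by omega))
  have hc1 : Nat.card ↥(Subgroup.zpowers (⟨a, ha⟩ : ↥H)) = p ^ (Nat.card ↥H).factorization p := by
    rw [hfac, pow_one, Nat.card_zpowers, ← Subgroup.orderOf_coe]; exact hoa
  have hc2 : Nat.card ↥(Subgroup.zpowers (⟨b, hb⟩ : ↥H)) = p ^ (Nat.card ↥H).factorization p := by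
    rw [hfac, pow_one, Nat.card_zpowers, ← Subgroup.orderOf_coe]; exact hob
  obtain ⟨c, hc⟩ := MulAction.exists_smul_eq ↥H (Sylow.ofCard _ hc2) (Sylow.ofCard _ hc1)
  have hmem : c * ⟨b, hb⟩ * c⁻¹ ∈ Subgroup.zpowers (⟨a, ha⟩ : ↥H) := by
    have h3 : ((c • Sylow.ofCard _ hc2 : Sylow p ↥H) : Subgroup ↥H) = Subgroup.zpowers (⟨a, ha⟩ : ↥H) := by
      rw [hc]; rfl
    rw [← h3, Sylow.coe_subgroup_smul]
    exact Subgroup.smul_mem_pointwise_smul _ (MulAut.conj c) _ (Subgroup.mem_zpowers _)
  obtain ⟨k, hk⟩ := Subgroup.mem_zpowers_iff.mp hmem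
  exact ⟨c, c.2, Subgroup.mem_zpowers_iff.mpr ⟨k, congrArg Subtype.val hk⟩⟩

/-- A subgroup of order `p` is the span of each of its nontrivial elements. -/
theorem zpowers_eq_of_mem {p : ℕ} [hp : Fact p.Prime] {a b : G} (ha : orderOf a = p) (hb : b ∈ Subgroup.zpowers a)
    (hb1 : b ≠ 1) : Subgroup.zpowers b = Subgroup.zpowers a ∧ orderOf b = p := by
  have hle : Subgroup.zpowers b ≤ Subgroup.zpowers a := Subgroup.zpowers_le.mpr hb
  have hd := Subgroup.card_dvd_of_le hle
  rw [Nat.card_zpowers, Nat.card_zpowers, ha] at hd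
  have hob : orderOf b = p := ((Nat.dvd_prime hp.out).mp hd).resolve_left fun e => hb1 (orderOf_eq_one_iff.mp e)
  exact ⟨Subgroup.eq_of_le_of_card_ge hle (by rw [Nat.card_zpowers, Nat.card_zpowers, ha, hob]), hob⟩

/-- A Sylow four group whose involutions have centralizers `4p`, fused cyclically, modulo a central `⟨g⟩`. -/
theorem card_of_four_mod {W : Type u} [Group W] [Finite W] {p : ℕ} [hp : Fact p.Prime] (hp2 : p ≠ 2) (g a b c : W)
    (hg : orderOf g = p) (hgc : ∀ w : W, w * g = g * w) (haa : a * a = 1) (hbb : b * b = 1) (hab : a * b = b * a)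
    (ha1 : a ≠ 1) (hb1 : b ≠ 1) (hne : a ≠ b)
    (hC : ∀ w : W, w * a = a * w ↔ ∃ i : ℤ, w = g ^ i ∨ w = a * g ^ i ∨ w = b * g ^ i ∨ w = a * b * g ^ i)
    (hca : c * a * c⁻¹ = b) (hcb : c * b * c⁻¹ = a * b) :
    (Nat.card W = 12 * p ∨ Nat.card W = 60 * p) ∧
      ∃ N : Subgroup W, N = Subgroup.zpowers g ∧ ∃ _ : N.Normal,
        Nat.card W = 60 * p → Nonempty (W ⧸ N ≃* alternatingGroup (Fin 5)) := by
  classical
  haveI : Fact (Nat.Prime 2) := ⟨Nat.prime_two⟩
  have hodd : Odd p := hp.out.odd_of_ne_two hp2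
  have hai : a⁻¹ = a := inv_eq_of_mul_eq_one_right haa
  have hbi : b⁻¹ = b := inv_eq_of_mul_eq_one_right hbb
  have habab : a * b * (a * b) = 1 := by
    rw [show a * b * (a * b) = a * (b * a) * b by group, ← hab, show a * (a * b) * b = a * a * (b * b) by group,
      haa, hbb, mul_one]
  have hab1 : a * b ≠ 1 := fun e => hne (by rw [eq_inv_of_mul_eq_one_left e, hbi])
  have hcab : c * (a * b) * c⁻¹ = a := by
    rw [show c * (a * b) * c⁻¹ = c * a * c⁻¹ * (c * b * c⁻¹) by group, hca, hcb, hab, ← mul_assoc, hbb, one_mul]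
  have hnotg : ∀ u : W, u * u = 1 → u ≠ 1 → u ∉ Subgroup.zpowers g := fun u hu hu1 hm => by
    have := Subgroup.orderOf_dvd_natCard _ hm
    rw [Nat.card_zpowers, hg, orderOf_two_of hu hu1] at this
    exact hp2 ((Nat.prime_dvd_prime_iff_eq Nat.prime_two hp.out).mp this).symm
  haveI hN : (Subgroup.zpowers g).Normal := ⟨fun n hn w => by
    obtain ⟨k, rfl⟩ := Subgroup.mem_zpowers_iff.mp hn
    rw [conj_fix_iff.mpr (Commute.zpow_right (hgc w : Commute w g) k)]
    exact hn⟩
  set N := Subgroup.zpowers g with hNdef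
  let π := QuotientGroup.mk' N
  have hNc : Nat.card N = p := by rw [hNdef, Nat.card_zpowers, hg]
  have hpi : ∀ u : W, u * u = 1 → u ≠ 1 → π u ≠ 1 := fun u hu hu1 e =>
    hnotg u hu hu1 ((QuotientGroup.eq_one_iff u).mp e)
  have hpowg : ∀ i : ℤ, π (g ^ i) = 1 := fun i =>
    (QuotientGroup.eq_one_iff _).mpr (zpow_mem (Subgroup.mem_zpowers g) i)
  -- centralizers in the quotient
  have hlift : ∀ w : W, π w * π a = π a * π w → w * a = a * w := by
    intro w hw
    have hm : (w * a * w⁻¹ * a⁻¹) ∈ N := (QuotientGroup.eq_one_iff _).mp (by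
      show π (w * a * w⁻¹ * a⁻¹) = 1
      rw [map_mul, map_mul, map_mul, map_inv, map_inv, hw, mul_inv_cancel_right, mul_inv_cancel])
    obtain ⟨k, hk⟩ := Subgroup.mem_zpowers_iff.mp hm
    have h1 : w * a * w⁻¹ = g ^ k * a := by rw [hk]; group
    have h2 : g ^ k * g ^ k = 1 := by
      have e := conj_sq w a haa
      have hc' : Commute (g ^ k) a := Commute.zpow_left (hgc a).symm k
      rw [h1, show g ^ k * a * (g ^ k * a) = g ^ k * (a * g ^ k) * a by group, ← hc'.eq,
        show g ^ k * (g ^ k * a) * a = g ^ k * g ^ k * (a * a) by group, haa, mul_one] at e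
      exact e
    have h3 : g ^ k = 1 := by
      by_contra hne'
      exact hnotg _ h2 hne' (zpow_mem (Subgroup.mem_zpowers g) k)
    rw [h3, one_mul] at h1
    exact conj_fix_iff.mp h1
  have hqc : ∀ q : W ⧸ N, q * π a = π a * q → q = 1 ∨ q = π a ∨ q = π b ∨ q = π a * π b := by
    intro q hq
    obtain ⟨w, rfl⟩ := QuotientGroup.mk'_surjective N q
    obtain ⟨i, h | h | h | h⟩ := (hC w).mp (hlift w hq) <;> rw [h]
    · exact Or.inl (hpowg i)
    · exact Or.inr (Or.inl (by rw [map_mul, hpowg, mul_one]))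
    · exact Or.inr (Or.inr (Or.inl (by rw [map_mul, hpowg, mul_one])))
    · exact Or.inr (Or.inr (Or.inr (by rw [map_mul, map_mul, hpowg, mul_one])))
  -- the four group is a Sylow subgroup
  set F := fourGroup a b haa hbb hab with hF
  have hmax : ∀ P : Subgroup W, IsPGroup 2 ↥P → F ≤ P → P = F := by
    intro P hP hle
    have hsmall : ∀ w ∈ P, w * a = a * w → w ∈ F := by
      intro w hw hwa
      obtain ⟨k, hk⟩ := hP ⟨w, hw⟩
      have hk' : w ^ 2 ^ k = 1 := congrArg Subtype.val hk
      have key : ∀ u ∈ F, ∀ i : ℤ, w = u * g ^ i → w ∈ F := by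
        intro u hu i e
        have hgi : g ^ i ∈ P := by
          have := mul_mem (inv_mem (hle hu)) hw
          rwa [e, inv_mul_cancel_left] at this
        obtain ⟨l, hl⟩ := hP ⟨g ^ i, hgi⟩
        have hl' : (g ^ i) ^ 2 ^ l = 1 := congrArg Subtype.val hl
        have h1 : orderOf (g ^ i) ∣ p := by
          have := Subgroup.orderOf_dvd_natCard N (zpow_mem (Subgroup.mem_zpowers g) i)
          rwa [hNc] at this
        have h2 := orderOf_dvd_iff_pow_eq_one.mpr hl'
        have h3 : orderOf (g ^ i) = 1 := Nat.dvd_one.mp (by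
          have hcop : Nat.Coprime p (2 ^ l) := Nat.Coprime.pow_right l hodd.coprime_two_right
          rw [← hcop]; exact Nat.dvd_gcd h1 h2)
        rw [e, orderOf_eq_one_iff.mp h3, mul_one]
        exact hu
      obtain ⟨i, h | h | h | h⟩ := (hC w).mp hwa
      · exact key 1 (one_mem _) i (by rw [one_mul]; exact h)
      · exact key a (Or.inr (Or.inl rfl)) i h
      · exact key b (Or.inr (Or.inr (Or.inl rfl))) i h
      · exact key (a * b) (Or.inr (Or.inr (Or.inr rfl))) i h
    by_contra hne'
    haveI : Group.IsNilpotent ↥P := hP.isNilpotent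
    have hlt : F.subgroupOf P < ⊤ :=
      lt_top_iff_ne_top.mpr fun e => hne' (le_antisymm (Subgroup.subgroupOf_eq_top.mp e) hle)
    obtain ⟨⟨n, hnP⟩, hn, hnn⟩ := SetLike.exists_of_lt (Group.normalizerCondition_of_isNilpotent _ hlt)
    have hnF : ∀ u ∈ F, n * u * n⁻¹ ∈ F := fun u hu =>
      ((Subgroup.mem_normalizer_iff.mp hn) ⟨u, hle hu⟩).mp hu
    -- every involution of the four group has the same centralizer up to `c`
    have hfix : ∀ m ∈ P, ∀ u ∈ F, u ≠ 1 → m * u = u * m → m ∈ F := by
      intro m hm u hu hu1 hc'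
      have hcomb : m * a = a * m → m ∈ F := hsmall m hm
      have htwo : ∀ v : W, (v = b ∨ v = a * b) → m * v = v * m → m * a = a * m := by
        intro v hv hmv
        obtain ⟨k, hk⟩ : ∃ k : W, k * v * k⁻¹ = a ∧ ∀ w : W, w * a = a * w →
            k⁻¹ * w * k * a = a * (k⁻¹ * w * k) := by
          have hb_ : ∀ w : W, w * a = a * w → w * b = b * w := fun w hw => by
            obtain ⟨i, h | h | h | h⟩ := (hC w).mp hw <;> rw [h]
            · exact Commute.zpow_left (hgc b).symm i
            · exact Commute.mul_left hab (Commute.zpow_left (hgc b).symm i)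
            · exact Commute.mul_left (Commute.refl b) (Commute.zpow_left (hgc b).symm i)
            · exact Commute.mul_left (Commute.mul_left hab (Commute.refl b)) (Commute.zpow_left (hgc b).symm i)
          rcases hv with rfl | rfl
          · refine ⟨c * c, by rw [show c * c * v * (c * c)⁻¹ = c * (c * v * c⁻¹) * c⁻¹ by group, hcb, hcab],
              fun w hw => ?_⟩
            have hv' := hb_ w hw
            have hab' : w * (a * v) = a * v * w := Commute.mul_right hw hv'
            refine (cent_conj (g := c * c) (a := a) (b := a * v) ?_).mp hab'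
            rw [show c * c * a * (c * c)⁻¹ = c * (c * a * c⁻¹) * c⁻¹ by group, hca, hcb]
          · refine ⟨c, hcab, fun w hw => (cent_conj hca).mp (hb_ w hw)⟩
        have h4 : k * m * k⁻¹ * a = a * (k * m * k⁻¹) := by
          rw [← hk.1]; exact (conj_comm_iff k m v).mpr hmv
        have h5 := hk.2 _ h4
        rwa [show k⁻¹ * (k * m * k⁻¹) * k = m by group] at h5
      rcases hu with e | e | e | e
      · exact absurd e hu1
      · exact hcomb (e ▸ hc')
      · exact hcomb (htwo u (Or.inl e) hc')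
      · exact hcomb (htwo u (Or.inr e) hc')
    by_cases hsome : ∃ u ∈ F, u ≠ 1 ∧ n * u * n⁻¹ = u
    · obtain ⟨u, hu, hu1, e⟩ := hsome
      exact hnn (hfix n hnP u hu hu1 (conj_fix_iff.mp e))
    push Not at hsome
    have hn3 : n ^ 3 * a * (n ^ 3)⁻¹ = a := by
      rw [show n ^ 3 * a * (n ^ 3)⁻¹ = n * (n * (n * a * n⁻¹) * n⁻¹) * n⁻¹ by simp [pow_succ, mul_assoc]]
      have memF : ∀ {u : W}, u = a ∨ u = b ∨ u = a * b → u ∈ F ∧ u ≠ 1 := by
        rintro u (rfl | rfl | rfl)
        exacts [⟨Or.inr (Or.inl rfl), ha1⟩, ⟨Or.inr (Or.inr (Or.inl rfl)), hb1⟩,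
          ⟨Or.inr (Or.inr (Or.inr rfl)), hab1⟩]
      have step : ∀ u : W, u = a ∨ u = b ∨ u = a * b →
          (n * u * n⁻¹ = a ∨ n * u * n⁻¹ = b ∨ n * u * n⁻¹ = a * b) ∧ n * u * n⁻¹ ≠ u := by
        intro u hu
        obtain ⟨h1, h2⟩ := memF hu
        refine ⟨?_, hsome u h1 h2⟩
        rcases hnF u h1 with e | e | e | e
        · exact absurd (conj_eq_one_iff.mp e) h2
        · exact Or.inl e
        · exact Or.inr (Or.inl e)
        · exact Or.inr (Or.inr e)
      obtain ⟨s1, n1⟩ := step a (Or.inl rfl)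
      obtain ⟨s2, n2⟩ := step _ s1
      obtain ⟨s3, n3⟩ := step _ s2
      have inj : ∀ {u v : W}, n * u * n⁻¹ = n * v * n⁻¹ → u = v := fun e => mul_left_cancel (mul_right_cancel e)
      rcases s1 with e1 | e1 | e1
      · exact absurd e1 n1
      all_goals
        rw [e1] at s2 n2 s3 n3 ⊢
        rcases s2 with e2 | e2 | e2
        · exfalso
          obtain ⟨s4, n4⟩ := step _ (show (a * b = a ∨ a * b = b ∨ a * b = a * b) from Or.inr (Or.inr rfl))
          obtain ⟨s5, n5⟩ := step b (Or.inr (Or.inl rfl))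
          rcases s4 with e4 | e4 | e4 <;> rcases s5 with e5 | e5 | e5 <;>
            first
              | exact n4 e4
              | exact n5 e5
              | exact hne (inj (e1.trans e5.symm))
              | exact hne (inj (e1.trans e4.symm) |>.trans (mul_eq_left.mp (inj (e4.trans e1.symm))).symm)
              | exact hb1 (mul_eq_left.mp (inj (e4.trans e1.symm)))
              | exact ha1 (mul_eq_right.mp (inj (e4.trans e5.symm)))
              | exact ha1 (mul_eq_right.mp (inj (e2.trans e5.symm)))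
              | exact hb1 (mul_eq_left.mp (inj (e2.trans e1.symm)))
              | exact hne (inj (e1.trans e2.symm))
              | exact ha1 (mul_eq_right.mp (inj (e4.trans e2.symm)))
              | exact hne (inj (e5.trans e1.symm)).symm
              | exact ha1 (mul_eq_right.mp (inj (e2.trans e5.symm)))
        all_goals
          rw [e2] at s3 n3 ⊢
          rcases s3 with e3 | e3 | e3
          · exact e3
          all_goals exfalso
          all_goals
            first
              | exact n2 e2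
              | exact n3 e3
              | exact hne (inj (e1.trans e3.symm))
              | exact hb1 (mul_eq_left.mp (inj (e1.trans e3.symm)).symm)
              | exact hb1 (mul_eq_left.mp (inj (e3.trans e1.symm)))
    have hn3F : n ^ 3 ∈ F := hfix _ (pow_mem hnP 3) a (Or.inr (Or.inl rfl)) ha1 (conj_fix_iff.mp hn3)
    obtain ⟨k, hk⟩ := hP ⟨n, hnP⟩
    have hk' : n ^ 2 ^ k = 1 := congrArg Subtype.val hk
    have hcop : Nat.Coprime 3 (2 ^ k) := Nat.Coprime.pow_right _ (by norm_num)
    have h1 : (3 : ℤ) * Nat.gcdA 3 (2 ^ k) + (2 ^ k : ℕ) * Nat.gcdB 3 (2 ^ k) = 1 := by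
      rw [show (3 : ℤ) = ((3 : ℕ) : ℤ) from rfl, ← Nat.gcd_eq_gcd_ab, hcop]; rfl
    refine hnn ?_
    show n ∈ F
    rw [← zpow_one n, ← h1, zpow_add, zpow_mul, zpow_mul, zpow_natCast, hk', one_zpow, mul_one,
      show (3 : ℤ) = ((3 : ℕ) : ℤ) from rfl, zpow_natCast]
    exact zpow_mem hn3F _
  -- involutions of the quotient
  have hqconj : ∀ q : W ⧸ N, orderOf q = 2 → IsConj (π a) q := by
    intro q hq
    obtain ⟨w, rfl⟩ := QuotientGroup.mk'_surjective N q
    have hw2 : π w * π w = 1 := by
      have := pow_orderOf_eq_one (π w)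
      rwa [show orderOf (π w) = 2 from hq, pow_two] at this
    set y := w ^ p with hy
    have hyy : y * y = 1 := by
      have hm : w * w ∈ N := (QuotientGroup.eq_one_iff _).mp hw2
      have := congrArg Subtype.val (pow_card_eq_one' (x := (⟨w * w, hm⟩ : N)))
      rw [hNc, SubmonoidClass.coe_pow, OneMemClass.coe_one] at this
      rw [hy, ← pow_add, ← two_mul, pow_mul, pow_two]
      exact this
    have hπy : π y = π w := by
      obtain ⟨m, hm⟩ := hodd
      rw [hy, map_pow, hm, pow_succ, pow_mul, pow_two, hw2, one_pow, one_mul]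
    have hy1 : y ≠ 1 := fun e => by
      rw [e, map_one] at hπy
      rw [show (QuotientGroup.mk' N) w = 1 from hπy.symm, orderOf_one] at hq
      omega
    have hF2 : IsPGroup 2 ↥F := fun ⟨u, hu⟩ => ⟨1, Subtype.ext (by
      show u ^ 2 ^ 1 = 1
      rw [pow_one, pow_two]
      rcases hu with rfl | rfl | rfl | rfl
      exacts [one_mul 1, haa, hbb, habab])⟩
    obtain ⟨S, hS⟩ := hF2.exists_le_sylow
    have hSF := hmax _ S.2 hS
    obtain ⟨R, hR⟩ := (IsPGroup.of_card (n := 1) (by rw [Nat.card_zpowers, orderOf_two_of hyy hy1, pow_one]) :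
      IsPGroup 2 ↥(Subgroup.zpowers y)).exists_le_sylow
    obtain ⟨k, hk⟩ := MulAction.exists_smul_eq W R S
    have hmem : k * y * k⁻¹ ∈ F := by
      rw [← hSF, ← hk, Sylow.coe_subgroup_smul]
      exact Subgroup.smul_mem_pointwise_smul y (MulAut.conj k) _ (hR (Subgroup.mem_zpowers y))
    have hcj : IsConj a (k * y * k⁻¹) := by
      rcases hmem with e | e | e | e
      · exact absurd (conj_eq_one_iff.mp e) hy1
      · rw [e]
      · rw [e]; exact isConj_iff.mpr ⟨c, hca⟩
      · rw [e]; exact isConj_iff.mpr ⟨c * c, by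
          rw [show c * c * a * (c * c)⁻¹ = c * (c * a * c⁻¹) * c⁻¹ by group, hca, hcb]⟩
    have hy' : IsConj a y := hcj.trans (isConj_iff.mpr ⟨k⁻¹, by group⟩)
    have hmap := MonoidHom.map_isConj π hy'
    rwa [hπy] at hmap
  have hπne : π a ≠ π b := fun e => by
    refine hpi (a * b) habab hab1 ?_
    rw [map_mul, ← e, ← map_mul, haa, map_one]
  let zQ := π a
  have hzQ : orderOf zQ = 2 := orderOf_two_of (by rw [← map_mul, haa, map_one]) (hpi a haa ha1)
  have htwo : ∀ q ∈ Subgroup.zpowers zQ, q = 1 ∨ q = zQ := fun q hq =>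
    mem_zpowers_sq (by rw [← map_mul, haa, map_one]) hq
  have hb2 : π b * π b = 1 := by rw [← map_mul, hbb, map_one]
  have hab_ : π b * π a = π a * π b := by rw [← map_mul, ← map_mul, hab]
  letI : Fintype (W ⧸ N) := Fintype.ofFinite _
  let S : CfsgLib.BSW.Setup (W ⧸ N) :=
    { t := zQ
      K := Subgroup.zpowers zQ
      s := π b
      ht := hzQ
      comm := fun u hu v hv => by
        rcases htwo u hu with rfl | rfl <;> rcases htwo v hv with rfl | rfl <;> simp
      htK := Subgroup.mem_zpowers _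
      hs := orderOf_two_of hb2 (hpi b hbb hb1)
      hsK := fun hm => by
        rcases htwo _ hm with e | e
        · exact hpi b hbb hb1 e
        · exact hπne e.symm
      hH := by
        refine le_antisymm (sup_le (Subgroup.zpowers_le.mpr (mem_cent.mpr rfl))
          (Subgroup.zpowers_le.mpr (mem_cent.mpr hab_))) fun q hq => ?_
        rcases hqc q (mem_cent.mp hq) with e | e | e | e <;> rw [e]
        · exact one_mem _
        · exact Subgroup.mem_sup_left (Subgroup.mem_zpowers _)
        · exact Subgroup.mem_sup_right (Subgroup.mem_zpowers _)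
        · exact Subgroup.mul_mem_sup (Subgroup.mem_zpowers _) (Subgroup.mem_zpowers _)
      hCK := le_antisymm inf_le_left fun q hq => ⟨hq, mem_cent.mpr (by
        rcases htwo q hq with rfl | rfl
        · simp
        · exact hab_.symm)⟩
      hinv := fun q hq => by
        rcases htwo q hq with rfl | rfl
        · simp
        · show π b * π a * (π b)⁻¹ = (π a)⁻¹
          rw [hab_, mul_inv_cancel_right]
          exact (inv_eq_of_mul_eq_one_right (by rw [← map_mul, haa, map_one])).symm
      hTI := fun k hk => by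
        rw [eq_bot_iff]
        rintro q ⟨hq, v, hv, rfl⟩
        rw [Subgroup.mem_bot]
        rcases htwo v hv with rfl | rfl
        · simp
        · exfalso
          rcases htwo _ hq with e | e
          · simp only [MulEquiv.coe_toMonoidHom, MulAut.conj_apply] at e
            exact hpi a haa ha1 (conj_eq_one_iff.mp e)
          · simp only [MulEquiv.coe_toMonoidHom, MulAut.conj_apply] at e
            exact hk (mem_cent.mpr (conj_fix_iff.mp e))
      hconj := fun u v hu hv => (hqconj u hu).symm.trans (hqconj v hv) }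
  have hk : S.k = 2 := by
    show Nat.card ↥(Subgroup.zpowers zQ) = 2
    rw [Nat.card_zpowers, hzQ]
  set U := fourGroup (π a) (π b) (by rw [← map_mul, haa, map_one]) hb2 hab_.symm with hU
  have hUc : Subgroup.centralizer ({zQ} : Set (W ⧸ N)) = U := by
    refine le_antisymm (fun q hq => hqc q (mem_cent.mp hq)) ?_
    rintro q (rfl | rfl | rfl | rfl) <;> refine mem_cent.mpr ?_
    · simp
    · rfl
    · exact hab_
    · exact Commute.mul_left (Commute.refl zQ) hab_
  have hH4 : Nat.card ↥(Subgroup.centralizer ({zQ} : Set (W ⧸ N))) = 4 := by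
    rw [hUc]
    have hs : (U : Set (W ⧸ N)) = {1, π a, π b, π a * π b} := by ext q; exact Iff.rfl
    rw [show Nat.card ↥U = (U : Set (W ⧸ N)).ncard from Nat.card_coe_set_eq _, hs, Set.ncard_insert_of_notMem,
      Set.ncard_insert_of_notMem, Set.ncard_pair]
    · exact fun e => hpi a haa ha1 (mul_eq_right.mp e.symm)
    · rintro (e | e)
      exacts [hπne e, hpi b hbb hb1 (mul_eq_left.mp e.symm)]
    · rintro (e | e | e)
      · exact hpi a haa ha1 e.symm
      · exact hpi b hbb hb1 e.symm
      · rw [← map_mul] at e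
        exact hpi _ habab hab1 e.symm
  have hmul := Subgroup.card_mul_index (Subgroup.centralizer ({zQ} : Set (W ⧸ N)))
  rw [hH4] at hmul
  have hW : Nat.card W = Nat.card (W ⧸ N) * p := by rw [Subgroup.card_eq_card_quotient_mul_card_subgroup N, hNc]
  have hi := S.index_two hk
  change (Subgroup.centralizer ({zQ} : Set (W ⧸ N))).index = 3 ∨
    (Subgroup.centralizer ({zQ} : Set (W ⧸ N))).index = 15 at hi
  refine ⟨?_, N, rfl, inferInstance, fun h60 => ?_⟩
  · rcases hi with e | e <;> rw [e] at hmul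
    · exact Or.inl (by rw [hW, ← hmul])
    · exact Or.inr (by rw [hW, ← hmul])
  · have hq60 : Nat.card (W ⧸ N) = 60 := by
      rw [hW] at h60
      exact Nat.eq_of_mul_eq_mul_right hp.out.pos h60
    refine iso_five_of_four hq60 U (π a) (π b) (fun q => Iff.rfl) (by rw [← map_mul, haa, map_one]) hb2
      (hpi a haa ha1) (hpi b hbb hb1) hπne ?_ hqconj
    intro u hu hu1 m hm
    -- transport along the quotient image of `c`
    have hγa : π c * π a * (π c)⁻¹ = π b := by rw [← map_inv, ← map_mul, ← map_mul, hca]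
    have hγb : π c * π b * (π c)⁻¹ = π a * π b := by
      rw [← map_inv, ← map_mul, ← map_mul, hcb, map_mul]
    have hUinv : ∀ q ∈ U, π c * q * (π c)⁻¹ ∈ U := by
      rintro q (rfl | rfl | rfl | rfl)
      · simp
      · rw [hγa]; exact Or.inr (Or.inr (Or.inl rfl))
      · rw [hγb]; exact Or.inr (Or.inr (Or.inr rfl))
      · rw [show π c * (π a * π b) * (π c)⁻¹ = π c * π a * (π c)⁻¹ * (π c * π b * (π c)⁻¹) by group, hγa, hγb]
        exact mul_mem (Or.inr (Or.inr (Or.inl rfl)))
          (mul_mem (Or.inr (Or.inl rfl)) (Or.inr (Or.inr (Or.inl rfl))))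
    rcases hu with e | e | e | e
    · exact absurd e hu1
    · exact hqc m (e ▸ hm)
    · rw [e] at hm
      have h1 := (cent_conj hγa).mp hm
      have h2 := hUinv _ (hqc _ h1)
      rwa [show π c * ((π c)⁻¹ * m * π c) * (π c)⁻¹ = m by group] at h2
    · rw [e] at hm
      have hγ2 : π c * π c * π a * (π c * π c)⁻¹ = π a * π b := by
        rw [show π c * π c * π a * (π c * π c)⁻¹ = π c * (π c * π a * (π c)⁻¹) * (π c)⁻¹ by group, hγa, hγb]
      have h1 := (cent_conj hγ2).mp hm
      have h2 := hUinv _ (hUinv _ (hqc _ h1))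
      rwa [show π c * (π c * ((π c * π c)⁻¹ * m * (π c * π c)) * (π c)⁻¹) * (π c)⁻¹ = m by group] at h2

end CfsgLib.HallJankoType
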