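import Cfsg.Agent.Lib.HallJankoType.Setup
import Cfsg.Agent.Lib.HallJankoType.Local
import Cfsg.Agent.Lib.ZStar.Main

/-!
Simple groups with an involution centralizer of shape `2^{1+4}_-.A5` and two classes of involutions are of
Hall–Janko type: the involution is not weakly closed in the extraspecial subgroup.
-/

set_option autoImplicit false
set_option linter.unusedSectionVars false
set_option maxRecDepth 100000

namespace CfsgLib.HallJankoType

open Cfsg CfsgLargeExtra Equiv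
open scoped Pointwise

universe u

theorem a5_four : ∀ a : alternatingGroup (Fin 5), a ^ 4 = 1 → a * a = 1 := by decide +kernel

variable {G : Type u} [Group G] [Finite G]

/-- A weakly closed central involution: the coset of a conjugate outside `Q` by its centralizer in `Q`. -/
theorem coset_class {t : G} {Q : Subgroup G} (h : ES Q t) (hcard : Nat.card ↥Q = 32)
    (hA : ∀ a : G, a * t = t * a → a ^ 4 = 1 → a * a ∈ Q)
    (hE : ∀ T : Subgroup G, T ≤ Q → (∀ a ∈ T, a * a = 1) → Nat.card ↥T ≤ 4)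
    (hwc : ∀ g : G, g * t * g⁻¹ ∈ Q → g * t * g⁻¹ = t)
    {g : G} {y : G} (hy : g * t * g⁻¹ = y) (hyt : y * t = t * y) (hyQ : y ∉ Q) :
    Nat.card ↥(Q ⊓ Subgroup.centralizer ({y} : Set G)) = 4 ∧
      ∀ a ∈ Q ⊓ Subgroup.centralizer ({y} : Set G), IsConj t (y * a) := by
  classical
  set T := Q ⊓ Subgroup.centralizer ({y} : Set G) with hT
  have hyy : y * y = 1 := by rw [← hy, conj_sq g t h.zz]
  have hyi : y⁻¹ = y := inv_eq_of_mul_eq_one_right hyy
  have hTsq : ∀ a ∈ T, a * a = 1 := fun a ha => by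
    rcases h.sq a ha.1 with e | e
    · exact e
    exfalso
    have hay : a * y = y * a := mem_cent.mp ha.2
    have h1 : (g⁻¹ * a * g) * t = t * (g⁻¹ * a * g) := (cent_conj hy).mp hay
    have h4 : (g⁻¹ * a * g) ^ 4 = 1 := by
      have h44 : a ^ 4 = 1 := congrArg Subtype.val (h.toExt.pow_four ⟨a, ha.1⟩)
      rw [show g⁻¹ * a * g = g⁻¹ * a * g⁻¹⁻¹ by rw [inv_inv], conj_pow, h44]
      simp
    have h2 : g⁻¹ * t * g ∈ Q := by
      have := hA _ h1 h4
      rwa [show g⁻¹ * a * g * (g⁻¹ * a * g) = g⁻¹ * (a * a) * g by group, e] at this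
    have h3 := hwc g⁻¹ (by rwa [inv_inv])
    rw [inv_inv] at h3
    have h5 : g * t * g⁻¹ = t := by
      calc g * t * g⁻¹ = g * (g⁻¹ * t * g) * g⁻¹ := by rw [h3]
        _ = t := by group
    exact hyQ (hy ▸ h5.symm ▸ h.mem)
  have hle4 : Nat.card ↥T ≤ 4 := hE T inf_le_left hTsq
  -- elements moving `y` by `1` or `t`
  let W : Subgroup G :=
    { carrier := {a | a ∈ Q ∧ (a * y * a⁻¹ = y ∨ a * y * a⁻¹ = t * y)}
      one_mem' := ⟨one_mem _, Or.inl (by simp)⟩
      mul_mem' := fun {a b} ha hb => ⟨mul_mem ha.1 hb.1, by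
        rw [show a * b * y * (a * b)⁻¹ = a * (b * y * b⁻¹) * a⁻¹ by group]
        rcases hb.2 with e | e <;> rw [e]
        · exact ha.2
        · have hat : a * (t * y) * a⁻¹ = t * (a * y * a⁻¹) := by
            rw [show a * (t * y) * a⁻¹ = a * t * y * a⁻¹ by group, h.comm a ha.1]
            group
          rw [hat]
          rcases ha.2 with e' | e' <;> rw [e']
          · exact Or.inr rfl
          · exact Or.inl (by rw [← mul_assoc, h.zz, one_mul])⟩
      inv_mem' := fun {a} ha => ⟨inv_mem ha.1, by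
        rcases ha.2 with e | e
        · exact Or.inl (by rw [inv_inv]; exact conj_back e)
        · refine Or.inr ?_
          have hc : a⁻¹ * t = t * a⁻¹ := h.comm _ (inv_mem ha.1)
          calc a⁻¹ * y * a⁻¹⁻¹ = a⁻¹ * (t * (t * y)) * a := by rw [← mul_assoc t, h.zz, one_mul, inv_inv]
            _ = t * (a⁻¹ * (t * y) * a) := by rw [← mul_assoc a⁻¹ t, hc]; group
            _ = t * y := by rw [conj_back e]⟩ }
  have hW2 : Nat.card ↥W ≤ 2 * Nat.card ↥T := by
    have h1 := ncard_orb W y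
    have h2 : (orb W y).ncard ≤ 2 := by
      refine (Set.ncard_le_ncard (t := {y, t * y}) ?_ (Set.toFinite _)).trans ?_
      · rintro _ ⟨a, ha, rfl⟩
        exact ha.2
      · exact (Set.ncard_insert_le _ _).trans (by rw [Set.ncard_singleton])
    have h3 : Nat.card ↥(W ⊓ Subgroup.centralizer ({y} : Set G)) ≤ Nat.card ↥T :=
      Subgroup.card_le_of_le (inf_le_inf_right _ fun a ha => ha.1)
    rw [← h1]
    exact Nat.mul_le_mul h2 h3
  have hK : (fun p => y * p) '' orb Q y ⊆ (W : Set G) := by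
    rintro _ ⟨p, ⟨q, hq, rfl⟩, rfl⟩
    set k := y * (q * y * q⁻¹) with hk
    have hkQ : k ∈ Q := by
      rw [hk, show y * (q * y * q⁻¹) = (y * q * y⁻¹) * q⁻¹ by rw [hyi]; group]
      exact mul_mem (h.nor y hyt q hq) (inv_mem hq)
    have hpp : q * y * q⁻¹ * (q * y * q⁻¹) = 1 := conj_sq q y hyy
    refine ⟨hkQ, ?_⟩
    have h1 : k * y * k⁻¹ = k * k * y := by
      calc k * y * k⁻¹ = k * (y * ((q * y * q⁻¹)⁻¹ * y⁻¹)) := by rw [hk]; group
        _ = k * (y * (q * y * q⁻¹ * y)) := by rw [inv_eq_of_mul_eq_one_right hpp, hyi]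
        _ = k * k * y := by rw [hk]; group
    rcases h.sq k hkQ with e | e <;> rw [h1, e]
    · exact Or.inl (one_mul y)
    · exact Or.inr rfl
  have horb := ncard_orb Q y
  rw [← hT, hcard] at horb
  have hWc : (W : Set G).ncard = Nat.card ↥W := (Nat.card_coe_set_eq _).symm
  have hKc : ((fun p => y * p) '' orb Q y).ncard = (orb Q y).ncard :=
    Set.ncard_image_of_injective _ fun a b e => mul_left_cancel e
  have hle := Set.ncard_le_ncard hK (Set.toFinite _)
  rw [hKc, hWc] at hle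
  have hpos : 0 < Nat.card ↥T := Nat.card_pos
  have h4 : Nat.card ↥T = 4 := by
    interval_cases hc : Nat.card ↥T <;> omega
  refine ⟨h4, fun a ha => ?_⟩
  have heq := Set.eq_of_subset_of_ncard_le hK (by rw [hKc, hWc]; rw [h4] at horb hW2; omega) (Set.toFinite _)
  have haW : a ∈ (W : Set G) := ⟨ha.1, Or.inl (conj_fix_iff.mpr (mem_cent.mp ha.2))⟩
  rw [← heq] at haW
  obtain ⟨p, ⟨q, -, rfl⟩, e⟩ := haW
  refine isConj_iff.mpr ⟨q * g, ?_⟩
  rw [← e, show q * g * t * (q * g)⁻¹ = q * (g * t * g⁻¹) * q⁻¹ by group, hy, ← mul_assoc, hyy, one_mul]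

/-- The hypotheses of the uniqueness theorem give a group of Hall–Janko type. -/
theorem exists_HJ_of_simple [IsSimpleGroup G] (t : G) (ht : orderOf t = 2)
    (Q : Subgroup (Subgroup.centralizer ({t} : Set G))) [Q.Normal] (hQ : Cfsg.IsExtraspecial 2 Q)
    (hcard : Nat.card Q = 32) (hminus : ∀ E : Subgroup Q, Cfsg.IsElementaryAbelian 2 E → Nat.card E ≤ 2 ^ 2)
    (h2c : Subgroup.centralizer (Q : Set (Subgroup.centralizer ({t} : Set G))) ≤ Q)
    (e : (Subgroup.centralizer ({t} : Set G)) ⧸ Q ≃* alternatingGroup (Fin 5))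
    (htwo : ∃ x y : G, orderOf x = 2 ∧ orderOf y = 2 ∧ ¬ IsConj x y) :
    ∃ pm : G → Perm (Fin 5), HJ t (Q.map (Subgroup.subtype _)) pm := by
  classical
  haveI : Fact (Nat.Prime 2) := ⟨Nat.prime_two⟩
  set Q₀ := Q.map (Subgroup.centralizer ({t} : Set G)).subtype with hQ₀
  let φ : ↥(Subgroup.centralizer ({t} : Set G)) →* alternatingGroup (Fin 5) := e.toMonoidHom.comp (QuotientGroup.mk' Q)
  have hφ : Function.Surjective φ := e.surjective.comp (QuotientGroup.mk'_surjective Q)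
  have hker : ∀ a : ↥(Subgroup.centralizer ({t} : Set G)), φ a = 1 ↔ a ∈ Q := fun a => by
    show e (QuotientGroup.mk' Q a) = 1 ↔ _
    rw [MulEquiv.map_eq_one_iff, QuotientGroup.mk'_apply, QuotientGroup.eq_one_iff]
  have htt : t * t = 1 := by rw [← pow_two, ← ht, pow_orderOf_eq_one]
  have ht1 : t ≠ 1 := fun e' => by rw [e', orderOf_one] at ht; omega
  have hmem₀ : ∀ (a : ↥(Subgroup.centralizer ({t} : Set G))), (a : G) ∈ Q₀ ↔ a ∈ Q := fun a =>
    ⟨fun ⟨b, hb, e'⟩ => by rwa [show b = a from Subtype.ext e'] at hb, fun h => ⟨a, h, rfl⟩⟩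
  obtain ⟨w, hw⟩ := CfsgLib.ExtraTwo.ofExtraspecial hQ
  let tC : ↥(Subgroup.centralizer ({t} : Set G)) := ⟨t, mem_cent.mpr rfl⟩
  have htQ : tC ∈ Q := h2c (Subgroup.mem_centralizer_iff.mpr fun q _ => Subtype.ext (mem_cent.mp q.2))
  have htw : (⟨tC, htQ⟩ : ↥Q) = w := ((hw.center_iff _).mp (Subgroup.mem_center_iff.mpr fun q =>
    Subtype.ext (Subtype.ext (mem_cent.mp (q : ↥(Subgroup.centralizer ({t} : Set G))).2)))).resolve_left fun h =>
      ht1 (congrArg (fun a : ↥Q => ((a : ↥(Subgroup.centralizer ({t} : Set G))) : G)) h)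
  have hES : ES Q₀ t := by
    refine ⟨⟨tC, htQ, rfl⟩, ht1, ?_, ?_, ?_, ?_⟩
    · rintro _ ⟨q, -, rfl⟩
      exact mem_cent.mp q.2
    · rintro _ ⟨q, hq, rfl⟩
      rcases hw.sq ⟨q, hq⟩ with h | h
      · exact Or.inl (congrArg (fun a : ↥Q => ((a : ↥(Subgroup.centralizer ({t} : Set G))) : G)) h)
      · exact Or.inr (congrArg (fun a : ↥Q => ((a : ↥(Subgroup.centralizer ({t} : Set G))) : G)) (h.trans htw.symm))
    · intro c hc
      let cC : ↥(Subgroup.centralizer ({t} : Set G)) := ⟨c, mem_cent.mpr (hc t ⟨tC, htQ, rfl⟩)⟩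
      have hcQ : cC ∈ Q := h2c (Subgroup.mem_centralizer_iff.mpr fun q hq => Subtype.ext (hc _ ⟨q, hq, rfl⟩).symm)
      rcases (hw.center_iff ⟨cC, hcQ⟩).mp (Subgroup.mem_center_iff.mpr fun q =>
        Subtype.ext (Subtype.ext (hc _ ⟨(q : ↥(Subgroup.centralizer ({t} : Set G))), q.2, rfl⟩).symm)) with h | h
      · exact Or.inl (congrArg (fun a : ↥Q => ((a : ↥(Subgroup.centralizer ({t} : Set G))) : G)) h)
      · exact Or.inr (congrArg (fun a : ↥Q => ((a : ↥(Subgroup.centralizer ({t} : Set G))) : G)) (h.trans htw.symm))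
    · rintro c hc _ ⟨q, hq, rfl⟩
      exact ⟨⟨c, mem_cent.mpr hc⟩ * q * ⟨c, mem_cent.mpr hc⟩⁻¹, Subgroup.Normal.conj_mem inferInstance q hq _, rfl⟩
  have hcard₀ : Nat.card ↥Q₀ = 32 := by
    rw [hQ₀, Subgroup.card_map_of_injective (Subgroup.subtype_injective _), hcard]
  have hA : ∀ a : G, a * t = t * a → a ^ 4 = 1 → a * a ∈ Q₀ := fun a ha h4 => by
    refine (hmem₀ (⟨a, mem_cent.mpr ha⟩ * ⟨a, mem_cent.mpr ha⟩)).mpr ((hker _).mp ?_)
    rw [map_mul]
    refine a5_four _ ?_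
    rw [← map_pow, show (⟨a, mem_cent.mpr ha⟩ : ↥(Subgroup.centralizer ({t} : Set G))) ^ 4 = 1 from Subtype.ext (by simpa using h4), map_one]
  have hE : ∀ T : Subgroup G, T ≤ Q₀ → (∀ a ∈ T, a * a = 1) → Nat.card ↥T ≤ 4 := fun T hT hsq => by
    set E := (T.subgroupOf (Subgroup.centralizer ({t} : Set G))).subgroupOf Q with hEdef
    have hTC : T ≤ (Subgroup.centralizer ({t} : Set G)) := hT.trans (Subgroup.map_subtype_le _)
    have hTQ : T.subgroupOf (Subgroup.centralizer ({t} : Set G)) ≤ Q := fun a ha => (hmem₀ a).mp (hT ha)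
    have hc : Nat.card ↥E = Nat.card ↥T := by
      rw [hEdef, Nat.card_congr (Subgroup.subgroupOfEquivOfLe hTQ).toEquiv,
        Nat.card_congr (Subgroup.subgroupOfEquivOfLe hTC).toEquiv]
    rw [← hc]
    refine (hminus E ?_).trans (le_of_eq (by norm_num))
    have hs : ∀ a : ↥E, a * a = 1 := fun a => Subtype.ext (Subtype.ext (Subtype.ext (hsq _ a.2)))
    refine ⟨⟨⟨fun a b => ?_⟩⟩, fun a ha => ?_⟩
    · have hi : ∀ a : ↥E, a⁻¹ = a := fun a => inv_eq_of_mul_eq_one_right (hs a)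
      rw [← hi (a * b), mul_inv_rev, hi a, hi b]
    · rw [pow_two]; exact congrArg Subtype.val (hs ⟨a, ha⟩)
  refine ⟨fun a => if h : a * t = t * a then (φ ⟨a, mem_cent.mpr h⟩ : Perm (Fin 5)) else 1, hES, hcard₀,
    ?_, ?_, ?_, ?_, ?_, htwo⟩
  · intro a b ha hb
    simp only [dif_pos ha, dif_pos hb, dif_pos (show a * b * t = t * (a * b) from Commute.mul_left ha hb)]
    exact congrArg Subtype.val (map_mul φ ⟨a, mem_cent.mpr ha⟩ ⟨b, mem_cent.mpr hb⟩)
  · intro a ha
    simp only [dif_pos ha]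
    exact Perm.mem_alternatingGroup.mp (φ ⟨a, mem_cent.mpr ha⟩).2
  · intro σ hσ
    obtain ⟨⟨a, ha⟩, he⟩ := hφ ⟨σ, Perm.mem_alternatingGroup.mpr hσ⟩
    exact ⟨a, mem_cent.mp ha, by simp only [dif_pos (mem_cent.mp ha)]; exact congrArg Subtype.val he⟩
  · intro a ha
    simp only [dif_pos ha]
    rw [OneMemClass.coe_eq_one, hker]
    exact (hmem₀ ⟨a, mem_cent.mpr ha⟩).symm
  -- the involution is not weakly closed
  by_contra hno
  push Not at hno
  have hniso : ¬ Cfsg.IsIsolated t := fun hiso => by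
    have hmem := fun g => CfsgLib.ZStar.commutator_mem ht hiso g
    rcases IsSimpleGroup.eq_bot_or_eq_top_of_normal (pPrimeCore 2 G) inferInstance with hb | hT
    · have hcen : t ∈ Subgroup.center G := Subgroup.mem_center_iff.mpr fun g => by
        have h1 := hmem g
        rw [hb, Subgroup.mem_bot, mul_inv_eq_one, mul_inv_eq_iff_eq_mul] at h1
        exact h1.symm
      rcases IsSimpleGroup.eq_bot_or_eq_top_of_normal (Subgroup.center G) inferInstance with hb' | hT'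
      · exact ht1 (Subgroup.mem_bot.mp (hb' ▸ hcen))
      · obtain ⟨a, b, ha, hb'', hab⟩ := htwo
        have hcomm : ∀ g h : G, g * h = h * g := fun g h =>
          (Subgroup.mem_center_iff.mp (hT' ▸ Subgroup.mem_top g : g ∈ Subgroup.center G) h).symm
        letI : CommGroup G := { (inferInstance : Group G) with mul_comm := hcomm }
        have hp := IsSimpleGroup.prime_card (α := G)
        have h2 : Nat.card G = 2 := ((Nat.prime_dvd_prime_iff_eq Nat.prime_two hp).mp (ha ▸ orderOf_dvd_natCard a)).symm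
        obtain ⟨u, -, hu⟩ := (Nat.card_eq_two_iff' (1 : G)).mp h2
        refine hab ?_
        rw [hu a fun e' => by rw [e', orderOf_one] at ha; omega,
          hu b fun e' => by rw [e', orderOf_one] at hb''; omega]
    · have h2 : 2 ∣ Nat.card G := ht ▸ orderOf_dvd_natCard t
      have := CfsgLib.odd_card_oddCore (G := G)
      rw [show oddCore G = ⊤ from hT, Subgroup.card_top] at this
      exact (Nat.not_even_iff_odd.mpr this) (even_iff_two_dvd.mpr h2)
  simp only [Cfsg.IsIsolated, not_forall] at hniso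
  obtain ⟨g, hcomm, hne⟩ := hniso
  set y := g * t * g⁻¹ with hy
  have hyt : y * t = t * y := hcomm.symm
  have hyQ : y ∉ Q₀ := fun h => hne (hno g h)
  set Qy := CfsgLargeExtra.cj g Q₀ with hQy
  have hESy : ES Qy y := hES.cj g
  have hmemy : ∀ a, a ∈ Qy ↔ g⁻¹ * a * g ∈ Q₀ := fun a => CfsgLargeExtra.mem_cj
  have hwcy : ∀ k : G, k * y * k⁻¹ ∈ Qy → k * y * k⁻¹ = y := fun k hk => by
    have h1 := hno (g⁻¹ * k * g) (by
      have := (hmemy _).mp hk
      rwa [show g⁻¹ * k * g * t * (g⁻¹ * k * g)⁻¹ = g⁻¹ * (k * y * k⁻¹) * g by rw [hy]; group])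
    calc k * y * k⁻¹ = g * (g⁻¹ * k * g * t * (g⁻¹ * k * g)⁻¹) * g⁻¹ := by rw [hy]; group
      _ = y := by rw [h1, hy]
  obtain ⟨hT4, hTc⟩ := coset_class hES hcard₀ hA hE hno hy.symm hyt hyQ
  have hAy : ∀ a : G, a * y = y * a → a ^ 4 = 1 → a * a ∈ Qy := fun a ha h4 => (hmemy _).mpr (by
    have := hA (g⁻¹ * a * g) ((cent_conj hy.symm).mp ha) (by
      rw [show g⁻¹ * a * g = g⁻¹ * a * g⁻¹⁻¹ by rw [inv_inv], conj_pow, h4]; simp)
    rwa [show g⁻¹ * a * g * (g⁻¹ * a * g) = g⁻¹ * (a * a) * g by group] at this)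
  have hEy : ∀ T : Subgroup G, T ≤ Qy → (∀ a ∈ T, a * a = 1) → Nat.card ↥T ≤ 4 := fun T hT hsq => by
    have hc := hE (CfsgLargeExtra.cj g⁻¹ T) (fun a ha => by
      rw [CfsgLargeExtra.mem_cj, inv_inv] at ha
      have := (hmemy _).mp (hT ha)
      simpa [mul_assoc] using this) (fun a ha => by
      rw [CfsgLargeExtra.mem_cj, inv_inv] at ha
      have h1 := hsq _ ha
      have h2 : g * (a * a) * g⁻¹ = 1 := by rw [← h1]; group
      exact conj_eq_one_iff.mp h2)
    rwa [CfsgLargeExtra.cj, Subgroup.card_map_of_injective (MulAut.conj g⁻¹).injective] at hc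
  have htQy : t ∉ Qy := fun h => by
    have h1 := hno g⁻¹ (by rw [inv_inv]; exact (hmemy t).mp h)
    rw [inv_inv] at h1
    refine hne ?_
    calc y = g * (g⁻¹ * t * g) * g⁻¹ := by rw [h1]
      _ = t := by group
  have hyg : g⁻¹ * y * g⁻¹⁻¹ = t := by rw [hy]; group
  obtain ⟨hS4, hSc⟩ := coset_class hESy (by rw [hQy, CfsgLargeExtra.cj,
    Subgroup.card_map_of_injective (MulAut.conj g).injective]; exact hcard₀) hAy hEy hwcy hyg hyt.symm htQy
  obtain ⟨a, ha, ha1, hay⟩ : ∃ a ∈ Qy ⊓ Subgroup.centralizer ({t} : Set G), a ≠ 1 ∧ a ≠ y := by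
    by_contra hall
    push Not at hall
    have hsub : ((Qy ⊓ Subgroup.centralizer ({t} : Set G) : Subgroup G) : Set G) ⊆ {1, y} := fun a ha => by
      by_cases e1 : a = 1
      · exact Or.inl e1
      · exact Or.inr (hall a ha e1)
    have h1 := Set.ncard_le_ncard hsub (Set.toFinite _)
    rw [← Nat.card_coe_set_eq] at h1
    have h2 : Set.ncard ({1, y} : Set G) ≤ 2 := (Set.ncard_insert_le _ _).trans (by rw [Set.ncard_singleton])
    have h3 : (4 : ℕ) ≤ 2 := hS4 ▸ h1.trans h2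
    omega
  have hat : a * t = t * a := mem_cent.mp ha.2
  have haQ : a ∉ Q₀ := fun h => by
    obtain ⟨k, hk⟩ := isConj_iff.mp (hTc a ⟨h, mem_cent.mpr (hESy.comm a ha.1)⟩)
    have h1 := hwcy (k * g⁻¹) (by
      rw [show k * g⁻¹ * y * (k * g⁻¹)⁻¹ = k * (g⁻¹ * y * g⁻¹⁻¹) * k⁻¹ by group, hyg, hk]
      exact mul_mem hESy.mem ha.1)
    rw [show k * g⁻¹ * y * (k * g⁻¹)⁻¹ = k * (g⁻¹ * y * g⁻¹⁻¹) * k⁻¹ by group, hyg, hk] at h1
    exact ha1 (mul_eq_left.mp h1)
  obtain ⟨k, hk⟩ := isConj_iff.mp (hSc a ha)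
  set y' := t * a with hy'
  have hy'g : k * g * t * (k * g)⁻¹ = y' := by rw [← hk, hy]; group
  have hy't : y' * t = t * y' := Commute.mul_left (Commute.refl t) hat
  have hy'Q : y' ∉ Q₀ := fun h => haQ (by
    have := mul_mem hES.mem h
    rwa [hy', ← mul_assoc, hES.zz, one_mul] at this)
  obtain ⟨-, hT'⟩ := coset_class hES hcard₀ hA hE hno hy'g hy't hy'Q
  obtain ⟨m, hm⟩ := isConj_iff.mp (hT' t ⟨hES.mem, mem_cent.mpr hy't.symm⟩)
  have hmy : m * g⁻¹ * y * (m * g⁻¹)⁻¹ = a := by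
    rw [show m * g⁻¹ * y * (m * g⁻¹)⁻¹ = m * (g⁻¹ * y * g⁻¹⁻¹) * m⁻¹ by group, hyg, hm, hy', mul_assoc, hat,
      ← mul_assoc, hES.zz, one_mul]
  exact hay (hmy.symm.trans (hwcy _ (hmy.symm ▸ ha.1)))

end CfsgLib.HallJankoType
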