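import Cfsg.Agent.Lib.HallJankoType.ThreeNorm

/-!
Groups of Hall–Janko type: five involutions with the Coxeter relations of the Hall–Janko presentation.
-/

set_option autoImplicit false
set_option linter.unusedSectionVars false
set_option maxRecDepth 100000

namespace CfsgLib.HallJankoType

open Cfsg CfsgLargeExtra Equiv
open scoped Pointwise

universe u

theorem a5_partner : ∀ σ τ : alternatingGroup (Fin 5), σ * σ = 1 → σ ≠ 1 → τ * τ = 1 → τ ≠ 1 → σ ≠ τ →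
    σ * τ = τ * σ → ∃ β : alternatingGroup (Fin 5), β * β = 1 ∧ (σ * β) ^ 5 = 1 ∧ (τ * β) ^ 3 = 1 ∧ σ * β ≠ 1 ∧
      τ * β ≠ 1 := by
  decide +kernel

set_option synthInstance.maxSize 5000 in
theorem a5_lift_exists : ∀ c : alternatingGroup (Fin 5), c ^ 3 = 1 → c ≠ 1 →
    ∀ τ : alternatingGroup (Fin 5), τ * τ = 1 → τ ≠ 1 →
    c * τ * c⁻¹ * τ = τ * (c * τ * c⁻¹) → c * τ * c⁻¹ ≠ τ →
    ∃ β : alternatingGroup (Fin 5), β * β = 1 ∧ β * c * β⁻¹ = c⁻¹ ∧ (β * τ) ^ 3 = 1 ∧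
      (β * τ * c) ^ 5 = 1 ∧ β * τ * c ≠ 1 := by
  decide +kernel

set_option synthInstance.maxSize 5000 in
theorem a5_lift_unique : ∀ c : alternatingGroup (Fin 5), c ^ 3 = 1 → c ≠ 1 →
    ∀ τ : alternatingGroup (Fin 5), τ * τ = 1 → τ ≠ 1 →
    c * τ * c⁻¹ * τ = τ * (c * τ * c⁻¹) → c * τ * c⁻¹ ≠ τ →
    ∀ β : alternatingGroup (Fin 5), β * β = 1 → β * c * β⁻¹ = c⁻¹ → (β * τ) ^ 3 = 1 →
    ∀ γ : alternatingGroup (Fin 5), γ * γ = 1 → γ * c * γ⁻¹ = c⁻¹ → (γ * τ) ^ 3 = 1 → γ = β := by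
  decide +kernel

theorem a5_lift (c τ : alternatingGroup (Fin 5)) (h1 : c ^ 3 = 1) (h2 : c ≠ 1) (h3 : τ * τ = 1) (h4 : τ ≠ 1)
    (h5 : c * τ * c⁻¹ * τ = τ * (c * τ * c⁻¹)) (h6 : c * τ * c⁻¹ ≠ τ) :
    ∃ β : alternatingGroup (Fin 5), β * β = 1 ∧ β * c * β⁻¹ = c⁻¹ ∧ (β * τ) ^ 3 = 1 ∧
      (β * τ * c) ^ 5 = 1 ∧ β * τ * c ≠ 1 ∧
      ∀ γ : alternatingGroup (Fin 5), γ * γ = 1 → γ * c * γ⁻¹ = c⁻¹ → (γ * τ) ^ 3 = 1 → γ = β := by
  obtain ⟨β, a1, a2, a3, a4, a5⟩ := a5_lift_exists c h1 h2 τ h3 h4 h5 h6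
  exact ⟨β, a1, a2, a3, a4, a5, a5_lift_unique c h1 h2 τ h3 h4 h5 h6 β a1 a2 a3⟩

variable {G : Type u} [Group G] [Finite G]

/-- An element of a cyclic group of order five with trivial `n`th power, `n` prime to five, is trivial. -/
theorem five_trivial {f a : G} (ho : orderOf f = 5) (ha : a ∈ Subgroup.zpowers f) {n : ℕ}
    (hn : Nat.Coprime 5 n) (h : a ^ n = 1) : a = 1 := by
  obtain ⟨i, rfl⟩ := Subgroup.mem_zpowers_iff.mp ha
  refine orderOf_eq_one_iff.mp (Nat.eq_one_of_dvd_coprimes hn ?_ (orderOf_dvd_of_pow_eq_one h))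
  refine orderOf_dvd_of_pow_eq_one ?_
  rw [← zpow_natCast, ← zpow_mul, mul_comm, zpow_mul, zpow_natCast, ← ho, pow_orderOf_eq_one, one_zpow]

variable {z x t t' d : G} {Q Q' : Subgroup G} {pm pm' : G → Perm (Fin 5)}
variable {M : Subgroup G}

namespace Sub

variable {D : Cyc z x t t' d Q Q' pm pm'} (S : Sub D M)
include S

theorem exists_b : ∃ b ∈ M, b * b = 1 ∧ orderOf (z * b) = 5 ∧ orderOf (x * b) = 3 ∧
    M ≤ Subgroup.closure ({z, x, b} : Set G) := by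
  set P := D.K.P with hP
  obtain ⟨e⟩ := S.exists_iso
  have hz : z ∈ M := S.U_le P.zU
  have hx : x ∈ M := S.U_le P.xU
  obtain ⟨β, hβ, h5, h3, h5', h3'⟩ := a5_partner (e ⟨z, hz⟩) (e ⟨x, hx⟩)
    (by rw [← map_mul, show (⟨z, hz⟩ : ↥M) * ⟨z, hz⟩ = 1 from Subtype.ext P.h.zz, map_one])
    (fun h => P.h.es.ne (congrArg Subtype.val (e.injective (h.trans e.map_one.symm))))
    (by rw [← map_mul, show (⟨x, hx⟩ : ↥M) * ⟨x, hx⟩ = 1 from Subtype.ext P.xx, map_one])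
    (fun h => P.x1 (congrArg Subtype.val (e.injective (h.trans e.map_one.symm))))
    (fun h => P.ne (congrArg Subtype.val (e.injective h)).symm)
    (by rw [← map_mul, ← map_mul]; exact congrArg e (Subtype.ext P.zx))
  set bM := e.symm β with hbM
  have he : e bM = β := e.apply_symm_apply β
  haveI : Fact (Nat.Prime 3) := ⟨Nat.prime_three⟩
  haveI : Fact (Nat.Prime 5) := ⟨by norm_num⟩
  have hord : ∀ (p : ℕ) [Fact p.Prime] (a : ↥M), (e a * β) ^ p = 1 → e a * β ≠ 1 →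
      orderOf ((a : G) * (bM : G)) = p := by
    intro p _ a hp hne
    rw [show (a : G) * (bM : G) = ((a * bM : ↥M) : G) from rfl, Subgroup.orderOf_coe,
      ← orderOf_injective e.toMonoidHom e.injective]
    refine orderOf_eq_prime ?_ ?_ <;> simp [he, hp, hne]
  have hzb := hord 5 ⟨z, hz⟩ h5 h5'
  have hxb := hord 3 ⟨x, hx⟩ h3 h3'
  refine ⟨bM, bM.2, ?_, hzb, hxb, ?_⟩
  · exact congrArg Subtype.val (show bM * bM = 1 from e.injective (by rw [map_mul, he, hβ, map_one]))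
  set X := Subgroup.closure ({z, x, (bM : G)} : Set G) with hX
  have hsub : X ≤ M := by
    rw [hX, Subgroup.closure_le]
    rintro a (rfl | rfl | rfl)
    exacts [hz, hx, bM.2]
  have mz : z ∈ X := Subgroup.subset_closure (Or.inl rfl)
  have mx : x ∈ X := Subgroup.subset_closure (Or.inr (Or.inl rfl))
  have mb : (bM : G) ∈ X := Subgroup.subset_closure (Or.inr (Or.inr rfl))
  have hU : P.U ≤ X := by
    rintro a (rfl | rfl | rfl | rfl)
    exacts [one_mem _, mz, mx, mul_mem mz mx]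
  have d4 : 4 ∣ Nat.card ↥X := P.card_U ▸ Subgroup.card_dvd_of_le hU
  have d5 : 5 ∣ Nat.card ↥X := hzb ▸ Subgroup.orderOf_dvd_natCard X (mul_mem mz mb)
  have d3 : 3 ∣ Nat.card ↥X := hxb ▸ Subgroup.orderOf_dvd_natCard X (mul_mem mx mb)
  have h60 : 60 ∣ Nat.card ↥X := by omega
  exact (Subgroup.eq_of_le_of_card_ge hsub (by rw [S.card_M]; exact Nat.le_of_dvd Nat.card_pos h60)).ge

/-- The involution inverting `c` and centralising `z` and `b`. -/
theorem exists_gens : ∃ b w c : G, b ∈ M ∧ orderOf c = 3 ∧ (∀ m ∈ M, c * m = m * c) ∧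
    M ≤ Subgroup.closure ({z, x, b} : Set G) ∧ b * b = 1 ∧ (z * b) ^ 5 = 1 ∧ (x * b) ^ 3 = 1 ∧
    w * w = 1 ∧ w * z = z * w ∧ w * b = b * w ∧ w * c * w⁻¹ = c⁻¹ ∧ (w * t) ^ 3 = 1 ∧ w * x ≠ x * w ∧
    (x * w) ^ 4 = z ∧ (c * t) ^ 3 = 1 := by
  set P := D.K.P with hP
  obtain ⟨c, hc, -, hcM, hf₁, hf₁t, hf₁1, hcyc, hFset⟩ := S.exists_c0
  obtain ⟨b, hbM, hbb, hzb, hxb, hgen⟩ := S.exists_b
  have hzM : z ∈ M := S.U_le P.zU
  have hxM : x ∈ M := S.U_le P.xU
  set f := z * b with hf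
  have hfM : f ∈ M := mul_mem hzM hbM
  have hcf := S.card_cent_five hfM hzb
  set W := Subgroup.centralizer ({f} : Set G) with hW
  obtain ⟨-, q, hqs, hq⟩ := hcf
  have hzfz : z * f * z⁻¹ = f⁻¹ := by
    rw [hf, mul_inv_rev, inv_eq_of_mul_eq_one_right hbb, inv_eq_of_mul_eq_one_right P.h.zz]
    rw [show z * (z * b) * z = z * z * (b * z) by group, P.h.zz, one_mul]
  have hzW : ∀ g ∈ W, z * g * z⁻¹ ∈ W := fun g hg => by
    refine mem_cent.mpr ?_
    have e : z * f⁻¹ * z⁻¹ = f := by rw [← conj_inv, hzfz, inv_inv]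
    calc z * g * z⁻¹ * f = z * g * z⁻¹ * (z * f⁻¹ * z⁻¹) := by rw [e]
      _ = z * (g * f⁻¹) * z⁻¹ := by group
      _ = z * (f⁻¹ * g) * z⁻¹ := by rw [(Commute.inv_right (show Commute g f from mem_cent.mp hg)).eq]
      _ = z * f⁻¹ * z⁻¹ * (z * g * z⁻¹) := by group
      _ = f * (z * g * z⁻¹) := by rw [e]
  let cW : ↥W := ⟨c, mem_cent.mpr (hcM f hfM)⟩
  let tW : ↥W := ⟨t, mem_cent.mpr (S.Mt f hfM).symm⟩
  have hc3 : c ^ 3 = 1 := hc ▸ pow_orderOf_eq_one c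
  have hcne : c ≠ 1 := fun e => by rw [e, orderOf_one] at hc; omega
  have hq1 : ∀ (g : ↥W) (n : ℕ), Nat.Coprime 5 n → (g : G) ^ n = 1 → q g = 1 → (g : G) = 1 :=
    fun g n hn hgn hg => five_trivial hzb ((hq g).mp hg) hn hgn
  have hcz : Commute c z := hcM z hzM
  have htz : Commute t z := D.K.tz
  obtain ⟨β, hβ2, hβc, hβt, hβ5, hβ51, huniq⟩ := a5_lift (q cW) (q tW)
    (by rw [← map_pow, show cW ^ 3 = 1 from Subtype.ext hc3, map_one])
    (fun e => hcne (hq1 cW 3 (by norm_num) hc3 e))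
    (by rw [← map_mul, show tW * tW = 1 from Subtype.ext D.K.tt, map_one])
    (fun e => D.K.t_ne (hq1 tW 2 (by norm_num) (by rw [pow_two]; exact D.K.tt) e))
    (by
      rw [← map_inv, ← map_mul, ← map_mul, ← map_mul, ← map_mul]
      exact congrArg q (Subtype.ext (D.K.E_comm hf₁.1 D.K.t_mem_E)))
    (fun e => by
      have h1 : q (cW * tW * cW⁻¹ * tW) = 1 := by
        rw [map_mul, map_mul, map_mul, map_inv, e, ← map_mul, show tW * tW = 1 from Subtype.ext D.K.tt, map_one]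
      have h2 := hq1 _ 2 (by norm_num) (by
        rw [pow_two]
        show c * t * c⁻¹ * t * (c * t * c⁻¹ * t) = 1
        exact D.K.E_sq (mul_mem hf₁.1 D.K.t_mem_E)) h1
      exact hf₁t ((mul_eq_one_iff_eq_inv.mp h2).trans (inv_eq_of_mul_eq_one_right D.K.tt)))
  obtain ⟨g, rfl⟩ := hqs β
  -- the image of the conjugate by `z` agrees
  have hzhom : ∀ a : ↥W, ((a : G) * z = z * (a : G)) → (⟨z * a * z⁻¹, hzW _ a.2⟩ : ↥W) = a := fun a ha =>
    Subtype.ext (conj_fix_iff.mpr ha.symm)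
  let α : ↥W →* ↥W := MonoidHom.mk' (fun a => ⟨z * a * z⁻¹, hzW _ a.2⟩) fun a a' => Subtype.ext (by
    show z * ((a : G) * a') * z⁻¹ = z * a * z⁻¹ * (z * a' * z⁻¹)
    group)
  have hαc : α cW = cW := hzhom cW hcz
  have hαt : α tW = tW := hzhom tW htz
  have hαk : ∀ a : ↥W, q a = 1 → q (α a) = 1 := fun a ha => by
    obtain ⟨i, hi⟩ := Subgroup.mem_zpowers_iff.mp ((hq a).mp ha)
    refine (hq _).mpr (Subgroup.mem_zpowers_iff.mpr ⟨-i, ?_⟩)
    show f ^ (-i) = z * (a : G) * z⁻¹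
    rw [← hi, ← conj_zpow, hzfz, inv_zpow, zpow_neg]
  have hβ' : q (α g) = q g := huniq _
    (by
      rw [← map_mul, ← map_mul]
      exact hαk _ (by rw [map_mul, hβ2]))
    (by
      have h1 : q (g * cW * g⁻¹ * cW) = 1 := by rw [map_mul, map_mul, map_mul, map_inv, hβc, inv_mul_cancel]
      have h2 := hαk _ h1
      simp only [map_mul, map_inv, hαc] at h2
      exact eq_inv_of_mul_eq_one_left h2)
    (by
      have h1 : q ((g * tW) ^ 3) = 1 := by rw [map_pow, map_mul, hβt]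
      have h2 := hαk _ h1
      rwa [map_pow, map_mul, hαt, map_pow, map_mul] at h2)
  obtain ⟨i, hi⟩ := Subgroup.mem_zpowers_iff.mp ((hq ((g)⁻¹ * α g)).mp (by rw [map_mul, map_inv, hβ', inv_mul_cancel]))
  have hi' : z * (g : G) * z⁻¹ = (g : G) * f ^ i := by
    rw [hi]
    show z * (g : G) * z⁻¹ = (g : G) * ((g : G)⁻¹ * (z * (g : G) * z⁻¹))
    group
  have hf5 : f ^ (5 : ℤ) = 1 := by
    rw [show (5 : ℤ) = ((5 : ℕ) : ℤ) from rfl, zpow_natCast, ← hzb, pow_orderOf_eq_one]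
  set j := 3 * i with hj
  set w := (g : G) * f ^ j with hw
  have hwW : w ∈ W := mul_mem g.2 (Subgroup.zpow_mem _ (mem_cent.mpr rfl) j)
  have hwf : Commute w f := mem_cent.mp hwW
  have hwz : w * z = z * w := by
    refine (conj_fix_iff.mp ?_).symm
    rw [hw, show z * ((g : G) * f ^ j) * z⁻¹ = z * (g : G) * z⁻¹ * (z * f ^ j * z⁻¹) by group, hi',
      ← conj_zpow, hzfz, inv_zpow, mul_assoc]
    congr 1
    rw [← zpow_neg, ← zpow_add, show i + -j = 5 * (-i) + j by rw [hj]; ring, zpow_add, zpow_mul, hf5, one_zpow,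
      one_mul]
  have hqw : q ⟨w, hwW⟩ = q g := by
    rw [show (⟨w, hwW⟩ : ↥W) = g * (⟨f, mem_cent.mpr rfl⟩ : ↥W) ^ j from Subtype.ext (by simp [hw]), map_mul,
      map_zpow, (hq ⟨f, mem_cent.mpr rfl⟩).mpr (Subgroup.mem_zpowers f), one_zpow, mul_one]
  -- elements of `⟨f⟩` fixed by `z` are trivial
  have hfix : ∀ a : ↥W, q a = 1 → Commute (a : G) z → (a : G) = 1 := fun a ha haz => by
    obtain ⟨k, hk⟩ := Subgroup.mem_zpowers_iff.mp ((hq a).mp ha)
    refine five_trivial (n := 2) hzb ((hq a).mp ha) (by norm_num) ?_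
    have h1 : z * (a : G) * z⁻¹ = a := conj_fix_iff.mpr haz.symm
    rw [← hk, ← conj_zpow, hzfz, inv_zpow] at h1
    rw [← hk, pow_two]
    nth_rewrite 1 [← h1]
    exact inv_mul_cancel _
  let wW : ↥W := ⟨w, hwW⟩
  have hww : w * w = 1 := hfix (wW * wW) (by rw [map_mul, hqw, hβ2]) (Commute.mul_left hwz hwz)
  have hwc : w * c * w⁻¹ = c⁻¹ := eq_inv_of_mul_eq_one_left
    (hfix (wW * cW * wW⁻¹ * cW) (by rw [map_mul, map_mul, map_mul, map_inv, hqw, hβc, inv_mul_cancel])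
      (Commute.mul_left (Commute.mul_left (Commute.mul_left hwz hcz) (Commute.inv_left hwz)) hcz))
  have hwt : (w * t) ^ 3 = 1 := hfix ((wW * tW) ^ 3) (by rw [map_pow, map_mul, hqw, hβt])
    (Commute.pow_left (Commute.mul_left hwz htz) 3)
  have hbf : b = z * f := by rw [hf, ← mul_assoc, P.h.zz, one_mul]
  have hwb : w * b = b * w := by rw [hbf]; exact (Commute.mul_right hwz hwf).eq
  have hwx : w * x ≠ x * w := fun e => by
    -- an element of order five centralising `z` and `x`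
    have hvz : Commute (w * t * c) z := Commute.mul_left (Commute.mul_left hwz htz) hcz
    have hvx : Commute (w * t * c) x := Commute.mul_left (Commute.mul_left e D.K.tx) (hcM x hxM)
    let v : ↥W := wW * tW * cW
    have hv : q v = q g * q tW * q cW := by rw [map_mul, map_mul, hqw]
    have hv5 : (w * t * c) ^ 5 = 1 := hfix (v ^ 5) (by rw [map_pow, hv, hβ5]) (Commute.pow_left hvz 5)
    have hvo : orderOf (w * t * c) = 5 := orderOf_eq_prime (hp := ⟨by norm_num⟩) hv5 fun e1 => hβ51 (by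
      rw [← hv, show v = 1 from Subtype.ext e1, map_one])
    have := Subgroup.orderOf_dvd_natCard (Subgroup.centralizer ({z} : Set G) ⊓ Subgroup.centralizer ({x} : Set G))
      (show w * t * c ∈ Subgroup.centralizer ({z} : Set G) ⊓ Subgroup.centralizer ({x} : Set G) from
        ⟨mem_cent.mpr hvz, mem_cent.mpr hvx⟩)
    rw [hvo, P.h.card_cent_S P.memS] at this
    omega
  have hwinv : w⁻¹ = w := inv_eq_of_mul_eq_one_right hww
  have hwQ : w ∉ Q := fun hwq => by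
    have h1 : c * w * c⁻¹ ∈ Q := P.h.nor_mem hcz hwq
    have h2 : c ^ (2 : ℤ) ∈ Q := by
      have e : c * w * c⁻¹ * w = c ^ (2 : ℤ) := by
        calc c * w * c⁻¹ * w = c * (w * c⁻¹ * w⁻¹) := by rw [hwinv]; group
          _ = c * c := by rw [← conj_inv, hwc, inv_inv]
          _ = _ := (zpow_two c).symm
      exact e ▸ mul_mem h1 hwq
    have h3 := S.three_inter_Q hc h2
    rw [show (2 : ℤ) = ((2 : ℕ) : ℤ) from rfl, zpow_natCast] at h3
    have h4 := orderOf_dvd_of_pow_eq_one h3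
    rw [hc] at h4
    omega
  have hxw : (x * w) ^ 4 = z := by
    set p := w * x * w⁻¹ with hp
    have hpS : p ∈ P.h.S := P.h.S_conj hwz P.memS
    obtain ⟨-, h2⟩ := D.comm_S hwz hww hwQ
    have hne : x * p ≠ p * x := fun e => by
      rcases P.h.ea P.memS hpS.1 hpS.2.1 e.symm with h | h | h | h
      · exact hpS.2.2.1 h
      · exact hpS.2.2.2 h
      · exact hwx (conj_fix_iff.mp h)
      · refine h2 x P.memS ?_
        have h4 : w * x = z * x * w := mul_inv_eq_iff_eq_mul.mp h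
        rw [h4, show z * (z * x * w) = z * z * (x * w) by group, P.h.zz, one_mul]
    have hsq : (x * p) * (x * p) = z := by
      refine (P.h.es.sq (x * p) (mul_mem P.hx hpS.1)).resolve_left fun e => hne ?_
      rw [mul_eq_one_iff_eq_inv.mp e, mul_inv_rev, inv_eq_of_mul_eq_one_right P.xx,
        inv_eq_of_mul_eq_one_right hpS.2.1]
    rw [← hsq, hp, hwinv]
    simp [pow_succ, mul_assoc]
  have hct : (c * t) ^ 3 = 1 := by
    have hft : c * t * c⁻¹ * (t * (c * t * c⁻¹)) * t = 1 := by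
      calc c * t * c⁻¹ * (t * (c * t * c⁻¹)) * t = (c * t * c⁻¹ * t) * (c * t * c⁻¹ * t) := by group
        _ = 1 := D.K.E_sq (mul_mem hf₁.1 D.K.t_mem_E)
    calc (c * t) ^ 3 = c * t * c⁻¹ * (c * (c * t * c⁻¹) * c⁻¹) * c ^ 3 * t := by simp [pow_succ, mul_assoc]
      _ = 1 := by rw [hcyc, hc3, mul_one, hft]
  refine ⟨b, w, c, hbM, hc, hcM, hgen, hbb, hzb ▸ pow_orderOf_eq_one f, hxb ▸ pow_orderOf_eq_one _, hww, hwz, hwb,
    hwc, hwt, hwx, hxw, hct⟩

end Sub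

end CfsgLib.HallJankoType
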