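import Cfsg.Agent.Lib.HallJankoType.Split

/-!
Groups of Hall–Janko type: the normalizer of the largest normal 2-subgroup of `C(t)`.
-/

set_option autoImplicit false
set_option linter.unusedSectionVars false

namespace CfsgLib.HallJankoType

open Cfsg CfsgLargeExtra Equiv

universe u

variable {G : Type u} [Group G] [Finite G] {z x t t' d : G} {Q Q' : Subgroup G} {pm pm' : G → Perm (Fin 5)}
variable {M : Subgroup G}

/-- A group of order twelve with a normal self-centralizing subgroup of order four is alternating. -/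
theorem iso_four_of_twelve {C : Type u} [Group C] [Finite C] (hC : Nat.card C = 12) (F : Subgroup C) [F.Normal]
    (hF : Nat.card F = 4) (hcent : ∀ c : C, (∀ f ∈ F, c * f = f * c) → c ∈ F) :
    Nonempty (C ≃* alternatingGroup (Fin 4)) := by
  classical
  haveI : Fact (Nat.Prime 3) := ⟨Nat.prime_three⟩
  obtain ⟨p, hp⟩ := exists_prime_orderOf_dvd_card' (G := C) 3 (by rw [hC]; norm_num)
  set P := Subgroup.zpowers p with hPdef
  have hP3 : Nat.card P = 3 := by rw [hPdef, Nat.card_zpowers, hp]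
  have hpF : p ∉ F := fun hm => by
    have := Subgroup.orderOf_dvd_natCard F hm
    rw [hp, hF] at this
    norm_num at this
  have hidx : P.index = 4 := by
    have := Subgroup.card_mul_index P
    rw [hP3, hC] at this
    omega
  have hcore : P.normalCore = ⊥ := by
    rcases (Nat.dvd_prime Nat.prime_three).mp (hP3 ▸ Subgroup.card_dvd_of_le P.normalCore_le) with h | h
    · exact Subgroup.card_eq_one.mp h
    · exfalso
      have hPn : P.Normal := (Subgroup.eq_of_le_of_card_ge P.normalCore_le (by rw [h, hP3])) ▸ P.normalCore_normal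
      refine hpF (hcent p fun f hf => ?_)
      have h1 : p * f * p⁻¹ * f⁻¹ ∈ F ⊓ P := by
        refine ⟨F.mul_mem ((inferInstance : F.Normal).conj_mem f hf p) (F.inv_mem hf), ?_⟩
        rw [show p * f * p⁻¹ * f⁻¹ = p * (f * p⁻¹ * f⁻¹) by group]
        exact mul_mem (Subgroup.mem_zpowers p) (hPn.conj_mem _ (inv_mem (Subgroup.mem_zpowers p)) f)
      have hd1 := Subgroup.orderOf_dvd_natCard F h1.1
      have hd2 := Subgroup.orderOf_dvd_natCard P h1.2
      rw [hF] at hd1
      rw [hP3] at hd2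
      have hd : orderOf (p * f * p⁻¹ * f⁻¹) ∣ 1 := Nat.dvd_gcd hd1 hd2
      rw [Nat.dvd_one, orderOf_eq_one_iff, mul_inv_eq_one] at hd
      exact conj_fix_iff.mp hd
  haveI : Fintype (C ⧸ P) := Fintype.ofFinite _
  let e4 : C ⧸ P ≃ Fin 4 := Fintype.equivFinOfCardEq (by rw [← Nat.card_eq_fintype_card, ← Subgroup.index_eq_card, hidx])
  let φ : C →* Perm (Fin 4) := e4.permCongrHom.toMonoidHom.comp (MulAction.toPermHom C (C ⧸ P))
  have hinj : Function.Injective φ := by
    have h : Function.Injective (MulAction.toPermHom C (C ⧸ P)) := by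
      rw [← MonoidHom.ker_eq_bot_iff, ← Subgroup.normalCore_eq_ker, hcore]
    exact fun a b e => h (e4.permCongrHom.injective e)
  have hr : φ.range = alternatingGroup (Fin 4) := by
    refine Equiv.Perm.eq_alternatingGroup_of_index_eq_two ?_
    have := Subgroup.card_mul_index φ.range
    rw [← Nat.card_congr (MonoidHom.ofInjective hinj).toEquiv, hC, Nat.card_perm, Nat.card_eq_fintype_card,
      Fintype.card_fin, show Nat.factorial 4 = 24 from rfl] at this
    omega
  exact ⟨(MonoidHom.ofInjective hinj).trans (MulEquiv.subgroupCongr hr)⟩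

namespace Sub

variable {D : Cyc z x t t' d Q Q' pm pm'} (S : Sub D M)
include S

theorem F_eq_center {a : G} : a ∈ F D ↔ a * t = t * a ∧ ∀ y, y * t = t * y → a * y = y * a := by
  constructor
  · intro ha
    refine ⟨(D.K.mem_E.mp ha.1).2, fun y hy => ?_⟩
    obtain ⟨f, hf, m, hm, rfl⟩ := S.exists_FM hy
    exact Commute.mul_right (D.K.E_comm ha.1 hf.1) (S.F_central ha hm)
  · rintro ⟨hat, hall⟩
    obtain ⟨f, hf, m, hm, rfl⟩ := S.exists_FM hat
    have hm1 : m = 1 := S.M_no_center hm fun y hy => by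
      have h1 := hall y (S.Mt y hy)
      have h2 := S.F_central hf hy
      calc m * y = f⁻¹ * (f * m * y) := by group
        _ = f⁻¹ * (y * (f * m)) := by rw [h1]
        _ = f⁻¹ * (y * f) * m := by group
        _ = f⁻¹ * (f * y) * m := by rw [h2]
        _ = y * m := by group
    rw [hm1, mul_one]
    exact hf

theorem cent_F {f a : G} (hf : f ∈ F D) (hf1 : f ≠ 1) : a * f = f * a ↔ a * t = t * a := by
  classical
  have hnz : ¬ IsConj z f := fun hc => hf1 (S.F_inter hf (S.U_le ((D.K.conj_z_mem_U hf.1 hf1).mp hc)))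
  obtain ⟨g, hg⟩ := isConj_iff.mp ((D.K.class_cases (D.K.E_sq hf.1) hf1).resolve_left hnz)
  have hle : Subgroup.centralizer ({t} : Set G) ≤ Subgroup.centralizer ({f} : Set G) := fun y hy =>
    mem_cent.mpr ((S.F_eq_center.mp hf).2 y (mem_cent.mp hy)).symm
  have hsub : (Subgroup.centralizer ({f} : Set G)).map (MulAut.conj g⁻¹).toMonoidHom ≤
      Subgroup.centralizer ({t} : Set G) := by
    rintro _ ⟨y, hy, rfl⟩
    simp only [MulEquiv.coe_toMonoidHom, MulAut.conj_apply]
    refine mem_cent.mpr ?_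
    rw [← conj_back hg]
    have := (conj_comm_iff g⁻¹ y f).mpr (mem_cent.mp hy)
    rw [inv_inv] at this ⊢
    exact this
  have hc := Subgroup.card_le_of_le hsub
  rw [Subgroup.card_map_of_injective (f := (MulAut.conj g⁻¹).toMonoidHom) (MulAut.conj g⁻¹).injective] at hc
  have heq := Subgroup.eq_of_le_of_card_ge hle hc
  rw [← mem_cent, ← mem_cent, heq]

theorem exists_move {f : G} (hf : f ∈ F D) (hf1 : f ≠ 1) :
    ∃ g ∈ Subgroup.normalizer (F D : Set G), g * t * g⁻¹ = f := by
  have hnz : ¬ IsConj z f := fun hc => hf1 (S.F_inter hf (S.U_le ((D.K.conj_z_mem_U hf.1 hf1).mp hc)))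
  obtain ⟨g, hg⟩ := isConj_iff.mp ((D.K.class_cases (D.K.E_sq hf.1) hf1).resolve_left hnz)
  have hC : ∀ a : G, a * t = t * a ↔ (g * a * g⁻¹) * t = t * (g * a * g⁻¹) := fun a => by
    rw [← S.cent_F hf hf1 (a := g * a * g⁻¹)]
    have := conj_comm_iff g a t
    rw [hg] at this
    exact this.symm
  refine ⟨g, mem_normalizer_of_le fun a ha => ?_, hg⟩
  obtain ⟨h1, h2⟩ := S.F_eq_center.mp ha
  refine S.F_eq_center.mpr ⟨(hC a).mp h1, fun y hy => ?_⟩
  have hy' : g⁻¹ * y * g * t = t * (g⁻¹ * y * g) := (hC _).mpr (by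
    rw [show g * (g⁻¹ * y * g) * g⁻¹ = y by group]; exact hy)
  have := (conj_comm_iff g a (g⁻¹ * y * g)).mpr (h2 _ hy')
  rwa [show g * (g⁻¹ * y * g) * g⁻¹ = y by group] at this

theorem norm_card : Nat.card ↥(Subgroup.normalizer (F D : Set G)) = 720 := by
  classical
  set L := Subgroup.normalizer (F D : Set G)
  have ho : orb L t = (F D : Set G) \ {1} := by
    ext f
    constructor
    · rintro ⟨g, hg, rfl⟩
      exact ⟨((Subgroup.mem_normalizer_iff.mp hg) t).mp S.t_mem_F, fun e => D.K.t_ne (conj_eq_one_iff.mp e)⟩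
    · rintro ⟨hf, hf1⟩
      exact S.exists_move hf hf1
  have hL : Subgroup.centralizer ({t} : Set G) ≤ L := fun y hy => mem_normalizer_of_le fun a ha => by
    rw [conj_fix_iff.mpr ((S.F_eq_center.mp ha).2 y (mem_cent.mp hy)).symm]
    exact ha
  have e := ncard_orb L t
  rw [ho, inf_eq_right.mpr hL, S.card_C, Set.ncard_sdiff_singleton_of_mem (one_mem (F D)),
    ← Nat.card_coe_set_eq (F D : Set G), SetLike.coe_sort_coe, S.card_F] at e
  exact e.symm

theorem norm_Ct {g a : G} (hg : g ∈ Subgroup.normalizer (F D : Set G)) (ha : a * t = t * a) :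
    g * a * g⁻¹ * t = t * (g * a * g⁻¹) := by
  have hf : g⁻¹ * t * g ∈ F D := by
    have := ((Subgroup.mem_normalizer_iff.mp (inv_mem hg)) t).mp S.t_mem_F
    rwa [inv_inv] at this
  have hf1 : g⁻¹ * t * g ≠ 1 := fun e => D.K.t_ne (by
    have := congrArg (fun w => g * w * g⁻¹) e
    simpa [mul_assoc] using this)
  have := (conj_comm_iff g a _).mpr ((S.cent_F hf hf1).mpr ha)
  rwa [show g * (g⁻¹ * t * g) * g⁻¹ = t by group] at this

theorem norm_M {g m : G} (hg : g ∈ Subgroup.normalizer (F D : Set G)) (hm : m ∈ M) : g * m * g⁻¹ ∈ M := by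
  obtain ⟨ea⟩ := S.exists_iso
  haveI : IsSimpleGroup (alternatingGroup (Fin 5)) := alternatingGroup.isSimpleGroup_five
  haveI : Nontrivial ↥M := ⟨⟨⟨z, S.U_le D.K.P.zU⟩, 1, fun e' => D.K.P.h.es.ne (congrArg Subtype.val e')⟩⟩
  haveI : IsSimpleGroup ↥M := IsSimpleGroup.isSimpleGroup_of_surjective ea.symm.toMonoidHom ea.symm.surjective
  set R := Subgroup.closure D.I with hR
  have hRM : R ≤ M := (Subgroup.closure_le _).mpr fun y hy => S.I_mem hy
  have hIconj : ∀ c : G, (∀ a, a * t = t * a → c * a * c⁻¹ * t = t * (c * a * c⁻¹)) →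
      R.map (MulAut.conj c).toMonoidHom ≤ R := by
    intro c hc
    rw [hR, MonoidHom.map_closure, Subgroup.closure_le]
    rintro _ ⟨y, hy, rfl⟩
    exact Subgroup.subset_closure ⟨hc y hy.1, hy.2.trans (isConj_iff.mpr ⟨c, rfl⟩)⟩
  haveI : (R.subgroupOf M).Normal := ⟨fun r hr k => hIconj k
    (fun a ha => Commute.mul_left (Commute.mul_left (S.Mt k k.2) ha) (Commute.inv_left (S.Mt k k.2)))
    ⟨_, hr, rfl⟩⟩
  have hMR : M ≤ R := by
    rcases Subgroup.Normal.eq_bot_or_eq_top (inferInstance : (R.subgroupOf M).Normal) with h | h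
    · exfalso
      have hz : (⟨z, S.U_le D.K.P.zU⟩ : ↥M) ∈ R.subgroupOf M :=
        Subgroup.subset_closure (D.U_subset_I (Or.inl rfl))
      rw [h, Subgroup.mem_bot] at hz
      exact D.K.P.h.es.ne (congrArg Subtype.val hz)
    · exact Subgroup.subgroupOf_eq_top.mp h
  exact hRM (hIconj g (fun a ha => S.norm_Ct hg ha) ⟨m, hMR hm, rfl⟩)

theorem exists_inner_part {g : G} (hg : g ∈ Subgroup.normalizer (F D : Set G)) :
    ∃ m ∈ M, ∀ y ∈ M, (m⁻¹ * g) * y = y * (m⁻¹ * g) := by
  classical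
  set L := Subgroup.normalizer (F D : Set G) with hL
  haveI : (M.subgroupOf L).Normal := ⟨fun m hm k => S.norm_M k.2 hm⟩
  have hML : M ≤ L := fun m hm => mem_normalizer_of_le fun a ha => by
    rw [conj_fix_iff.mpr (S.F_central ha hm).symm]; exact ha
  -- the cube lies in `C(t)`
  haveI hCn : ((Subgroup.centralizer ({t} : Set G)).subgroupOf L).Normal :=
    ⟨fun a ha k => mem_cent.mpr (S.norm_Ct k.2 (mem_cent.mp ha))⟩
  have hidx : ((Subgroup.centralizer ({t} : Set G)).subgroupOf L).index = 3 := by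
    have hle : Subgroup.centralizer ({t} : Set G) ≤ L := fun y hy => mem_normalizer_of_le fun a ha => by
      rw [conj_fix_iff.mpr ((S.F_eq_center.mp ha).2 y (mem_cent.mp hy)).symm]
      exact ha
    have := Subgroup.card_mul_index ((Subgroup.centralizer ({t} : Set G)).subgroupOf L)
    rw [Nat.card_congr (Subgroup.subgroupOfEquivOfLe hle).toEquiv, S.card_C, S.norm_card] at this
    omega
  have h3 := Subgroup.pow_index_mem ((Subgroup.centralizer ({t} : Set G)).subgroupOf L) ⟨g, hg⟩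
  rw [hidx] at h3
  obtain ⟨f, hf, m₀, hm₀, e3⟩ := S.exists_FM (mem_cent.mp h3 : g ^ 3 * t = t * g ^ 3)
  let α : MulAut ↥M :=
    { toFun := fun y => ⟨g * y * g⁻¹, S.norm_M hg y.2⟩
      invFun := fun y => ⟨g⁻¹ * y * g, by
        have := S.norm_M (inv_mem hg) y.2
        rwa [inv_inv] at this⟩
      left_inv := fun y => Subtype.ext (by show g⁻¹ * (g * (y : G) * g⁻¹) * g = y; group)
      right_inv := fun y => Subtype.ext (by show g * (g⁻¹ * (y : G) * g) * g⁻¹ = y; group)
      map_mul' := fun a b => Subtype.ext (by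
        show g * ((a : G) * b) * g⁻¹ = g * a * g⁻¹ * (g * b * g⁻¹); group) }
  obtain ⟨ea⟩ := S.exists_iso
  obtain ⟨m, hm⟩ := exists_inner ea α ⟨m₀, hm₀⟩ fun y => Subtype.ext (by
    show g * (g * (g * (y : G) * g⁻¹) * g⁻¹) * g⁻¹ = m₀ * y * m₀⁻¹
    rw [show g * (g * (g * (y : G) * g⁻¹) * g⁻¹) * g⁻¹ = g ^ 3 * y * (g ^ 3)⁻¹ by simp [pow_succ, mul_assoc], e3,
      show f * m₀ * (y : G) * (f * m₀)⁻¹ = f * (m₀ * y * m₀⁻¹) * f⁻¹ by group]
    exact conj_fix_iff.mpr (S.F_central hf (mul_mem (mul_mem hm₀ y.2) (inv_mem hm₀))))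
  refine ⟨m, m.2, fun y hy => ?_⟩
  have h := congrArg Subtype.val (hm ⟨y, hy⟩)
  have h' : g * y * g⁻¹ = (m : G) * y * (m : G)⁻¹ := h
  rw [← conj_fix_iff]
  rw [show (m : G)⁻¹ * g * y * ((m : G)⁻¹ * g)⁻¹ = (m : G)⁻¹ * (g * y * g⁻¹) * m by group, h']
  group

theorem norm_iso : Nonempty (↥(Subgroup.normalizer (F D : Set G)) ≃* alternatingGroup (Fin 4) × alternatingGroup (Fin 5)) := by
  classical
  set L := Subgroup.normalizer (F D : Set G) with hL
  set C := L ⊓ Subgroup.centralizer (M : Set G) with hC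
  have hcomm : ∀ c ∈ C, ∀ m ∈ M, c * m = m * c := fun c hc m hm =>
    ((Subgroup.mem_centralizer_iff.mp hc.2) m hm).symm
  have hML : M ≤ L := fun m hm => mem_normalizer_of_le fun a ha => by
    rw [conj_fix_iff.mpr (S.F_central ha hm).symm]; exact ha
  let φ : ↥C × ↥M →* ↥L :=
    MonoidHom.mk' (fun p => ⟨(p.1 : G) * p.2, mul_mem p.1.2.1 (hML p.2.2)⟩) fun p q => by
      apply Subtype.ext
      show (p.1 : G) * q.1 * ((p.2 : G) * q.2) = (p.1 : G) * p.2 * ((q.1 : G) * q.2)
      calc (p.1 : G) * q.1 * ((p.2 : G) * q.2) = (p.1 : G) * ((q.1 : G) * p.2) * q.2 := by group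
        _ = (p.1 : G) * ((p.2 : G) * q.1) * q.2 := by rw [hcomm _ q.1.2 _ p.2.2]
        _ = (p.1 : G) * p.2 * ((q.1 : G) * q.2) := by group
  have hbij : Function.Bijective φ := by
    refine ⟨?_, fun l => ?_⟩
    · rw [injective_iff_map_eq_one]
      rintro ⟨c, m⟩ e
      have e' : (c : G) * m = 1 := congrArg Subtype.val e
      have hm1 : (m : G) = 1 := S.M_no_center m.2 fun y hy => by
        rw [eq_inv_of_mul_eq_one_right e']
        exact Commute.inv_left (hcomm _ c.2 y hy)
      rw [hm1, mul_one] at e'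
      exact Prod.ext (Subtype.ext e') (Subtype.ext hm1)
    · obtain ⟨m, hm, hc⟩ := S.exists_inner_part l.2
      refine ⟨(⟨m⁻¹ * l, ⟨L.mul_mem (L.inv_mem (hML hm)) l.2, Subgroup.mem_centralizer_iff.mpr fun y hy => (hc y hy).symm⟩⟩,
        ⟨m, hm⟩), Subtype.ext ?_⟩
      show m⁻¹ * (l : G) * m = l
      have hc' := hc m hm
      rw [hc', mul_inv_cancel_left]
  have hC12 : Nat.card ↥C = 12 := by
    have := Nat.card_congr (Equiv.ofBijective φ hbij)
    rw [Nat.card_prod, S.card_M, S.norm_card] at this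
    omega
  have hFC : F D ≤ C := fun f hf =>
    ⟨Subgroup.le_normalizer hf, Subgroup.mem_centralizer_iff.mpr fun y hy => (S.F_central hf hy).symm⟩
  haveI : ((F D).subgroupOf C).Normal := ⟨fun f hf k => ((Subgroup.mem_normalizer_iff.mp k.2.1) _).mp hf⟩
  obtain ⟨e4⟩ := iso_four_of_twelve hC12 ((F D).subgroupOf C)
    (by rw [Nat.card_congr (Subgroup.subgroupOfEquivOfLe hFC).toEquiv, S.card_F]) fun c hc => by
      have hct : (c : G) * t = t * c :=
        congrArg Subtype.val (hc ⟨t, hFC S.t_mem_F⟩ S.t_mem_F)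
      obtain ⟨f, hf, m, hm, e⟩ := S.exists_FM hct
      have hm1 : m = 1 := S.M_no_center hm fun y hy => by
        have h1 := hcomm _ c.2 y hy
        rw [e] at h1
        calc m * y = f⁻¹ * (f * m * y) := by group
          _ = f⁻¹ * (y * (f * m)) := by rw [h1]
          _ = f⁻¹ * (y * f) * m := by group
          _ = f⁻¹ * (f * y) * m := by rw [S.F_central hf hy]
          _ = y * m := by group
      show (c : G) ∈ F D
      rw [e, hm1, mul_one]
      exact hf
  obtain ⟨e5⟩ := S.exists_iso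
  exact ⟨(MulEquiv.ofBijective φ hbij).symm.trans (MulEquiv.prodCongr e4 e5)⟩

end Sub

end CfsgLib.HallJankoType
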