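import Cfsg.Agent.Lib.HallJankoType.Counts

/-!
Groups of Hall–Janko type: an element of order five in `C(z)` and the order of the group.
-/

set_option autoImplicit false
set_option linter.unusedSectionVars false

namespace CfsgLib.HallJankoType

open Cfsg CfsgLargeExtra Equiv

universe u

variable {G : Type u} [Group G] [Finite G] {z x t t' d : G} {Q Q' : Subgroup G} {pm pm' : G → Perm (Fin 5)}

theorem zpow_of_mem_five {f g : G} (ho : orderOf f = 5) (hg : g ∈ Subgroup.zpowers f) :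
    ∃ i : Fin 5, g = f ^ (i : ℕ) := by
  obtain ⟨k, rfl⟩ := Subgroup.mem_zpowers_iff.mp hg
  refine ⟨⟨(k % 5).toNat, by omega⟩, ?_⟩
  rw [← zpow_natCast, Int.toNat_of_nonneg (Int.emod_nonneg _ (by norm_num))]
  have := (zpow_mod_orderOf f k).symm
  rwa [ho] at this

/-- A four-element group acting on a set with exactly one point having a nontrivial stabiliser. -/
theorem four_dvd_sdiff {J : Subgroup G} (hJ : Nat.card ↥J = 4) {S : Set G} {z : G}
    (hinv : ∀ g ∈ J, ∀ w ∈ S \ {z}, g * w * g⁻¹ ∈ S \ {z})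
    (hfree : ∀ g ∈ J, g ≠ 1 → ∀ w ∈ S \ {z}, g * w ≠ w * g) : 4 ∣ (S \ {z}).ncard := by
  classical
  set T := S \ {z}
  letI : MulAction ↥J ↥T :=
    { smul := fun g w => ⟨(g : G) * w * (g : G)⁻¹, hinv _ g.2 _ w.2⟩
      one_smul := fun w => Subtype.ext (show ((1 : ↥J) : G) * (w : G) * ((1 : ↥J) : G)⁻¹ = w by simp)
      mul_smul := fun g h w => Subtype.ext (show ((g * h : ↥J) : G) * (w : G) * ((g * h : ↥J) : G)⁻¹ =
        (g : G) * ((h : G) * w * (h : G)⁻¹) * (g : G)⁻¹ by simp [mul_assoc]) }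
  letI : Fintype ↥J := Fintype.ofFinite _
  rw [← Nat.card_coe_set_eq, Nat.card_congr (MulAction.selfEquivSigmaOrbits ↥J ↥T)]
  haveI : Fintype (Quotient (MulAction.orbitRel ↥J ↥T)) := Fintype.ofFinite _
  rw [Nat.card_sigma]
  refine Finset.dvd_sum fun q _ => ?_
  set w := q.out
  have hstab : MulAction.stabilizer ↥J w = ⊥ := by
    rw [Subgroup.eq_bot_iff_forall]
    intro g hg
    by_contra hne
    exact hfree (g : G) g.2 (fun e => hne (Subtype.ext e)) _ w.2 (conj_fix_iff.mp (congrArg Subtype.val hg))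
  have e := Nat.card_congr (MulAction.orbitProdStabilizerEquivGroup ↥J w)
  rw [Nat.card_prod, hstab, Subgroup.card_bot, mul_one, hJ] at e
  exact dvd_of_eq e.symm

namespace HJ

variable (h : HJ z Q pm)
include h

/-- An element of order five in `C(z)` lying over the standard five-cycle, inverted by an element of 2-power order. -/
theorem exists_five_pair : ∃ f j : G, f * z = z * f ∧ orderOf f = 5 ∧ pm f = refFive ∧
    j * z = z * j ∧ j * f * j⁻¹ = f⁻¹ ∧ (j * j = 1 ∨ j * j = z) ∧ j ∉ Q ∧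
    Nat.card ↥(Subgroup.centralizer ({z} : Set G) ⊓ Subgroup.centralizer ({f} : Set G)) = 10 := by
  classical
  obtain ⟨hσs, hσ5, hσ1⟩ := refFive_facts
  obtain ⟨a, ha, hpa⟩ := h.pm_surj _ hσs
  have ha5 : a ^ 5 ∈ Q := (h.pm_ker _ (Commute.pow_left ha 5)).mp (by rw [h.pm_pow ha, hpa, hσ5])
  have ha20 : (a ^ 5) ^ 4 = 1 := congrArg Subtype.val (h.es.toExt.pow_four ⟨a ^ 5, ha5⟩)
  set f := a ^ 16 with hfdef
  have hf : f * z = z * f := Commute.pow_left ha 16
  have hf5 : f ^ 5 = 1 := by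
    rw [hfdef, ← pow_mul, show 16 * 5 = (5 * 4) * 4 from rfl, pow_mul, pow_mul, ha20, one_pow]
  have hpf : pm f = refFive := by
    rw [hfdef, h.pm_pow ha, hpa, show (16 : ℕ) = 5 * 3 + 1 from rfl, pow_succ, pow_mul, hσ5, one_pow, one_mul]
  have ho : orderOf f = 5 := orderOf_eq_prime (hp := ⟨by norm_num⟩) hf5 fun e => hσ1 (by rw [← hpf, e, h.pm_one])
  have hfQ : f ∉ Q := fun hq => hσ1 (hpf ▸ h.pm_Q hq)
  -- the centralizer of `f` in `C(z)`
  set C2 := Subgroup.centralizer ({z} : Set G) ⊓ Subgroup.centralizer ({f} : Set G) with hC2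
  have hcent10 : Nat.card ↥C2 = 10 := by
    let φ : ↥C2 →* Perm (Fin 5) :=
      MonoidHom.mk' (fun a => pm a) fun a b => h.pm_mul _ _ (mem_cent.mp a.2.1) (mem_cent.mp b.2.1)
    have hk : Nat.card φ.ker = 2 := by
      refine (Nat.card_eq_two_iff' (1 : φ.ker)).mpr
        ⟨⟨⟨z, mem_cent.mpr rfl, mem_cent.mpr hf.symm⟩, h.pm_z⟩,
          fun e => h.es.ne (congrArg (fun w : φ.ker => ((w : ↥C2) : G)) e), ?_⟩
      rintro ⟨⟨w, hw⟩, hwk⟩ hne
      have hwQ : w ∈ Q := (h.pm_ker w (mem_cent.mp hw.1)).mp hwk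
      rcases h.five_fix hf ho hfQ hwQ (mem_cent.mp hw.2).symm with e | e
      · exact absurd (Subtype.ext (Subtype.ext e)) hne
      · exact Subtype.ext (Subtype.ext e)
    have hr : φ.range = Subgroup.zpowers refFive := by
      have hle : Subgroup.zpowers refFive ≤ φ.range :=
        Subgroup.zpowers_le.mpr ⟨⟨f, mem_cent.mpr hf, mem_cent.mpr rfl⟩, hpf⟩
      refine (Subgroup.eq_of_le_of_card_ge hle ?_).symm
      have hsub : (φ.range : Set (Perm (Fin 5))) ⊆
          ↑(Finset.univ.filter fun ρ : Perm (Fin 5) => Perm.sign ρ = 1 ∧ ρ * refFive = refFive * ρ) := by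
        rintro _ ⟨⟨w, hw⟩, rfl⟩
        have hwz := mem_cent.mp hw.1
        simp only [Finset.coe_filter, Finset.mem_univ, true_and, Set.mem_ofPred_eq]
        refine ⟨h.pm_sign w hwz, ?_⟩
        show pm w * refFive = refFive * pm w
        rw [← hpf, ← h.pm_mul _ _ hwz hf, mem_cent.mp hw.2, h.pm_mul _ _ hf hwz]
      have h2 := Set.ncard_le_ncard hsub (Set.toFinite _)
      rw [Set.ncard_coe_finset, five_cent_card] at h2
      rw [Nat.card_zpowers, orderOf_eq_prime (hp := ⟨(by norm_num : Nat.Prime 5)⟩) hσ5 hσ1,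
        show Nat.card φ.range = (φ.range : Set (Perm (Fin 5))).ncard from Nat.card_coe_set_eq _]
      exact h2
    rw [← Subgroup.card_mul_index φ.ker, Subgroup.index_ker, hk, hr, Nat.card_zpowers,
      orderOf_eq_prime (hp := ⟨(by norm_num : Nat.Prime 5)⟩) hσ5 hσ1]
  -- an inverting element
  obtain ⟨ρ, hρ, hρσ⟩ := five_inverter
  obtain ⟨r, hr, hpr⟩ := h.pm_surj ρ hρ.1
  set f' := r * f * r⁻¹ with hf'def
  have hf'z : f' * z = z * f' := Commute.mul_left (Commute.mul_left hr hf) (Commute.inv_left hr)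
  have hpf' : pm f' = refFive⁻¹ := by rw [hf'def, h.pm_conj hr hf, hpf, hpr, hρσ]
  let H : Subgroup G :=
    { carrier := {b | b * z = z * b ∧ pm b ∈ Subgroup.zpowers refFive}
      one_mem' := ⟨by simp, by rw [h.pm_one]; exact one_mem _⟩
      mul_mem' := fun {b c} hb hc => ⟨Commute.mul_left hb.1 hc.1, by
        rw [h.pm_mul _ _ hb.1 hc.1]; exact mul_mem hb.2 hc.2⟩
      inv_mem' := fun {b} hb => ⟨Commute.inv_left hb.1, by rw [h.pm_inv hb.1]; exact inv_mem hb.2⟩ }
  have hcardH : Nat.card ↥H = 160 := by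
    let φ : ↥H →* Perm (Fin 5) := MonoidHom.mk' (fun a => pm a) fun a b => h.pm_mul _ _ a.2.1 b.2.1
    have hk : Nat.card φ.ker = 32 := by
      rw [← h.card]
      exact Nat.card_congr
        { toFun := fun a => ⟨(a.1 : G), (h.pm_ker _ a.1.2.1).mp a.2⟩
          invFun := fun q => ⟨⟨q.1, h.es.comm _ q.2, by rw [h.pm_Q q.2]; exact one_mem _⟩, h.pm_Q q.2⟩
          left_inv := fun a => rfl
          right_inv := fun q => rfl }
    have hr' : φ.range = Subgroup.zpowers refFive := by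
      refine le_antisymm ?_ (Subgroup.zpowers_le.mpr ⟨⟨f, hf, hpf.symm ▸ Subgroup.mem_zpowers _⟩, hpf⟩)
      rintro _ ⟨b, rfl⟩
      exact b.2.2
    rw [← Subgroup.card_mul_index φ.ker, Subgroup.index_ker, hk, hr', Nat.card_zpowers,
      orderOf_eq_prime (hp := ⟨(by norm_num : Nat.Prime 5)⟩) hσ5 hσ1]
  haveI : Fact (Nat.Prime 5) := ⟨by norm_num⟩
  let fH : ↥H := ⟨f, hf, hpf.symm ▸ Subgroup.mem_zpowers _⟩
  let f'H : ↥H := ⟨f', hf'z, hpf'.symm ▸ inv_mem (Subgroup.mem_zpowers _)⟩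
  have hfac : (Nat.card ↥H).factorization 5 = 1 := by
    rw [hcardH, show (160 : ℕ) = 5 * 32 from rfl, Nat.factorization_mul (by norm_num) (by norm_num),
      Finsupp.add_apply, (by norm_num : Nat.Prime 5).factorization_self,
      Nat.factorization_eq_zero_of_not_dvd (by norm_num)]
  have hc1 : Nat.card ↥(Subgroup.zpowers fH) = 5 ^ (Nat.card ↥H).factorization 5 := by
    rw [hfac, pow_one, Nat.card_zpowers, ← Subgroup.orderOf_coe]; exact ho
  have hc2 : Nat.card ↥(Subgroup.zpowers f'H) = 5 ^ (Nat.card ↥H).factorization 5 := by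
    rw [hfac, pow_one, Nat.card_zpowers, ← Subgroup.orderOf_coe]
    show orderOf (r * f * r⁻¹) = 5
    rw [← MulAut.conj_apply, MulEquiv.orderOf_eq, ho]
  obtain ⟨c, hc⟩ := MulAction.exists_smul_eq ↥H (Sylow.ofCard _ hc2) (Sylow.ofCard _ hc1)
  have hmem : c * f'H * c⁻¹ ∈ Subgroup.zpowers fH := by
    have h2 : ((c • Sylow.ofCard _ hc2 : Sylow 5 ↥H) : Subgroup ↥H) = Subgroup.zpowers fH := by rw [hc]; rfl
    rw [← h2, Sylow.coe_subgroup_smul]
    exact Subgroup.smul_mem_pointwise_smul f'H (MulAut.conj c) _ (Subgroup.mem_zpowers f'H)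
  obtain ⟨k, hk⟩ := Subgroup.mem_zpowers_iff.mp hmem
  have hk' : f ^ k = (c : G) * f' * (c : G)⁻¹ := congrArg Subtype.val hk
  obtain ⟨i, hi⟩ := zpow_of_mem_five ho (Subgroup.mem_zpowers_iff.mpr ⟨k, hk'⟩)
  have hci : pm ((c : G) * f' * (c : G)⁻¹) = refFive⁻¹ := by
    rw [h.pm_conj c.2.1 hf'z, hpf']
    obtain ⟨l, hl⟩ := Subgroup.mem_zpowers_iff.mp c.2.2
    rw [← hl, ((Commute.refl refFive).zpow_left l).inv_right.eq, mul_inv_cancel_right]
  have hi4 : i = 4 := by
    have hall : ∀ i : Fin 5, refFive ^ (i : ℕ) = refFive⁻¹ → i = 4 := by decide +kernel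
    refine hall i ?_
    rw [← hci, hi, h.pm_pow hf, hpf]
  have hinvf : (c : G) * f' * (c : G)⁻¹ = f⁻¹ := by
    refine (eq_inv_of_mul_eq_one_left ?_)
    rw [hi, hi4, show ((4 : Fin 5) : ℕ) = 4 from rfl, ← pow_succ]; exact hf5
  set j₀ := (c : G) * r with hj₀
  have hj₀z : j₀ * z = z * j₀ := Commute.mul_left c.2.1 hr
  have hj₀f : j₀ * f * j₀⁻¹ = f⁻¹ := by rw [← hinvf, hf'def, hj₀]; group
  have hsq : j₀ * j₀ ∈ C2 := by
    refine ⟨mem_cent.mpr (Commute.mul_left hj₀z hj₀z), mem_cent.mpr ?_⟩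
    rw [← conj_fix_iff, show j₀ * j₀ * f * (j₀ * j₀)⁻¹ = j₀ * (j₀ * f * j₀⁻¹) * j₀⁻¹ by group, hj₀f,
      show j₀ * f⁻¹ * j₀⁻¹ = (j₀ * f * j₀⁻¹)⁻¹ by group, hj₀f, inv_inv]
  have h20 : (j₀ * j₀) ^ 10 = 1 := by
    have := congrArg Subtype.val (pow_card_eq_one' (x := (⟨j₀ * j₀, hsq⟩ : ↥C2)))
    rw [hcent10] at this
    exact this
  set j := j₀ ^ 5 with hj
  have hjz : j * z = z * j := Commute.pow_left hj₀z 5
  have hjf : j * f * j⁻¹ = f⁻¹ := by
    rw [hj, show j₀ ^ 5 = (j₀ * j₀) * (j₀ * j₀) * j₀ by simp [pow_succ, mul_assoc],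
      show j₀ * j₀ * (j₀ * j₀) * j₀ * f * (j₀ * j₀ * (j₀ * j₀) * j₀)⁻¹ =
        j₀ * j₀ * (j₀ * j₀) * (j₀ * f * j₀⁻¹) * (j₀ * j₀ * (j₀ * j₀))⁻¹ by group, hj₀f]
    exact conj_fix_iff.mpr (Commute.inv_right (Commute.mul_left (mem_cent.mp hsq.2) (mem_cent.mp hsq.2)))
  have hj4 : j * j * (j * j) = 1 := by
    rw [← h20, hj, ← pow_two j₀, ← pow_mul, ← pow_add, ← pow_add]
  have hj2 : j * j ∈ C2 := by
    refine ⟨mem_cent.mpr (Commute.mul_left hjz hjz), mem_cent.mpr ?_⟩
    rw [← conj_fix_iff, show j * j * f * (j * j)⁻¹ = j * (j * f * j⁻¹) * j⁻¹ by group, hjf,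
      show j * f⁻¹ * j⁻¹ = (j * f * j⁻¹)⁻¹ by group, hjf, inv_inv]
  have hjjz := mem_cent.mp hj2.1
  have hjjf := mem_cent.mp hj2.2
  have hjjQ : j * j ∈ Q := by
    refine (h.pm_ker _ hjjz).mp ?_
    have h1 : pm (j * j) * pm (j * j) = 1 := by rw [← h.pm_mul _ _ hjjz hjjz, hj4, h.pm_one]
    have h2 : pm (j * j) * refFive = refFive * pm (j * j) := by
      rw [← hpf, ← h.pm_mul _ _ hjjz hf, hjjf, h.pm_mul _ _ hf hjjz]
    have hall : ∀ ρ : Perm (Fin 5), Perm.sign ρ = 1 → ρ * ρ = 1 → ρ * refFive = refFive * ρ → ρ = 1 := by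
      decide +kernel
    exact hall _ (h.pm_sign _ hjjz) h1 h2
  refine ⟨f, j, hf, ho, hpf, hjz, hjf, h.five_fix hf ho hfQ hjjQ hjjf.symm, fun hq => hσ1 ?_, hcent10⟩
  have e := congrArg pm hjf
  rw [h.pm_conj hjz hf, h.pm_Q hq, hpf, one_mul, inv_one, mul_one, h.pm_inv hf, hpf] at e
  have e2 : refFive ^ 2 = 1 := by rw [pow_two]; nth_rewrite 1 [e]; rw [inv_mul_cancel]
  calc refFive = refFive ^ 5 * ((refFive ^ 2) ^ 2)⁻¹ := by group
    _ = 1 := by rw [hσ5, e2]; simp

end HJ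

namespace Cyc

variable (D : Cyc z x t t' d Q Q' pm pm')
include D

theorem I_sq {w : G} (hw : w ∈ D.I) : w * w = 1 ∧ w ≠ 1 := by
  obtain ⟨g, rfl⟩ := isConj_iff.mp hw.2
  exact ⟨conj_sq g z D.K.P.h.zz, fun e => D.K.P.h.es.ne (conj_eq_one_iff.mp e)⟩

theorem U_subset_I : ({z, x, z * x} : Set G) ⊆ D.I := by
  rintro w (rfl | rfl | rfl)
  · exact ⟨D.K.tz.symm, IsConj.refl w⟩
  · exact ⟨D.K.tx.symm, D.K.conj_U D.K.P.xU D.K.P.x1⟩
  · exact ⟨D.K.U_comm_t (mul_mem D.K.P.zU D.K.P.xU),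
      D.K.conj_U (mul_mem D.K.P.zU D.K.P.xU) D.K.P.zx_ne_one⟩

theorem I_eq (h3 : D.I.ncard = 3) : D.I = {z, x, z * x} := by
  refine (Set.eq_of_subset_of_ncard_le D.U_subset_I ?_ (Set.toFinite _)).symm
  rw [h3, Set.ncard_eq_three.mpr ⟨z, x, z * x, D.K.P.ne.symm, D.K.P.zx_ne_z.symm, D.K.P.zx_ne_x.symm, rfl⟩]

theorem not_three : D.I.ncard ≠ 3 := by
  classical
  intro h3
  have hG := D.card_G
  rw [h3] at hG
  norm_num at hG
  have hCt := D.card_Ct
  rw [h3] at hCt
  obtain ⟨f, j, hf, ho, hpf, hjz, hjf, hjj, hjQ, h10⟩ := D.K.P.h.exists_five_pair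
  haveI : Fact (Nat.Prime 5) := ⟨by norm_num⟩
  haveI : Fact (Nat.Prime 2) := ⟨Nat.prime_two⟩
  -- only the class of `z` centralises `f`
  have hzcls : ∀ w : G, w * w = 1 → w ≠ 1 → w * f = f * w → IsConj z w := by
    intro w hw2 hw1 hwf
    refine (D.K.class_cases hw2 hw1).resolve_right fun htw => ?_
    obtain ⟨g, rfl⟩ := isConj_iff.mp htw
    have hm : g⁻¹ * f * g ∈ Subgroup.centralizer ({t} : Set G) := by
      refine mem_cent.mpr ((conj_comm_iff g (g⁻¹ * f * g) t).mp ?_)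
      rw [show g * (g⁻¹ * f * g) * g⁻¹ = f by group]
      exact hwf.symm
    have := Subgroup.orderOf_dvd_natCard _ hm
    rw [show g⁻¹ * f * g = g⁻¹ * f * g⁻¹⁻¹ by group, ← MulAut.conj_apply, MulEquiv.orderOf_eq, ho, hCt] at this
    norm_num at this
  set Cf := Subgroup.centralizer ({f} : Set G) with hCf
  have hzCf : z ∈ Cf := mem_cent.mpr hf.symm
  -- `⟨z⟩` is a Sylow subgroup of `C(f)`
  have hsyl : ∀ P : Subgroup G, IsPGroup 2 ↥P → P ≤ Cf → z ∈ P → ∀ p ∈ P, p = 1 ∨ p = z := by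
    intro P hP hPle hzP p hp
    haveI : Nontrivial ↥P := ⟨⟨⟨z, hzP⟩, 1, fun e => D.K.P.h.es.ne (congrArg Subtype.val e)⟩⟩
    haveI := hP.center_nontrivial
    obtain ⟨⟨⟨c, hcP⟩, hc⟩, hc1⟩ := exists_ne (1 : Subgroup.center ↥P)
    have hcz : ∀ q ∈ P, q * c = c * q := fun q hq =>
      congrArg Subtype.val (Subgroup.mem_center_iff.mp hc ⟨q, hq⟩)
    have hsmall : ∀ q ∈ P, q * z = z * q → q = 1 ∨ q = z := by
      intro q hq hqz
      obtain ⟨k, hk⟩ := hP ⟨q, hq⟩
      have hk' : q ^ 2 ^ k = 1 := congrArg Subtype.val hk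
      have hmem : q ∈ Subgroup.centralizer ({z} : Set G) ⊓ Subgroup.centralizer ({f} : Set G) :=
        ⟨mem_cent.mpr hqz, hPle hq⟩
      have h10' : q ^ 10 = 1 := by
        have := congrArg Subtype.val (pow_card_eq_one'
          (x := (⟨q, hmem⟩ : ↥(Subgroup.centralizer ({z} : Set G) ⊓ Subgroup.centralizer ({f} : Set G)))))
        rw [h10] at this
        exact this
      have hq2 : q ^ 2 = 1 := by
        refine orderOf_dvd_iff_pow_eq_one.mp ?_
        have h1 := orderOf_dvd_iff_pow_eq_one.mpr hk'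
        have h2 := orderOf_dvd_iff_pow_eq_one.mpr h10'
        obtain ⟨i, hi, hoi⟩ := (Nat.dvd_prime_pow Nat.prime_two).mp h1
        rw [hoi] at h2 ⊢
        rcases i with _ | _ | i
        · norm_num
        · norm_num
        · exfalso
          have h4 : 4 ∣ 10 := dvd_trans ⟨2 ^ i, by ring⟩ h2
          norm_num at h4
      rw [pow_two] at hq2
      have hqQ : q ∈ Q := by
        refine (D.K.P.h.pm_ker q hqz).mp ?_
        have e1 : pm q * pm q = 1 := by rw [← D.K.P.h.pm_mul _ _ hqz hqz, hq2, D.K.P.h.pm_one]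
        have e2 : pm q * refFive = refFive * pm q := by
          rw [← hpf, ← D.K.P.h.pm_mul _ _ hqz hf, mem_cent.mp (hPle hq), D.K.P.h.pm_mul _ _ hf hqz]
        have hall : ∀ ρ : Perm (Fin 5), Perm.sign ρ = 1 → ρ * ρ = 1 → ρ * refFive = refFive * ρ → ρ = 1 := by
          decide +kernel
        exact hall _ (D.K.P.h.pm_sign q hqz) e1 e2
      exact D.K.P.h.five_fix hf ho (fun hq' => refFive_facts.2.2 (hpf ▸ D.K.P.h.pm_Q hq')) hqQ
        (mem_cent.mp (hPle hq)).symm
    have hceq : c = z := (hsmall c hcP (hcz z hzP).symm).resolve_left fun e => hc1 (Subtype.ext (Subtype.ext e))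
    exact hsmall p hp (hceq ▸ hcz p hp)
  set S := {w : G | w * w = 1 ∧ w ≠ 1 ∧ w * f = f * w} with hS
  have horb : orb Cf z = S := by
    ext w
    constructor
    · rintro ⟨g, hg, rfl⟩
      exact ⟨conj_sq g z D.K.P.h.zz, fun e => D.K.P.h.es.ne (conj_eq_one_iff.mp e),
        Commute.mul_left (Commute.mul_left (mem_cent.mp hg) hf.symm) (Commute.inv_left (mem_cent.mp hg))⟩
    · rintro ⟨hw2, hw1, hwf⟩
      have hz2 : IsPGroup 2 ↥(Subgroup.zpowers (⟨z, hzCf⟩ : Cf)) :=
        IsPGroup.of_card (n := 1) (by rw [Nat.card_zpowers, ← Subgroup.orderOf_coe, pow_one]; exact D.K.P.h.hz)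
      have hw2' : IsPGroup 2 ↥(Subgroup.zpowers (⟨w, mem_cent.mpr hwf⟩ : Cf)) :=
        IsPGroup.of_card (n := 1)
          (by rw [Nat.card_zpowers, ← Subgroup.orderOf_coe, pow_one]; exact orderOf_two_of hw2 hw1)
      obtain ⟨P, hP⟩ := hz2.exists_le_sylow
      obtain ⟨R, hR⟩ := hw2'.exists_le_sylow
      obtain ⟨g, hg⟩ := MulAction.exists_smul_eq Cf R P
      have hmem : g * ⟨w, mem_cent.mpr hwf⟩ * g⁻¹ ∈ (P : Subgroup Cf) := by
        rw [← hg, Sylow.coe_subgroup_smul]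
        exact Subgroup.smul_mem_pointwise_smul _ (MulAut.conj g) _ (hR (Subgroup.mem_zpowers _))
      rcases hsyl ((P : Subgroup Cf).map Cf.subtype) (P.2.map _) (Subgroup.map_subtype_le _)
          ⟨_, hP (Subgroup.mem_zpowers _), rfl⟩ _ ⟨_, hmem, rfl⟩ with e | e
      · exact absurd (conj_eq_one_iff.mp e) hw1
      · have e' : (g : G) * w * (g : G)⁻¹ = z := e
        exact ⟨(g : G)⁻¹, inv_mem g.2, by rw [inv_inv]; exact conj_back e'⟩
  have hCfc : Nat.card ↥Cf = 10 * S.ncard := by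
    have e := ncard_orb Cf z
    rw [horb, inf_comm, h10] at e
    omega
  -- the normalizer of `⟨f⟩`
  set N := Subgroup.normalizer ((Subgroup.zpowers f : Subgroup G) : Set G) with hN
  have hCfN : Cf ≤ N := fun g hg => by
    refine Subgroup.mem_normalizer_iff.mpr fun a => ?_
    constructor
    · intro ha
      obtain ⟨k, rfl⟩ := Subgroup.mem_zpowers_iff.mp ha
      rw [conj_fix_iff.mpr (Commute.zpow_right (mem_cent.mp hg : Commute g f) k)]
      exact zpow_mem (Subgroup.mem_zpowers f) k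
    · intro ha
      obtain ⟨k, hk⟩ := Subgroup.mem_zpowers_iff.mp ha
      have hh : a = g⁻¹ * f ^ k * g := by rw [hk]; group
      rw [hh, mul_assoc, (Commute.zpow_left (mem_cent.mp hg : Commute g f).symm k).eq, inv_mul_cancel_left]
      exact zpow_mem (Subgroup.mem_zpowers f) k
  have horbN : orb N f = {f, f⁻¹} := by
    ext w
    constructor
    · rintro ⟨n, hn, rfl⟩
      have hmem := ((Subgroup.mem_normalizer_iff.mp hn) f).mp (Subgroup.mem_zpowers f)
      obtain ⟨i, hi⟩ := zpow_of_mem_five ho hmem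
      have hfn : ∀ a : G, a * f = f * a → n * a * n⁻¹ * f = f * (n * a * n⁻¹) := by
        intro a ha
        obtain ⟨l, hl⟩ := Subgroup.mem_zpowers_iff.mp (((Subgroup.mem_normalizer_iff.mp (inv_mem hn)) f).mp
          (Subgroup.mem_zpowers f))
        rw [inv_inv] at hl
        have h1 : f = n * f ^ l * n⁻¹ := by rw [hl]; group
        conv_lhs => rw [h1]
        conv_rhs => rw [h1]
        exact (conj_comm_iff n a (f ^ l)).mpr (Commute.zpow_right ha l)
      have hnz : n * z * n⁻¹ ∈ S :=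
        ⟨conj_sq n z D.K.P.h.zz, fun e => D.K.P.h.es.ne (conj_eq_one_iff.mp e), hfn z hf.symm⟩
      rw [← horb] at hnz
      obtain ⟨c, hc, hcz⟩ := hnz
      set m := c⁻¹ * n with hm
      have hmz : m * z = z * m := by
        rw [← conj_fix_iff, hm, show c⁻¹ * n * z * (c⁻¹ * n)⁻¹ = c⁻¹ * (n * z * n⁻¹) * c by group]
        exact conj_back hcz
      have hmf : m * f * m⁻¹ = f ^ (i : ℕ) := by
        rw [hm, show c⁻¹ * n * f * (c⁻¹ * n)⁻¹ = c⁻¹ * (n * f * n⁻¹) * c by group, hi]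
        exact conj_back (conj_fix_iff.mpr (Commute.pow_right (mem_cent.mp hc : Commute c f) _))
      have hp := congrArg pm hmf
      rw [D.K.P.h.pm_conj hmz hf, D.K.P.h.pm_pow hf, hpf] at hp
      obtain ⟨h2, h3'⟩ := five_normalizer _ (D.K.P.h.pm_sign m hmz)
      rw [hp] at h2 h3'
      have hne0 : (i : ℕ) ≠ 0 := fun e => by
        rw [hi.symm.trans hi, e, pow_zero] at hi
        have := congrArg orderOf (conj_eq_one_iff.mp hi)
        rw [ho, orderOf_one] at this
        omega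
      rcases i with ⟨_ | _ | _ | _ | _ | i, hlt⟩
      · exact absurd rfl hne0
      · left; rw [hi, pow_one]
      · exact absurd rfl h2
      · exact absurd rfl h3'
      · right
        rw [hi, Set.mem_singleton_iff]
        refine eq_inv_of_mul_eq_one_left ?_
        rw [← pow_succ]; show f ^ 5 = 1; rw [← ho]; exact pow_orderOf_eq_one f
      · omega
    · have hjN : j ∈ N := by
        refine Subgroup.mem_normalizer_iff.mpr fun a => ⟨fun ha => ?_, fun ha => ?_⟩
        · obtain ⟨k, rfl⟩ := Subgroup.mem_zpowers_iff.mp ha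
          rw [← MulAut.conj_apply, map_zpow, MulAut.conj_apply, hjf]
          exact zpow_mem (inv_mem (Subgroup.mem_zpowers f)) k
        · obtain ⟨k, hk⟩ := Subgroup.mem_zpowers_iff.mp ha
          have e1 : j⁻¹ * f * j = f⁻¹ := by
            have := conj_back hjf
            rw [show j⁻¹ * f * j = (j⁻¹ * f⁻¹ * j)⁻¹ by group, this]
          rw [show a = j⁻¹ * f ^ k * j⁻¹⁻¹ by rw [hk]; group, ← MulAut.conj_apply, map_zpow, MulAut.conj_apply,
            inv_inv, e1]
          exact zpow_mem (inv_mem (Subgroup.mem_zpowers f)) k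
      rintro (rfl | rfl)
      · exact ⟨1, one_mem _, by simp⟩
      · exact ⟨j, hjN, hjf⟩
  have hNc : Nat.card ↥N = 20 * S.ncard := by
    have e := ncard_orb N f
    rw [horbN, Set.ncard_pair fun e => by
        have h2 : f ^ 2 = 1 := by rw [pow_two]; nth_rewrite 1 [e]; rw [inv_mul_cancel]
        have := orderOf_dvd_iff_pow_eq_one.mpr h2
        rw [ho] at this; norm_num at this,
      inf_eq_right.mpr hCfN, hCfc] at e
    omega
  -- Sylow
  have hfac : (Nat.card G).factorization 5 = 1 := by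
    rw [hG, show (51840 : ℕ) = 5 * 10368 from rfl, Nat.factorization_mul (by norm_num) (by norm_num),
      Finsupp.add_apply, (by norm_num : Nat.Prime 5).factorization_self,
      Nat.factorization_eq_zero_of_not_dvd (by norm_num)]
  have hcP : Nat.card ↥(Subgroup.zpowers f) = 5 ^ (Nat.card G).factorization 5 := by
    rw [hfac, pow_one, Nat.card_zpowers, ho]
  have hn5 := (Sylow.ofCard _ hcP).card_eq_index_normalizer
  have hmod := card_sylow_modEq_one 5 G
  have hNeq : (Subgroup.normalizer ((Sylow.ofCard _ hcP : Sylow 5 G) : Set G)).index = N.index := rfl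
  rw [hn5, hNeq] at hmod
  have hidx := Subgroup.card_mul_index N
  rw [hNc, hG] at hidx
  -- orbits on the involutions of `C(f)`
  have hfix : ∀ g : G, g * g = 1 → g * z = z * g → g ∉ Q → ∀ w ∈ S, g * w = w * g → w = z := by
    rintro g hg2 hgz hgQ w ⟨hw2, hw1, hwf⟩ hgw
    obtain ⟨c, hc, hct⟩ := D.K.exists_conj_t hgz hg2 hgQ
    have hzw := hzcls w hw2 hw1 hwf
    have hmI : c⁻¹ * w * c ∈ D.I := by
      refine ⟨(conj_comm_iff c _ t).mp ?_, hzw.trans (isConj_iff.mpr ⟨c⁻¹, by rw [inv_inv]⟩)⟩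
      rw [show c * (c⁻¹ * w * c) * c⁻¹ = w by group, hct]
      exact hgw.symm
    rw [D.I_eq h3] at hmI
    have hUm : c⁻¹ * w * c ∈ D.K.P.U := by
      rcases hmI with e | e | e <;> rw [e]
      exacts [D.K.P.zU, D.K.P.xU, mul_mem D.K.P.zU D.K.P.xU]
    have hzz' : c⁻¹ * w * c * z = z * (c⁻¹ * w * c) := D.K.P.h.es.comm _ (D.K.P.U_mem hUm).1
    have hwz : w * z = z * w := by
      have := (conj_comm_iff c _ z).mpr hzz'
      rwa [show c * (c⁻¹ * w * c) * c⁻¹ = w by group, conj_fix_iff.mpr hc] at this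
    have hwQ : w ∈ Q := (D.K.conj_z_iff hwz hw2 hw1).mp hzw
    rcases D.K.P.h.five_fix hf ho (fun hq => refFive_facts.2.2 (hpf ▸ D.K.P.h.pm_Q hq)) hwQ hwf.symm with e | e
    · exact absurd e hw1
    · exact e
  have hfixz : ∀ w ∈ S, z * w = w * z → w = z := by
    rintro w ⟨hw2, hw1, hwf⟩ hzw
    have hwQ : w ∈ Q := (D.K.conj_z_iff hzw.symm hw2 hw1).mp (hzcls w hw2 hw1 hwf)
    rcases D.K.P.h.five_fix hf ho (fun hq => refFive_facts.2.2 (hpf ▸ D.K.P.h.pm_Q hq)) hwQ hwf.symm with e | e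
    · exact absurd e hw1
    · exact e
  have hinvS : ∀ g : G, g * z = z * g → (g * f * g⁻¹ = f ∨ g * f * g⁻¹ = f⁻¹) → ∀ w ∈ S \ {z},
      g * w * g⁻¹ ∈ S \ {z} := by
    rintro g hgz hgf w ⟨⟨hw2, hw1, hwf⟩, hwne⟩
    refine ⟨⟨conj_sq g w hw2, fun e => hw1 (conj_eq_one_iff.mp e), ?_⟩, fun e => hwne ?_⟩
    · rcases hgf with e | e
      · have := (conj_comm_iff g w f).mpr hwf
        rwa [e] at this
      · have := (conj_comm_iff g w f).mpr hwf
        rw [e] at this
        have h2 : Commute (g * w * g⁻¹) f⁻¹ := this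
        exact inv_inv f ▸ h2.inv_right
    · show w = z
      rw [← conj_back (Set.mem_singleton_iff.mp e), conj_back (conj_fix_iff.mpr hgz)]
  have hSz : z ∈ S := ⟨D.K.P.h.zz, D.K.P.h.es.ne, hf.symm⟩
  have h4 : 4 ∣ (S \ {z}).ncard := by
    rcases hjj with hj2 | hj2
    · have hj1 : j ≠ 1 := fun e => hjQ (e ▸ one_mem _)
      set J := fourGroup z j D.K.P.h.zz hj2 hjz.symm with hJdef
      have hzjne : z * j ∉ Q := fun hq => hjQ (by
        have := mul_mem (inv_mem D.K.P.h.es.mem) hq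
        rwa [inv_mul_cancel_left] at this)
      have hzj2 : z * j * (z * j) = 1 := by
        rw [show z * j * (z * j) = z * (j * z) * j by group, hjz, ← mul_assoc, D.K.P.h.zz, one_mul, hj2]
      refine four_dvd_sdiff (J := J) ?_ ?_ ?_
      · have : (J : Set G) = {1, z, j, z * j} := by ext y; exact Iff.rfl
        rw [show Nat.card ↥J = (J : Set G).ncard from Nat.card_coe_set_eq _, this, Set.ncard_insert_of_notMem,
          Set.ncard_insert_of_notMem, Set.ncard_pair]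
        · exact fun e => D.K.P.h.es.ne (mul_eq_right.mp e.symm)
        · rintro (e | e)
          exacts [hjQ (e ▸ D.K.P.h.es.mem), hzjne (e ▸ D.K.P.h.es.mem)]
        · rintro (e | e | e)
          exacts [D.K.P.h.es.ne e.symm, hj1 e.symm, hzjne (e ▸ one_mem _)]
      · rintro g (rfl | rfl | rfl | rfl)
        · intro w hw; simpa using hw
        · exact hinvS g rfl (Or.inl (conj_fix_iff.mpr hf.symm))
        · exact hinvS g hjz (Or.inr hjf)
        · refine hinvS _ (Commute.mul_left rfl hjz) (Or.inr ?_)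
          rw [show z * j * f * (z * j)⁻¹ = z * (j * f * j⁻¹) * z⁻¹ by group, hjf]
          exact conj_fix_iff.mpr (Commute.inv_right (hf.symm : Commute z f))
      · rintro g (rfl | rfl | rfl | rfl) hg1 w hw e
        · exact hg1 rfl
        · exact hw.2 (hfixz w hw.1 e)
        · exact hw.2 (hfix g hj2 hjz hjQ w hw.1 e)
        · exact hw.2 (hfix _ hzj2 (Commute.mul_left rfl hjz) hzjne w hw.1 e)
    · have hord : orderOf j = 2 ^ 2 := orderOf_eq_prime_pow (n := 1) (p := 2)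
        (by rw [pow_one, pow_two, hj2]; exact D.K.P.h.es.ne)
        (by rw [show 2 ^ (1 + 1) = 2 * 2 from rfl, pow_mul, pow_two, pow_two, hj2, D.K.P.h.zz])
      refine four_dvd_sdiff (J := Subgroup.zpowers j) (by rw [Nat.card_zpowers, hord]; rfl) ?_ ?_
      · intro g hg
        obtain ⟨k, rfl⟩ := Subgroup.mem_zpowers_iff.mp hg
        refine hinvS _ (Commute.zpow_left hjz k) ?_
        have hjjf : j * j * f = f * (j * j) := by rw [hj2]; exact hf.symm
        rcases Int.even_or_odd' k with ⟨i, rfl | rfl⟩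
        · left
          rw [zpow_mul, zpow_two]
          exact conj_fix_iff.mpr (Commute.zpow_left hjjf i)
        · right
          rw [zpow_add_one, zpow_mul, zpow_two, show (j * j) ^ i * j * f * ((j * j) ^ i * j)⁻¹ =
            (j * j) ^ i * (j * f * j⁻¹) * ((j * j) ^ i)⁻¹ by group, hjf]
          exact conj_fix_iff.mpr (Commute.inv_right (Commute.zpow_left hjjf i))
      · intro g hg hg1 w hw e
        obtain ⟨k, rfl⟩ := Subgroup.mem_zpowers_iff.mp hg
        refine hw.2 (hfixz w hw.1 ?_)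
        rw [← hj2]
        rcases Int.even_or_odd' k with ⟨i, rfl | rfl⟩
        · rw [zpow_mul, zpow_two, hj2] at hg1 e
          rcases mem_zpowers_sq D.K.P.h.zz (zpow_mem (Subgroup.mem_zpowers z) i) with e1 | e1
          · exact absurd e1 hg1
          · rw [hj2]; rwa [e1] at e
        · have hgg : j ^ (2 * i + 1) * j ^ (2 * i + 1) = j * j := by
            rw [← zpow_add, show (2 * i + 1) + (2 * i + 1) = 4 * i + 2 by ring, zpow_add, zpow_mul,
              show j ^ (4 : ℤ) = 1 by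
                rw [show (4 : ℤ) = 2 * 2 from rfl, zpow_mul, zpow_two, zpow_two, ← mul_assoc]
                rw [hj2, mul_assoc, hj2, D.K.P.h.zz],
              one_zpow, one_mul, zpow_two]
          rw [← hgg]
          exact Commute.mul_left e e
  have hS1 : (S \ {z}).ncard + 1 = S.ncard := Set.ncard_sdiff_singleton_add_one hSz (Set.toFinite _)
  have hd : S.ncard ∣ 2592 := ⟨N.index, by linarith⟩
  have hall : ∀ m ∈ Nat.divisors 2592, m % 4 = 1 → (2592 / m) % 5 ≠ 1 := by decide +kernel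
  refine hall S.ncard (Nat.mem_divisors.mpr ⟨hd, by norm_num⟩) (by omega) ?_
  have hq : 2592 / S.ncard = N.index := by
    refine Nat.div_eq_of_eq_mul_right (by omega) ?_
    linarith
  rw [hq]
  exact hmod

theorem card_eq : Nat.card G = 604800 := by
  have h := D.ncard_I.resolve_left D.not_three
  rw [D.card_G, h]

end Cyc

theorem card_eq_of_HJ (h : HJ z Q pm) : Nat.card G = 604800 := by
  obtain ⟨x, t, t', d, Q', pm', D⟩ := exists_cyc h
  exact D.card_eq

end CfsgLib.HallJankoType
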