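import Cfsg.Agent.Lib.HallJankoType.Setup

/-!
Groups of Hall–Janko type: two commuting conjugates of the central involution, and the second class of involutions.
-/

set_option autoImplicit false
set_option linter.unusedSectionVars false

namespace CfsgLib.HallJankoType

open Cfsg CfsgLargeExtra Equiv

universe u

variable {G : Type u} [Group G] [Finite G] {z : G} {Q : Subgroup G} {pm : G → Perm (Fin 5)}

theorem HJ.conjBy (h : HJ z Q pm) (g : G) :
    HJ (g * z * g⁻¹) (CfsgLargeExtra.cj g Q) (fun a => pm (g⁻¹ * a * g)) := by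
  have key : ∀ a : G, a * (g * z * g⁻¹) = g * z * g⁻¹ * a → g⁻¹ * a * g * z = z * (g⁻¹ * a * g) := fun a ha => by
    calc g⁻¹ * a * g * z = g⁻¹ * (a * (g * z * g⁻¹)) * g := by group
      _ = g⁻¹ * (g * z * g⁻¹ * a) * g := by rw [ha]
      _ = z * (g⁻¹ * a * g) := by group
  refine ⟨h.es.cj g, ?_, fun a b ha hb => ?_, fun a ha => h.pm_sign _ (key a ha), fun σ hσ => ?_, fun a ha => ?_, ?_,
    h.classes⟩
  · show Nat.card ↥(Q.map (MulAut.conj g).toMonoidHom) = 32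
    rw [Subgroup.card_map_of_injective (f := (MulAut.conj g).toMonoidHom) (MulAut.conj g).injective, h.card]
  · show pm (g⁻¹ * (a * b) * g) = _
    rw [show g⁻¹ * (a * b) * g = (g⁻¹ * a * g) * (g⁻¹ * b * g) by group, h.pm_mul _ _ (key a ha) (key b hb)]
  · obtain ⟨a, ha, hpa⟩ := h.pm_surj σ hσ
    refine ⟨g * a * g⁻¹, ?_, by simp [mul_assoc, hpa]⟩
    calc g * a * g⁻¹ * (g * z * g⁻¹) = g * (a * z) * g⁻¹ := by group
      _ = g * (z * a) * g⁻¹ := by rw [ha]
      _ = g * z * g⁻¹ * (g * a * g⁻¹) := by group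
  · exact (h.pm_ker _ (key a ha)).trans mem_cj.symm
  · obtain ⟨k, hk, hne⟩ := h.fused
    refine ⟨g * k * g⁻¹, ?_, fun e => hne ?_⟩
    · rw [mem_cj, show g⁻¹ * (g * k * g⁻¹ * (g * z * g⁻¹) * (g * k * g⁻¹)⁻¹) * g = k * z * k⁻¹ by group]
      exact hk
    · calc k * z * k⁻¹ = g⁻¹ * (g * k * g⁻¹ * (g * z * g⁻¹) * (g * k * g⁻¹)⁻¹) * g := by group
        _ = g⁻¹ * (g * z * g⁻¹) * g := by rw [e]
        _ = z := by group

/-- A four group of conjugates of `z` with the two extraspecial groups at `z` and at `x`. -/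
structure Pair (z x : G) (Q Q' : Subgroup G) (pm pm' : G → Perm (Fin 5)) : Prop where
  h : HJ z Q pm
  h' : HJ x Q' pm'
  hx : x ∈ Q
  hz : z ∈ Q'
  ne : x ≠ z

theorem HJ.exists_pair (h : HJ z Q pm) :
    ∃ (x : G) (Q' : Subgroup G) (pm' : G → Perm (Fin 5)), Pair z x Q Q' pm pm' := by
  obtain ⟨g, hg, hne⟩ := h.fused
  refine ⟨g * z * g⁻¹, CfsgLargeExtra.cj g Q, _, h, h.conjBy g, hg, ?_, hne⟩
  refine h.es.symm_mem hg fun _ => ?_
  have hgg : g * z * g⁻¹ * (g * z * g⁻¹) = 1 := (h.es.cj g).zz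
  have hxS : g * z * g⁻¹ ∈ h.S := ⟨hg, hgg, (h.es.cj g).ne, hne⟩
  by_contra hno
  push Not at hno
  have hle : Q ⊓ Subgroup.centralizer ({g * z * g⁻¹} : Set G) ≤
      fourGroup z (g * z * g⁻¹) h.zz hgg (h.es.comm _ hg).symm := by
    intro a ha
    exact h.es.mem_four hg hgg ha.1 fun p hp hc => hno a ha.1 p hp (mem_cent.mp ha.2) hc
  have h16 := Subgroup.card_le_of_le hle
  rw [h.card_QS hxS] at h16
  have h4 : Nat.card ↥(fourGroup z (g * z * g⁻¹) h.zz hgg (h.es.comm _ hg).symm) ≤ 4 := by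
    have e : ((fourGroup z (g * z * g⁻¹) h.zz hgg (h.es.comm _ hg).symm : Subgroup G) : Set G) =
        {1, z, g * z * g⁻¹, z * (g * z * g⁻¹)} := by
      ext y; exact Iff.rfl
    rw [show Nat.card ↥(fourGroup z (g * z * g⁻¹) h.zz hgg (h.es.comm _ hg).symm) =
      ((fourGroup z (g * z * g⁻¹) h.zz hgg (h.es.comm _ hg).symm : Subgroup G) : Set G).ncard from
      Nat.card_coe_set_eq _, e]
    have a1 := Set.ncard_insert_le (1 : G) {z, g * z * g⁻¹, z * (g * z * g⁻¹)}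
    have a2 := Set.ncard_insert_le z {g * z * g⁻¹, z * (g * z * g⁻¹)}
    have a3 := Set.ncard_insert_le (g * z * g⁻¹) {z * (g * z * g⁻¹)}
    rw [Set.ncard_singleton] at a3
    omega
  omega

variable {x : G} {Q' : Subgroup G} {pm' : G → Perm (Fin 5)}

namespace Pair

variable (P : Pair z x Q Q' pm pm')
include P

theorem symm : Pair x z Q' Q pm' pm := ⟨P.h', P.h, P.hz, P.hx, P.ne.symm⟩

theorem xx : x * x = 1 := P.h'.zz

theorem zx : z * x = x * z := (P.h.es.comm x P.hx).symm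

theorem x1 : x ≠ 1 := P.h'.es.ne

theorem memS : x ∈ P.h.S := ⟨P.hx, P.xx, P.x1, P.ne⟩

theorem zx_ne_one : z * x ≠ 1 := fun e => P.ne ((eq_inv_of_mul_eq_one_right e).trans
  (inv_eq_of_mul_eq_one_right P.h.zz))

theorem zx_ne_z : z * x ≠ z := fun e => P.x1 (mul_eq_left.mp e)

theorem zx_ne_x : z * x ≠ x := fun e => P.h.es.ne (mul_eq_right.mp e)

omit P in
/-- The four group `{1, z, x, z * x}`. -/
def U (P : Pair z x Q Q' pm pm') : Subgroup G := fourGroup z x P.h.zz P.xx P.zx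

theorem mem_U {a : G} : a ∈ P.U ↔ a = 1 ∨ a = z ∨ a = x ∨ a = z * x := Iff.rfl

theorem zU : z ∈ P.U := Or.inr (Or.inl rfl)

theorem xU : x ∈ P.U := Or.inr (Or.inr (Or.inl rfl))

theorem U_symm {a : G} (ha : a ∈ P.symm.U) : a ∈ P.U := by
  rcases ha with rfl | rfl | rfl | rfl
  exacts [one_mem _, P.xU, P.zU, mul_mem P.xU P.zU]

theorem mem_U_symm {a : G} : a ∈ P.symm.U ↔ a ∈ P.U := ⟨P.U_symm, P.symm.U_symm⟩

theorem U_mem {a : G} (ha : a ∈ P.U) : a ∈ Q ∧ a * x = x * a ∧ a * a = 1 := by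
  rcases ha with rfl | rfl | rfl | rfl
  · exact ⟨one_mem _, by simp, one_mul 1⟩
  · exact ⟨P.h.es.mem, P.zx, P.h.zz⟩
  · exact ⟨P.hx, rfl, P.xx⟩
  · refine ⟨mul_mem P.h.es.mem P.hx, by rw [P.zx, mul_assoc, P.zx], ?_⟩
    rw [show z * x * (z * x) = z * (x * z) * x by group, ← P.zx,
      show z * (z * x) * x = z * z * (x * x) by group, P.h.zz, P.xx, mul_one]

theorem U_central {a b : G} (ha : a ∈ P.U) (hbz : b * z = z * b) (hbx : b * x = x * b) : a * b = b * a := by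
  rcases ha with rfl | rfl | rfl | rfl
  exacts [by simp, hbz.symm, hbx.symm, (Commute.mul_left hbz.symm hbx.symm : Commute (z * x) b)]

theorem card_U : Nat.card ↥P.U = 4 := by
  have e : (P.U : Set G) = {1, z, x, z * x} := by ext y; exact Iff.rfl
  rw [show Nat.card ↥P.U = (P.U : Set G).ncard from Nat.card_coe_set_eq _, e, Set.ncard_insert_of_notMem,
    Set.ncard_insert_of_notMem, Set.ncard_pair]
  · exact P.zx_ne_x.symm
  · rintro (e | e)
    exacts [P.ne e.symm, P.zx_ne_z e.symm]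
  · rintro (e | e | e)
    exacts [P.h.es.ne e.symm, P.x1 e.symm, P.zx_ne_one e.symm]

theorem inter {a : G} (ha : a ∈ Q) (ha' : a ∈ Q') : a ∈ P.U := by
  refine P.h.ea P.memS ha ?_ (P.h'.es.comm a ha')
  rcases P.h.es.sq a ha with e | e
  · exact e
  · rcases P.h'.es.sq a ha' with e' | e'
    · exact e'
    · exact absurd (e'.symm.trans e) P.ne

theorem A_sq {a : G} (ha : a ∈ Q) (hax : a * x = x * a) (haU : a ∉ P.U) : a * a = z := by
  rcases P.h.es.sq a ha with e | e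
  · exact absurd (P.h.ea P.memS ha e hax) haU
  · exact e

theorem A_comm {a b : G} (ha : a ∈ Q) (hax : a * x = x * a) (haU : a ∉ P.U) (hb : b ∈ Q) (hbx : b * x = x * b)
    (hbU : b ∉ P.U) (hab : a * b = b * a) : a * b ∈ P.U := by
  refine P.h.ea P.memS (mul_mem ha hb) ?_ (Commute.mul_left hax hbx)
  calc a * b * (a * b) = a * (b * a) * b := by group
    _ = a * a * (b * b) := by rw [← hab]; group
    _ = 1 := by rw [P.A_sq ha hax haU, P.A_sq hb hbx hbU, P.h.zz]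

theorem A_noncomm {a b : G} (ha : a ∈ Q) (hb : b ∈ Q) (hab : a * b ≠ b * a) : a * b = z * (b * a) := by
  rcases P.h.es.conj_cases ha hb with e | e
  · exact absurd (conj_fix_iff.mp e) hab
  · rw [mul_inv_eq_iff_eq_mul] at e
    rw [e, P.h.es.comm b hb, mul_assoc]

theorem exists_s : ∃ s ∈ Q, s * x * s⁻¹ = x * z := by
  by_contra hall
  push Not at hall
  rcases P.h.es.cen x fun q hq => by
      rcases P.h.es.conj_cases hq P.hx with e | e
      · exact (conj_fix_iff.mp e).symm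
      · exact absurd e (hall q hq) with e | e
  · exact P.x1 e
  · exact P.ne e

/-- An element of `Q` moving `x` shifts the part at `x` by commuting elements of the part at `z`. -/
theorem shift {s b : G} (hs : s ∈ Q) (hsx : s * x * s⁻¹ = x * z) (hb : b ∈ Q') (hbz : b * z = z * b)
    (hbU : b ∉ P.U) : ∃ q : G, q ∈ Q ∧ q * x = x * q ∧ q ∉ P.U ∧ q * b = b * q ∧ s * b * s⁻¹ = b * q := by
  have hbb : b * b = x := P.symm.A_sq hb hbz fun hm => hbU (P.U_symm hm)
  have hbx : b * x = x * b := P.h'.es.comm b hb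
  have hsz : s * z = z * s := P.h.es.comm s hs
  set q := b⁻¹ * (s * b * s⁻¹) with hq
  have hqQ : q ∈ Q := by
    rw [hq, show b⁻¹ * (s * b * s⁻¹) = b⁻¹ * s * b⁻¹⁻¹ * s⁻¹ by group]
    exact mul_mem (P.h.nor_mem (Commute.inv_left hbz) hs) (inv_mem hs)
  have hsbz : s * b * s⁻¹ * z = z * (s * b * s⁻¹) :=
    Commute.mul_left (Commute.mul_left hsz hbz) (Commute.inv_left hsz)
  have hs2 : s * (x * z) * s⁻¹ = x := by
    rw [show s * (x * z) * s⁻¹ = (s * x * s⁻¹) * (s * z * s⁻¹) by group, hsx, conj_fix_iff.mpr hsz, mul_assoc,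
      P.h.zz, mul_one]
  have hsbx : s * b * s⁻¹ * x = x * (s * b * s⁻¹) := by
    conv_lhs => rw [← hs2]
    conv_rhs => rw [← hs2]
    have hbxz : b * (x * z) = x * z * b := Commute.mul_right hbx hbz
    rw [show s * b * s⁻¹ * (s * (x * z) * s⁻¹) = s * (b * (x * z)) * s⁻¹ by group, hbxz]
    group
  have hqx : q * x = x * q := Commute.mul_left (Commute.inv_left hbx) hsbx
  have hbq : b * q = s * b * s⁻¹ := by rw [hq]; group
  have hsq : b * q * (b * q) = x * z := by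
    rw [hbq, show s * b * s⁻¹ * (s * b * s⁻¹) = s * (b * b) * s⁻¹ by group, hbb, hsx]
  have hqU : q ∉ P.U := fun hm => by
    obtain ⟨-, -, hqq⟩ := P.U_mem hm
    rw [show b * q * (b * q) = b * (q * b) * q by group, P.U_central hm hbz hbx,
      show b * (b * q) * q = b * b * (q * q) by group, hbb, hqq] at hsq
    exact P.h.es.ne (mul_eq_left.mp (hsq.symm.trans (mul_one x)))
  refine ⟨q, hqQ, hqx, hqU, ?_, hbq.symm⟩
  have hqq : q * q = z := P.A_sq hqQ hqx hqU
  rw [← hbb, ← hqq, show b * b * (q * q) = b * (b * q) * q by group,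
    show b * q * (b * q) = b * (q * b) * q by group] at hsq
  exact mul_left_cancel (mul_right_cancel hsq)

theorem comm_mem_U {a b : G} (ha : a ∈ Q) (hax : a * x = x * a) (hb : b ∈ Q') (hbz : b * z = z * b) :
    a * b * a⁻¹ * b⁻¹ ∈ P.U := by
  refine P.inter ?_ ?_
  · rw [show a * b * a⁻¹ * b⁻¹ = a * (b * a⁻¹ * b⁻¹) by group]
    exact mul_mem ha (P.h.nor_mem hbz (inv_mem ha))
  · exact mul_mem (P.h'.nor_mem hax hb) (inv_mem hb)

/-- For each element at `x` there is, up to `U`, exactly one commuting element at `z`, and no commutator is `z`. -/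
theorem partner {b : G} (hb : b ∈ Q') (hbz : b * z = z * b) (hbU : b ∉ P.U) :
    ∃ q : G, q ∈ Q ∧ q * x = x * q ∧ q ∉ P.U ∧ q * b = b * q ∧
      ∀ a : G, a ∈ Q → a * x = x * a → a ∉ P.U → (a * b = b * a ↔ a * q ∈ P.U) ∧ a * b ≠ z * (b * a) := by
  obtain ⟨s, hs, hsx⟩ := P.exists_s
  obtain ⟨q, hqQ, hqx, hqU, hqb, hsb⟩ := P.shift hs hsx hb hbz hbU
  refine ⟨q, hqQ, hqx, hqU, hqb, fun a ha hax haU => ?_⟩
  have hbx : b * x = x * b := P.h'.es.comm b hb
  have hsz : s * z = z * s := P.h.es.comm s hs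
  have hzb : z * b = b * z := hbz.symm
  -- conjugating by `s`
  have hmove : ∀ c : G, c * z = z * c → a * b = c * (b * a) → a * (b * q) = s * c * s⁻¹ * (b * q * a) := by
    intro c hcz hc
    have e1 : s * a * s⁻¹ * (b * q) = s * c * s⁻¹ * (b * q * (s * a * s⁻¹)) := by
      rw [← hsb, show s * a * s⁻¹ * (s * b * s⁻¹) = s * (a * b) * s⁻¹ by group, hc]
      group
    rcases P.h.es.conj_cases hs ha with e | e <;> rw [e] at e1
    · exact e1
    · have hc1 : z * (b * q) = b * q * z := Commute.mul_right hzb (P.h.es.comm q hqQ).symm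
      rw [mul_assoc a z, hc1, show b * q * (a * z) = b * q * a * z by group, ← mul_assoc a (b * q),
        ← mul_assoc (s * c * s⁻¹)] at e1
      exact mul_right_cancel e1
  have hzc : s * z * s⁻¹ = z := conj_fix_iff.mpr hsz
  constructor
  · constructor
    · intro hab
      by_contra hU
      have hne : a * q ≠ q * a := fun e => hU (P.A_comm ha hax haU hqQ hqx hqU e)
      have e1 := P.A_noncomm ha hqQ hne
      have e2 := hmove 1 (by simp) (by rw [one_mul]; exact hab)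
      rw [mul_one, mul_inv_cancel, one_mul, ← mul_assoc, hab, mul_assoc, e1, ← mul_assoc b z, ← hzb, mul_assoc z b,
        mul_assoc b q] at e2
      exact P.h.es.ne (mul_eq_right.mp e2)
    · intro hU
      have hu := P.U_central hU hbz hbx
      calc a * b = a * q * (q⁻¹ * b) := by group
        _ = a * q * (b * q⁻¹) := by rw [show q⁻¹ * b = b * q⁻¹ from Commute.inv_left hqb]
        _ = b * (a * q) * q⁻¹ := by rw [← mul_assoc, hu]
        _ = b * a := by group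
  · intro hab
    have hne : a * q ≠ q * a := fun e => by
      have hU := P.A_comm ha hax haU hqQ hqx hqU e
      have hu := P.U_central hU hbz hbx
      have : a * b = b * a := by
        calc a * b = a * q * (q⁻¹ * b) := by group
          _ = a * q * (b * q⁻¹) := by rw [show q⁻¹ * b = b * q⁻¹ from Commute.inv_left hqb]
          _ = b * (a * q) * q⁻¹ := by rw [← mul_assoc, hu]
          _ = b * a := by group
      rw [this] at hab
      exact P.h.es.ne (mul_eq_right.mp hab.symm)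
    have e1 := P.A_noncomm ha hqQ hne
    have e2 := hmove z rfl hab
    rw [hzc, ← mul_assoc a, hab, show z * (b * a) * q = z * b * (a * q) by group, e1, hzb,
      show b * z * (z * (q * a)) = b * (z * z) * (q * a) by group, P.h.zz, mul_one,
      ← mul_assoc b q a] at e2
    exact P.h.es.ne (mul_eq_right.mp e2.symm)

/-- The two parts either commute or have commutator `z * x`. -/
theorem comm_AB {a b : G} (ha : a ∈ Q) (hax : a * x = x * a) (haU : a ∉ P.U) (hb : b ∈ Q') (hbz : b * z = z * b)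
    (hbU : b ∉ P.U) (hne : a * b ≠ b * a) : a * b = z * x * (b * a) := by
  obtain ⟨q, -, -, -, -, hq⟩ := P.partner hb hbz hbU
  obtain ⟨q', -, -, -, -, hq'⟩ := P.symm.partner ha hax fun hm => haU (P.U_symm hm)
  have e0 : a * b = a * b * a⁻¹ * b⁻¹ * (b * a) := by group
  rcases P.comm_mem_U ha hax hb hbz with e | e | e | e
  · exact absurd (by rw [e, one_mul] at e0; exact e0) hne
  · exact absurd (by rw [e] at e0; exact e0) (hq a ha hax haU).2
  · refine absurd ?_ (hq' b hb hbz fun hm => hbU (P.U_symm hm)).2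
    rw [e] at e0
    calc b * a = x * x * (b * a) := by rw [P.xx, one_mul]
      _ = x * (a * b) := by rw [e0]; group
  · rw [e] at e0; exact e0

theorem exists_mem_B (T : Set G) (hT : T.ncard < 16) : ∃ b : G, b ∈ Q' ∧ b * z = z * b ∧ b ∉ T := by
  have h16 := P.h'.card_QS P.symm.memS
  by_contra hall
  push Not at hall
  have hsub : ((Q' ⊓ Subgroup.centralizer ({z} : Set G) : Subgroup G) : Set G) ⊆ T := fun b hb =>
    hall b hb.1 (mem_cent.mp hb.2)
  have := Set.ncard_le_ncard hsub (Set.toFinite _)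
  rw [← Nat.card_coe_set_eq, show Nat.card ↥((Q' ⊓ Subgroup.centralizer ({z} : Set G) : Subgroup G) : Set G) = 16
    from h16] at this
  omega

theorem pm_B {b : G} (hb : b ∈ Q') (hbz : b * z = z * b) (hbU : b ∉ P.U) : IsInv5 (pm b) := by
  have hbb : b * b = x := P.symm.A_sq hb hbz fun hm => hbU (P.U_symm hm)
  refine ⟨P.h.pm_sign b hbz, ?_, fun e => hbU (P.inter ((P.h.pm_ker b hbz).mp e) hb)⟩
  rw [← P.h.pm_mul b b hbz hbz, hbb, P.h.pm_Q P.hx]

end Pair

/-- A second involution `t` commuting with `z` and `x`, with a partner `t'`. -/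
structure Cfg (z x t t' : G) (Q Q' : Subgroup G) (pm pm' : G → Perm (Fin 5)) : Prop where
  P : Pair z x Q Q' pm pm'
  tt : t * t = 1
  tt' : t' * t' = 1
  tz : t * z = z * t
  tx : t * x = x * t
  tz' : t' * z = z * t'
  tx' : t' * x = x * t'
  comm : t * t' = t' * t
  inv : IsInv5 (pm t)
  inv' : IsInv5 (pm t')
  pm_ne : pm t ≠ pm t'
  centQ : ∀ q ∈ Q, q * t = t * q → q ∈ P.U
  flip : ∀ q ∈ Q, (q * t = t * q ∨ q * t = z * (t * q)) → q ∈ P.U ∨ ∀ p ∈ Q,
    (p * t = t * p ∨ p * t = z * (t * p)) → p ∈ P.U ∨ p * q ∈ P.U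
  flipx : ∀ q ∈ Q, (q * t = t * q ∨ q * t = z * (t * q)) → q * x = x * q

theorem Pair.exists_cfg (P : Pair z x Q Q' pm pm') : ∃ t t' : G, Cfg z x t t' Q Q' pm pm' := by
  classical
  have hU4 : (P.U : Set G).ncard = 4 := by
    rw [← Nat.card_coe_set_eq]; exact P.card_U
  obtain ⟨b₁, hb₁, hb₁z, hb₁U⟩ := P.exists_mem_B (P.U : Set G) (by omega)
  obtain ⟨b₂, hb₂, hb₂z, hb₂n⟩ := P.exists_mem_B ((P.U : Set G) ∪ (fun u => b₁⁻¹ * u) '' (P.U : Set G)) (by
    have a1 := Set.ncard_union_le (P.U : Set G) ((fun u => b₁⁻¹ * u) '' (P.U : Set G))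
    have a2 := Set.ncard_image_le (f := fun u => b₁⁻¹ * u) (Set.toFinite (P.U : Set G))
    omega)
  rw [Set.mem_union, not_or] at hb₂n
  obtain ⟨hb₂U, hb₂'⟩ := hb₂n
  have hb12 : b₁ * b₂ ∉ P.U := fun hm => hb₂' ⟨b₁ * b₂, hm, by simp⟩
  have hb₁x : b₁ * x = x * b₁ := P.h'.es.comm b₁ hb₁
  have hb₂x : b₂ * x = x * b₂ := P.h'.es.comm b₂ hb₂
  have hbb₁ : b₁ * b₁ = x := P.symm.A_sq hb₁ hb₁z fun hm => hb₁U (P.U_symm hm)
  have hbb₂ : b₂ * b₂ = x := P.symm.A_sq hb₂ hb₂z fun hm => hb₂U (P.U_symm hm)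
  obtain ⟨q₁, hq₁, hq₁x, hq₁U, hq₁b, hp₁⟩ := P.partner hb₁ hb₁z hb₁U
  obtain ⟨q₂, hq₂, hq₂x, hq₂U, hq₂b, hp₂⟩ := P.partner hb₂ hb₂z hb₂U
  obtain ⟨r, hr, hrz, hrU, hrq, hr1⟩ := P.symm.partner hq₁ hq₁x fun hm => hq₁U (P.U_symm hm)
  have hb₁₂ : b₁ * b₂ ≠ b₂ * b₁ := fun e => hb12 (P.U_symm
    (P.symm.A_comm hb₁ hb₁z (fun hm => hb₁U (P.U_symm hm)) hb₂ hb₂z (fun hm => hb₂U (P.U_symm hm)) e))
  -- the partners are independent
  have hqq : q₁ * q₂ ∉ P.U := by
    intro hm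
    have e1 : q₁ * b₂ = b₂ * q₁ := by
      have hu := P.U_central hm hb₂z hb₂x
      calc q₁ * b₂ = q₁ * q₂ * (q₂⁻¹ * b₂) := by group
        _ = q₁ * q₂ * (b₂ * q₂⁻¹) := by rw [show q₂⁻¹ * b₂ = b₂ * q₂⁻¹ from Commute.inv_left hq₂b]
        _ = b₂ * (q₁ * q₂) * q₂⁻¹ := by rw [← mul_assoc, hu]
        _ = b₂ * q₁ := by group
    have h1 := P.U_symm ((hr1 b₁ hb₁ hb₁z fun hm => hb₁U (P.U_symm hm)).1.mp hq₁b.symm)
    have h2 := P.U_symm ((hr1 b₂ hb₂ hb₂z fun hm => hb₂U (P.U_symm hm)).1.mp e1.symm)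
    have h3 : b₁ * b₂⁻¹ ∈ P.U := by
      have := mul_mem h1 (inv_mem h2)
      rwa [show b₁ * r * (b₂ * r)⁻¹ = b₁ * b₂⁻¹ by group] at this
    refine hb12 ?_
    have hb2i : b₂⁻¹ = b₂ * x := inv_eq_of_mul_eq_one_right (by rw [← mul_assoc, hbb₂, P.xx])
    rw [hb2i, ← mul_assoc] at h3
    have := mul_mem h3 P.xU
    rwa [mul_assoc, P.xx, mul_one] at this
  set a := q₁ * q₂ with ha_def
  have haQ : a ∈ Q := mul_mem hq₁ hq₂
  have hax : a * x = x * a := Commute.mul_left hq₁x hq₂x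
  have haz : a * z = z * a := P.h.es.comm a haQ
  have hq12 : q₁ * q₂ ≠ q₂ * q₁ := fun e => hqq (P.A_comm hq₁ hq₁x hq₁U hq₂ hq₂x hq₂U e)
  have haq₁ : a * q₁ ∉ P.U := by
    intro hm
    rw [ha_def, P.A_noncomm hq₁ hq₂ hq12, mul_assoc, mul_assoc, P.A_sq hq₁ hq₁x hq₁U, P.h.es.comm q₂ hq₂,
      ← mul_assoc, P.h.zz, one_mul] at hm
    exact hq₂U hm
  have haq₂ : a * q₂ ∉ P.U := by
    intro hm
    rw [ha_def, mul_assoc, P.A_sq hq₂ hq₂x hq₂U] at hm
    have := mul_mem hm P.zU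
    rw [mul_assoc, P.h.zz, mul_one] at this
    exact hq₁U this
  have eab : a * b₁ = z * x * (b₁ * a) :=
    P.comm_AB haQ hax hqq hb₁ hb₁z hb₁U fun e => haq₁ ((hp₁ a haQ hax hqq).1.mp e)
  have eqb : q₁ * b₂ = z * x * (b₂ * q₁) :=
    P.comm_AB hq₁ hq₁x hq₁U hb₂ hb₂z hb₂U fun e => hqq ((hp₂ q₁ hq₁ hq₁x hq₁U).1.mp e)
  have eab₂ : a * b₂ = z * x * (b₂ * a) :=
    P.comm_AB haQ hax hqq hb₂ hb₂z hb₂U fun e => haq₂ ((hp₂ a haQ hax hqq).1.mp e)
  have eaq : a * q₁ = z * (q₁ * a) :=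
    P.A_noncomm haQ hq₁ fun e => haq₁ (P.A_comm haQ hax hqq hq₁ hq₁x hq₁U e)
  have ebb : b₁ * b₂ = x * (b₂ * b₁) := P.symm.A_noncomm hb₁ hb₂ hb₁₂
  have hzxc : ∀ w : G, w * z = z * w → w * x = x * w → Commute (z * x) w := fun w h1 h2 =>
    Commute.mul_left h1.symm h2.symm
  have hzx2 : z * x * (x * z) = 1 := by
    rw [show z * x * (x * z) = z * (x * x) * z by group, P.xx, mul_one, P.h.zz]
  have htt : b₁ * a * (b₁ * a) = 1 := by
    rw [show b₁ * a * (b₁ * a) = b₁ * (a * b₁) * a by group, eab,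
      show b₁ * (z * x * (b₁ * a)) * a = b₁ * (z * x) * b₁ * (a * a) by group,
      ← (hzxc b₁ hb₁z hb₁x).eq, mul_assoc (z * x) b₁ b₁, hbb₁, P.A_sq haQ hax hqq, mul_assoc (z * x) x z]
    exact hzx2
  have htt' : b₂ * q₁ * (b₂ * q₁) = 1 := by
    rw [show b₂ * q₁ * (b₂ * q₁) = b₂ * (q₁ * b₂) * q₁ by group, eqb,
      show b₂ * (z * x * (b₂ * q₁)) * q₁ = b₂ * (z * x) * b₂ * (q₁ * q₁) by group,
      ← (hzxc b₂ hb₂z hb₂x).eq, mul_assoc (z * x) b₂ b₂, hbb₂, P.A_sq hq₁ hq₁x hq₁U, mul_assoc (z * x) x z]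
    exact hzx2
  have hcomm : b₁ * a * (b₂ * q₁) = b₂ * q₁ * (b₁ * a) := by
    calc b₁ * a * (b₂ * q₁) = b₁ * (a * b₂) * q₁ := by group
      _ = b₁ * (z * x) * b₂ * (a * q₁) := by rw [eab₂]; group
      _ = z * x * (b₁ * b₂) * (z * (q₁ * a)) := by rw [← (hzxc b₁ hb₁z hb₁x).eq, eaq, mul_assoc (z * x)]
      _ = z * x * x * (b₂ * b₁ * z) * (q₁ * a) := by rw [ebb]; group
      _ = z * (x * x) * z * (b₂ * b₁ * (q₁ * a)) := by
          rw [show b₂ * b₁ * z = z * (b₂ * b₁) from Commute.mul_left hb₂z hb₁z]; group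
      _ = b₂ * b₁ * (q₁ * a) := by rw [P.xx, mul_one, P.h.zz, one_mul]
      _ = b₂ * (b₁ * q₁) * a := by group
      _ = b₂ * q₁ * (b₁ * a) := by rw [← hq₁b]; group
  have hq₁z : q₁ * z = z * q₁ := P.h.es.comm q₁ hq₁
  have hpt : pm (b₁ * a) = pm b₁ := by rw [P.h.pm_mul _ _ hb₁z haz, P.h.pm_Q haQ, mul_one]
  have hpt' : pm (b₂ * q₁) = pm b₂ := by rw [P.h.pm_mul _ _ hb₂z hq₁z, P.h.pm_Q hq₁, mul_one]
  have hin : ∀ q ∈ Q, (q * (b₁ * a) = b₁ * a * q ∨ q * (b₁ * a) = z * (b₁ * a * q)) →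
      q ∈ P.U ∨ q * q₁ ∈ P.U ∧ q * x = x * q := by
    intro q hq hqt
    by_cases hqx : q * x = x * q
    · by_cases hqU : q ∈ P.U
      · exact Or.inl hqU
      refine Or.inr ⟨(hp₁ q hq hqx hqU).1.mp ?_, hqx⟩
      by_contra hne
      have e1 := P.comm_AB hq hqx hqU hb₁ hb₁z hb₁U hne
      have e2 : q * (b₁ * a) = z * x * (b₁ * (q * a)) := by rw [← mul_assoc, e1]; group
      have hcase : q * (b₁ * a) = z * x * (b₁ * a * q) ∨ q * (b₁ * a) = x * (b₁ * a * q) := by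
        by_cases hc : q * a = a * q
        · left; rw [e2, hc]; group
        · right
          rw [e2, P.A_noncomm hq haQ hc, ← mul_assoc b₁ z, hb₁z,
            show z * x * (z * b₁ * (a * q)) = z * (x * z) * (b₁ * a * q) by group, ← P.zx, ← mul_assoc z z, P.h.zz,
            one_mul]
      rcases hqt with e | e <;> rcases hcase with e' | e' <;> rw [e] at e'
      · exact P.zx_ne_one (mul_eq_right.mp e'.symm)
      · exact P.x1 (mul_eq_right.mp e'.symm)
      · exact P.zx_ne_z (mul_right_cancel e').symm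
      · exact P.ne (mul_right_cancel e').symm
    · exfalso
      have hsx : q * x * q⁻¹ = x * z :=
        (P.h.es.conj_cases hq P.hx).resolve_left fun e => hqx (conj_fix_iff.mp e)
      obtain ⟨p, hp, hpx, hpU, -, hsb⟩ := P.shift hq hsx hb₁ hb₁z hb₁U
      have hqq' : q * (b₁ * a) * q⁻¹ = b₁ * (p * (q * a * q⁻¹)) := by
        rw [show q * (b₁ * a) * q⁻¹ = q * b₁ * q⁻¹ * (q * a * q⁻¹) by group, hsb]; group
      refine hpU ?_
      have hcase : p * (q * a * q⁻¹) = a ∨ p * (q * a * q⁻¹) = z * a := by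
        rcases hqt with e | e
        · left
          refine mul_left_cancel (a := b₁) ?_
          rw [← hqq', e, mul_inv_cancel_right]
        · right
          refine mul_left_cancel (a := b₁) ?_
          rw [← hqq', e, ← mul_assoc b₁ z, hb₁z]; group
      have hzi : z⁻¹ = z := inv_eq_of_mul_eq_one_right P.h.zz
      rcases P.h.es.conj_cases hq haQ with e' | e' <;> rcases hcase with e'' | e'' <;> rw [e'] at e''
      · rw [mul_eq_right.mp e'']; exact one_mem _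
      · rw [mul_right_cancel e'']; exact P.zU
      · rw [haz, ← mul_assoc] at e''
        rw [eq_inv_of_mul_eq_one_left (mul_eq_right.mp e''), hzi]; exact P.zU
      · rw [haz, ← mul_assoc] at e''
        have : p * z = z := mul_right_cancel e''
        rw [mul_eq_right.mp this]; exact one_mem _
  refine ⟨b₁ * a, b₂ * q₁, P, htt, htt', Commute.mul_left hb₁z haz, Commute.mul_left hb₁x hax,
    Commute.mul_left hb₂z hq₁z, Commute.mul_left hb₂x hq₁x, hcomm, hpt ▸ P.pm_B hb₁ hb₁z hb₁U,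
    hpt' ▸ P.pm_B hb₂ hb₂z hb₂U, ?_, ?_, ?_, ?_⟩
  · rw [hpt, hpt']
    intro e
    refine hb12 (P.inter ((P.h.pm_ker _ (Commute.mul_left hb₁z hb₂z)).mp ?_) (mul_mem hb₁ hb₂))
    rw [P.h.pm_mul _ _ hb₁z hb₂z, e, (P.pm_B hb₂ hb₂z hb₂U).2.1]
  · intro q hq hqt
    rcases hin q hq (Or.inl hqt) with hm | ⟨hm, hqx⟩
    · exact hm
    exfalso
    have h1 : q * a = a * q := by
      by_cases hqU : q ∈ P.U
      · exact P.U_central hqU haz hax
      have e1 := (hp₁ q hq hqx hqU).1.mpr hm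
      refine mul_left_cancel (a := b₁) ?_
      rw [← mul_assoc, ← e1, mul_assoc, hqt, mul_assoc]
    refine haq₁ ?_
    by_cases hqU : q ∈ P.U
    · have := mul_mem (inv_mem hqU) hm
      rw [inv_mul_cancel_left] at this
      exact absurd this hq₁U
    have h2 := P.A_comm hq hqx hqU haQ hax hqq h1
    have h3 := mul_mem (inv_mem h2) hm
    rw [show (q * a)⁻¹ * (q * q₁) = a⁻¹ * q₁ by group] at h3
    have e3 : a⁻¹ = a * z := inv_eq_of_mul_eq_one_right (by rw [← mul_assoc, P.A_sq haQ hax hqq, P.h.zz])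
    rw [e3, mul_assoc, ← hq₁z, ← mul_assoc] at h3
    have := mul_mem h3 P.zU
    rwa [mul_assoc, P.h.zz, mul_one] at this
  · intro q hq hqt
    rcases hin q hq hqt with hm | ⟨hm, hqx⟩
    · exact Or.inl hm
    refine Or.inr fun p hp hpt => ?_
    rcases hin p hp hpt with hm' | ⟨hm', -⟩
    · exact Or.inl hm'
    right
    have h1 := mul_mem hm' (inv_mem hm)
    rw [show p * q₁ * (q * q₁)⁻¹ = p * q⁻¹ by group] at h1
    rcases P.h.es.inv_cases hq with e | e <;> rw [e] at h1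
    · exact h1
    · have := mul_mem h1 P.zU
      rwa [show p * (q * z) * z = p * q * (z * z) by group, P.h.zz, mul_one] at this
  · intro q hq hqt
    rcases hin q hq hqt with hm | ⟨-, hqx⟩
    exacts [(P.U_mem hm).2.1, hqx]

end CfsgLib.HallJankoType
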