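import Cfsg.Agent.Lib.HallJankoType.Generators
import Cfsg.Agent.Lib.CosetEnum.J2Four

/-!
Groups of Hall–Janko type: the relations of the presentation of the Hall–Janko group hold, so that group maps
onto them.
-/

set_option autoImplicit false
set_option linter.unusedSectionVars false
set_option maxRecDepth 100000

namespace CfsgLib.HallJankoType

open Cfsg CfsgLargeExtra Equiv CfsgLib.CosetEnum
open scoped Pointwise commutatorElement

universe u

theorem a6_twelve_five : ∀ g : alternatingGroup (Fin 6), g ^ 12 = 1 ∨ g ^ 5 = 1 := by decide +kernel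

theorem a6_centre : ∀ g : alternatingGroup (Fin 6), (∀ h : alternatingGroup (Fin 6), g * h = h * g) → g = 1 := by
  decide +kernel

theorem prod_reverse {G : Type u} [Group G] (σ : ℕ → G) (hσ : ∀ x, σ x * σ x = 1) :
    ∀ w : List ℕ, (w.reverse.map σ).prod = ((w.map σ).prod)⁻¹ := by
  intro w
  induction w with
  | nil => simp
  | cons a w ih =>
    rw [List.reverse_cons, List.map_append, List.prod_append, ih]
    simp [inv_eq_of_mul_eq_one_right (hσ a)]

theorem swap_pow {G : Type u} [Group G] {a b : G} (ha : a * a = 1) (hb : b * b = 1) {n : ℕ}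
    (h : (a * b) ^ n = 1) : (b * a) ^ n = 1 := by
  rw [← inv_inv (b * a), mul_inv_rev, inv_eq_of_mul_eq_one_right ha, inv_eq_of_mul_eq_one_right hb, inv_pow, h,
    inv_one]

variable {G : Type u} [Group G] [Finite G]

/-- A finite group satisfying the relations of a presentation receives the presented group. -/
theorem pres_lift (P : Pres) (τ : ℕ → G) (hτ : ∀ x, τ x * τ x = 1)
    (h : ∀ w ∈ P.rels, (w.map τ).prod = 1) : ∃ Φ : P.Grp →* G, ∀ x < P.k, Φ (P.σ x) = τ (P.idx (P.gen x)) := by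
  classical
  haveI := Fintype.ofFinite G
  let φ : G →* Equiv.Perm (Fin (Fintype.card G)) :=
    (Fintype.equivFin G).permCongrHom.toMonoidHom.comp (MulAction.toPermHom G G)
  have hφ : Function.Injective φ :=
    (Fintype.equivFin G).permCongrHom.injective.comp MulAction.toPerm_injective
  let e : G ≃* ↥φ.range := MonoidHom.ofInjective hφ
  have hl := P.lift_rel (M := ↥φ.range) (τ := fun x => e (τ x)) (fun x => by rw [← map_mul, hτ, map_one])
    (fun w hw => by
      have h1 := congrArg e (h w hw)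
      rwa [map_one, map_list_prod, List.map_map] at h1)
  refine ⟨e.symm.toMonoidHom.comp (PresentedGroup.toGroup (f := (fun x => e (τ x)) ∘ P.idx) hl), fun x hx => ?_⟩
  rw [show P.σ x = PresentedGroup.of (P.gen x) from if_pos hx, MonoidHom.comp_apply, PresentedGroup.toGroup.of]
  exact e.symm_apply_apply _

variable {z x t t' d : G} {Q Q' : Subgroup G} {pm pm' : G → Perm (Fin 5)}
variable {M : Subgroup G}

namespace Sub

variable {D : Cyc z x t t' d Q Q' pm pm'} (S : Sub D M)
include S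

/-- A subgroup of `C(c)` covering the central quotient contains `c`. -/
theorem onto_contains {c : G} (ho : orderOf c = 3) (hcM : ∀ m ∈ M, c * m = m * c)
    (q : ↥(Subgroup.centralizer ({c} : Set G)) →* alternatingGroup (Fin 6))
    (hq : ∀ w, q w = 1 ↔ (w : G) ∈ Subgroup.zpowers c) (H : Subgroup G)
    (hH : ∀ a : alternatingGroup (Fin 6), ∃ g : ↥(Subgroup.centralizer ({c} : Set G)), (g : G) ∈ H ∧ q g = a) :
    c ∈ H := by
  haveI : Fact (Nat.Prime 3) := ⟨Nat.prime_three⟩
  by_contra hc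
  obtain ⟨P, hcP, hdP⟩ := S.exists_sylow_three ho hcM
  obtain ⟨hPc, hkey⟩ := S.sylow_three_center ho hcM P hcP hdP
  have hnab : ¬ ∀ a b : ↥(P : Subgroup G), a * b = b * a := fun hab =>
    S.not_le_cent_d P fun a ha => mem_cent.mpr (congrArg Subtype.val (hab ⟨a, ha⟩ ⟨d, hdP⟩))
  obtain ⟨-, -, hcomm⟩ := Cfsg.EssentialSmall.extraspecial_cube (p := 3)
    (show Nat.card ↥(P : Subgroup G) = 3 ^ 3 by rw [S.card_sylow_three]; norm_num) hnab
  refine hnab fun a a' => ?_
  have split : ∀ a : ↥(P : Subgroup G), ∃ h : ↥(P : Subgroup G), (h : G) ∈ H ∧ (a : G)⁻¹ * h ∈ Subgroup.zpowers c := by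
    intro a
    let aW : ↥(Subgroup.centralizer ({c} : Set G)) := ⟨a, mem_cent.mpr (hPc a a.2).symm⟩
    obtain ⟨g, hg, hga⟩ := hH (q aW)
    have h1 : (a : G)⁻¹ * g ∈ Subgroup.zpowers c :=
      (hq (aW⁻¹ * g)).mp (by rw [map_mul, map_inv, hga, inv_mul_cancel])
    refine ⟨⟨g, ?_⟩, hg, h1⟩
    have := mul_mem a.2 (Subgroup.zpowers_le.mpr hcP h1)
    rwa [mul_inv_cancel_left] at this
  obtain ⟨h, hh, hha⟩ := split a
  obtain ⟨h', hh', hha'⟩ := split a'
  have hk : ((⁅h, h'⁆ : ↥(P : Subgroup G)) : G) ∈ H := by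
    rw [commutatorElement_def]
    exact mul_mem (mul_mem (mul_mem hh hh') (inv_mem hh)) (inv_mem hh')
  have hz : ((⁅h, h'⁆ : ↥(P : Subgroup G)) : G) ∈ Subgroup.zpowers c := hkey _ (⁅h, h'⁆).2 fun b hb => by
    have hm : ⁅h, h'⁆ ∈ Subgroup.center ↥(P : Subgroup G) := hcomm ▸
      Subgroup.commutator_mem_commutator (Subgroup.mem_top h) (Subgroup.mem_top h')
    exact (congrArg Subtype.val (Subgroup.mem_center_iff.mp hm ⟨b, hb⟩)).symm
  have h1 : ⁅h, h'⁆ = 1 := by
    by_contra hne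
    obtain ⟨i, hi⟩ := Subgroup.mem_zpowers_iff.mp
      ((zpowers_eq_of_mem ho hz fun e => hne (Subtype.ext e)).1 ▸ Subgroup.mem_zpowers c :
        c ∈ Subgroup.zpowers ((⁅h, h'⁆ : ↥(P : Subgroup G)) : G))
    exact hc (hi ▸ Subgroup.zpow_mem H hk i)
  have hhh : Commute h h' := commutatorElement_eq_one_iff_mul_comm.mp h1
  have hcen : ∀ k : ↥(P : Subgroup G), (k : G) ∈ Subgroup.zpowers c → ∀ b, Commute k b := fun k hk b => by
    obtain ⟨i, hi⟩ := Subgroup.mem_zpowers_iff.mp hk
    refine Subtype.ext ?_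
    show (k : G) * b = b * k
    rw [← hi]
    exact Commute.zpow_left (hPc b b.2) i
  have ea : a = h * (a⁻¹ * h)⁻¹ := by group
  have ea' : a' = h' * (a'⁻¹ * h')⁻¹ := by group
  rw [ea, ea']
  exact (Commute.mul_right (Commute.mul_left hhh (hcen _ (inv_mem (by simpa using hha)) h'))
    (hcen _ (inv_mem (by simpa using hha')) _).symm).eq

/-- There is a non-trivial homomorphism from the presented Hall–Janko group. -/
theorem exists_hom : ∃ Φ : presJ2.Grp →* G, Φ (presJ2.σ 0) = z := by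
  classical
  haveI : Fact (Nat.Prime 3) := ⟨Nat.prime_three⟩
  set Pr := D.K.P with hPr
  obtain ⟨b, w, c, hbM, hc, hcM, hgen, hbb, hzb, hxb, hww, hwz, hwb, hwc, hwt, hwx, hxw, hct⟩ := S.exists_gens
  have hzM : z ∈ M := S.U_le Pr.zU
  have hxM : x ∈ M := S.U_le Pr.xU
  have hwi : w⁻¹ = w := inv_eq_of_mul_eq_one_right hww
  -- five involutions
  let τ : ℕ → G := fun i => [z, b, x, w, t].getD i 1
  have t0 : τ 0 = z := rfl
  have t1 : τ 1 = b := rfl
  have t2 : τ 2 = x := rfl
  have t3 : τ 3 = w := rfl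
  have t4 : τ 4 = t := rfl
  have hτ : ∀ i, τ i * τ i = 1 := fun i => by
    match i with
    | 0 => exact Pr.h.zz
    | 1 => exact hbb
    | 2 => exact Pr.xx
    | 3 => exact hww
    | 4 => exact D.K.tt
    | _ + 5 => exact one_mul 1
  have comm2 : ∀ {a b : G}, a * a = 1 → b * b = 1 → a * b = b * a → (a * b) ^ 2 = 1 := fun {a b} ha hb hab => by
    calc (a * b) ^ 2 = a * (b * a) * b := by simp [pow_two, mul_assoc]
      _ = a * (a * b) * b := by rw [hab]
      _ = (a * a) * (b * b) := by group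
      _ = 1 := by rw [ha, hb, one_mul]
  have hzx : (z * x) ^ 2 = 1 := comm2 Pr.h.zz Pr.xx Pr.zx
  have hzw : (z * w) ^ 2 = 1 := comm2 Pr.h.zz hww hwz.symm
  have hzt : (z * t) ^ 2 = 1 := comm2 Pr.h.zz D.K.tt D.K.tz.symm
  have hbw : (b * w) ^ 2 = 1 := comm2 hbb hww hwb.symm
  have hbt : (b * t) ^ 2 = 1 := comm2 hbb D.K.tt (S.Mt b hbM)
  have hxt : (x * t) ^ 2 = 1 := comm2 Pr.xx D.K.tt D.K.tx.symm
  have hxw8 : (x * w) ^ 8 = 1 := by
    rw [show (8 : ℕ) = 4 * 2 from rfl, pow_mul, hxw, pow_two, Pr.h.zz]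
  have hext : z * (w * (x * (w * (x * (w * (x * (w * (x * 1)))))))) = 1 := by
    have h4 : (w * x) ^ 4 = z := by
      rw [show w * x = (x * w)⁻¹ by rw [mul_inv_rev, hwi, inv_eq_of_mul_eq_one_right Pr.xx], inv_pow, hxw,
        inv_eq_of_mul_eq_one_right Pr.h.zz]
    calc z * (w * (x * (w * (x * (w * (x * (w * (x * 1)))))))) = z * (w * x) ^ 4 := by simp [pow_succ, mul_assoc]
      _ = 1 := by rw [h4, Pr.h.zz]
  have rel4 : ∀ v ∈ J2Four.presFour.rels, (v.map τ).prod = 1 := by
    intro v hv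
    rcases J2Four.presFour.mem_rels hv with ⟨i, hi, j, hj, rfl⟩ | hv
    · rw [prod_coxWord]
      have hm : ∀ i < 4, ∀ j < 4, J2Four.presFour.m i j =
          ((([[1, 5, 2, 2], [5, 1, 3, 2], [2, 3, 1, 8], [2, 2, 8, 1]] : List (List ℕ)).getD i []).getD j 0) := by decide
      rw [hm i hi j hj]
      have s : ∀ i, (τ i * τ i) ^ 1 = 1 := fun i => by rw [pow_one, hτ]
      interval_cases i <;> interval_cases j <;> simp only [t0, t1, t2, t3] <;>
        first
          | exact s 0
          | exact s 1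
          | exact s 2
          | exact s 3
          | assumption
          | exact swap_pow Pr.h.zz hbb hzb
          | exact swap_pow Pr.h.zz Pr.xx hzx
          | exact swap_pow Pr.h.zz hww hzw
          | exact swap_pow hbb hww hbw
          | exact swap_pow Pr.xx hbb hxb
          | exact swap_pow Pr.xx hww hxw8
    · rw [show v = [0, 3, 2, 3, 2, 3, 2, 3, 2] from List.mem_singleton.mp hv]
      exact hext
  obtain ⟨σ4, hσ4⟩ := pres_lift J2Four.presFour τ hτ rel4
  have hs4 : ∀ i < 4, σ4 (J2Four.presFour.σ i) = τ i := fun i hi => by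
    rw [hσ4 i hi]
    exact congrArg τ (Nat.mod_eq_of_lt hi)
  have hword : ∀ v : List ℕ, (∀ i ∈ v, i < 4) → σ4 (v.map J2Four.presFour.σ).prod = (v.map τ).prod := by
    intro v hv
    rw [map_list_prod, List.map_map]
    exact congrArg List.prod (List.map_congr_left fun i hi => hs4 i (hv i hi))
  set R := σ4.range with hR
  have hgR : ∀ i < 4, τ i ∈ R := fun i hi => ⟨_, hs4 i hi⟩
  set u := w * x * w with hu
  have huR : u ∈ R := mul_mem (mul_mem (hgR 3 (by norm_num)) (hgR 2 (by norm_num))) (hgR 3 (by norm_num))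
  have hMR : M ≤ R := hgen.trans ((Subgroup.closure_le _).mpr (by
    rintro a (rfl | rfl | rfl)
    exacts [hgR 0 (by norm_num), hgR 2 (by norm_num), hgR 1 (by norm_num)]))
  -- the centralizer of `c`
  have hcc := S.card_cent_three hc hcM
  set W := Subgroup.centralizer ({c} : Set G) with hW
  obtain ⟨hW1080, q, hqs, hq⟩ := hcc
  have h360 : Nat.card (alternatingGroup (Fin 6)) = 360 := by rw [nat_card_alternatingGroup, Nat.card_fin]; rfl
  haveI : IsSimpleGroup (alternatingGroup (Fin 6)) := alternatingGroup.isSimpleGroup (by rw [Nat.card_fin]; norm_num)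
  have hMW : M ≤ W := fun m hm => mem_cent.mpr (hcM m hm).symm
  have hcu : u * c = c * u := by
    have hcx : Commute c x := hcM x hxM
    rw [← conj_fix_iff, hu, show w * x * w * c * (w * x * w)⁻¹ = w * (x * (w * c * w⁻¹) * x⁻¹) * w⁻¹ by group,
      hwc, conj_fix_iff.mpr hcx.inv_left.eq.symm, ← conj_inv, hwc, inv_inv]
  have hinter : ∀ m ∈ M, m ∈ Subgroup.zpowers c → m = 1 := fun m hm hmc => S.M_no_center hm fun y hy => by
    obtain ⟨i, rfl⟩ := Subgroup.mem_zpowers_iff.mp hmc
    exact Commute.zpow_left (hcM y hy) i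
  set H0 := Subgroup.closure ({z, x, b, u} : Set G) with hH0
  have hH0R : H0 ≤ R := (Subgroup.closure_le _).mpr (by
    rintro a (rfl | rfl | rfl | rfl)
    exacts [hgR 0 (by norm_num), hgR 2 (by norm_num), hgR 1 (by norm_num), huR])
  have hH0W : H0 ≤ W := (Subgroup.closure_le _).mpr (by
    rintro a (rfl | rfl | rfl | rfl)
    exacts [hMW hzM, hMW hxM, hMW hbM, mem_cent.mpr hcu])
  have hMH0 : M ≤ H0 := hgen.trans (Subgroup.closure_mono (by
    rintro a (rfl | rfl | rfl)
    exacts [Or.inl rfl, Or.inr (Or.inl rfl), Or.inr (Or.inr (Or.inl rfl))]))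
  have honto : ∀ a, ∃ g : ↥W, (g : G) ∈ H0 ∧ q g = a := by
    set Y := (H0.subgroupOf W).map q with hY
    suffices hYtop : Y = ⊤ by
      intro a
      obtain ⟨g, hg, e⟩ := (hYtop ▸ Subgroup.mem_top a : a ∈ Y)
      exact ⟨g, hg, e⟩
    by_contra hne
    set YM := (M.subgroupOf W).map q with hYM
    have h60 : Nat.card ↥YM = 60 := by
      rw [hYM, ← S.card_M, ← Nat.card_congr (Subgroup.subgroupOfEquivOfLe hMW).toEquiv]
      have hr : (q.comp (M.subgroupOf W).subtype).range = (M.subgroupOf W).map q := by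
        rw [← MonoidHom.map_range, Subgroup.range_subtype]
      rw [← hr]
      refine (Nat.card_congr (MonoidHom.ofInjective ?_).toEquiv).symm
      rw [← MonoidHom.ker_eq_bot_iff, Subgroup.eq_bot_iff_forall]
      exact fun m hm => Subtype.ext (Subtype.ext (hinter _ m.2 ((hq _).mp hm)))
    have hle : YM ≤ Y := Subgroup.map_mono (fun g hg => hMH0 hg)
    have hYle := CfsgLib.Order360.card_le_of_ne_top h360 hne
    have heq : YM = Y := Subgroup.eq_of_le_of_card_ge hle (by omega)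
    have humem : q ⟨u, mem_cent.mpr hcu⟩ ∈ YM := heq.symm ▸
      ⟨⟨u, mem_cent.mpr hcu⟩, Subgroup.subset_closure (Or.inr (Or.inr (Or.inr rfl))), rfl⟩
    obtain ⟨m, hm, hmu⟩ := humem
    have huu : u * u = 1 := by
      rw [hu, show w * x * w * (w * x * w) = w * (x * (w * w) * x) * w by group, hww, mul_one, Pr.xx, mul_one, hww]
    obtain ⟨i, hi⟩ := Subgroup.mem_zpowers_iff.mp
      ((hq (m⁻¹ * ⟨u, mem_cent.mpr hcu⟩)).mp (by rw [map_mul, map_inv, hmu, inv_mul_cancel]))
    have hum : u = (m : G) * c ^ i := by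
      rw [hi]
      show u = (m : G) * ((m : G)⁻¹ * u)
      group
    have hmc : Commute (c ^ i) (m : G) := Commute.zpow_left (hcM _ hm) i
    have hsq : ((m : G) * m) * (c ^ i * c ^ i) = 1 := by
      rw [← huu, hum]
      calc (m : G) * m * (c ^ i * c ^ i) = m * (m * c ^ i) * c ^ i := by group
        _ = m * (c ^ i * m) * c ^ i := by rw [hmc.eq]
        _ = m * c ^ i * (m * c ^ i) := by group
    have hmm : (m : G) * m = 1 := hinter _ (mul_mem hm hm) (by
      rw [eq_inv_of_mul_eq_one_left hsq]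
      exact inv_mem (mul_mem (Subgroup.zpow_mem _ (Subgroup.mem_zpowers c) i)
        (Subgroup.zpow_mem _ (Subgroup.mem_zpowers c) i)))
    rw [hmm, one_mul] at hsq
    have hci : c ^ i = 1 := by
      have h3 : (c ^ i) ^ 3 = 1 := by
        rw [← zpow_natCast, ← zpow_mul, mul_comm, zpow_mul, zpow_natCast, ← hc, pow_orderOf_eq_one, one_zpow]
      calc c ^ i = (c ^ i) ^ 3 * (c ^ i * c ^ i)⁻¹ := by group
        _ = 1 := by rw [h3, hsq]; simp
    rw [hci, mul_one] at hum
    have huz : u * z = z * u := Commute.mul_left (Commute.mul_left hwz (show Commute x z from Pr.zx.symm)) hwz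
    have huU : u ∈ Pr.U := S.fix Pr.zU Pr.h.es.ne (hum ▸ hm) huz
    have h4 : (x * u) * (x * u) = z := by rw [← hxw, hu]; simp [pow_succ, mul_assoc]
    rw [(Pr.U_mem (mul_mem Pr.xU huU)).2.2] at h4
    exact Pr.h.es.ne h4.symm
  have hcH0 : c ∈ H0 := S.onto_contains hc hcM q hq H0 honto
  have hWH0 : W ≤ H0 := fun g hg => by
    obtain ⟨k, hk, e⟩ := honto (q ⟨g, hg⟩)
    have h1 := (hq (k⁻¹ * ⟨g, hg⟩)).mp (by rw [map_mul, map_inv, e, inv_mul_cancel])
    have := mul_mem hk (Subgroup.zpowers_le.mpr hcH0 h1)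
    simpa using this
  have hWR : W ≤ R := hWH0.trans hH0R
  haveI := J2Four.upper.1
  have hinj4 : Function.Injective σ4 := by
    have hwW : w ∉ W := fun h => by
      have e := conj_fix_iff.mpr (mem_cent.mp h)
      rw [hwc] at e
      have h2 : c * c = 1 := mul_eq_one_iff_eq_inv.mpr e.symm
      have := orderOf_dvd_of_pow_eq_one (show c ^ 2 = 1 by rw [pow_two, h2])
      rw [hc] at this
      omega
    have hd := Subgroup.card_dvd_of_le hWR
    rw [hW1080] at hd
    have hne : Nat.card ↥R ≠ 1080 := fun e =>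
      hwW ((Subgroup.eq_of_le_of_card_ge hWR (by rw [e, hW1080])).symm ▸ hgR 3 (by norm_num))
    have hpos : 0 < Nat.card ↥R := Nat.card_pos
    have h2160 : 2160 ≤ Nat.card ↥R := by omega
    have hbij := Function.Surjective.bijective_of_nat_card_le σ4.rangeRestrict_surjective
      (le_trans J2Four.upper.2 h2160)
    intro a a' e
    exact hbij.1 (Subtype.ext e)
  have hcN : ∀ g ∈ R, g * c * g⁻¹ ∈ Subgroup.zpowers c := by
    rintro _ ⟨g, rfl⟩
    have htop : (Subgroup.normalizer (Subgroup.zpowers c : Set G)).comap σ4 = ⊤ := by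
      rw [eq_top_iff, ← J2Four.presFour.gen_closure, Subgroup.closure_le]
      rintro _ ⟨i, hi, rfl⟩
      show σ4 (J2Four.presFour.σ i) ∈ Subgroup.normalizer (Subgroup.zpowers c : Set G)
      rw [hs4 i hi]
      refine mem_normalizer_of_le fun a ha => ?_
      obtain ⟨k, rfl⟩ := Subgroup.mem_zpowers_iff.mp ha
      rw [← conj_zpow]
      refine Subgroup.zpow_mem _ ?_ k
      have hi4 : i < 4 := hi
      interval_cases i
      · rw [t0, conj_fix_iff.mpr (hcM z hzM).symm]; exact Subgroup.mem_zpowers c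
      · rw [t1, conj_fix_iff.mpr (hcM b hbM).symm]; exact Subgroup.mem_zpowers c
      · rw [t2, conj_fix_iff.mpr (hcM x hxM).symm]; exact Subgroup.mem_zpowers c
      · rw [t3, hwc]; exact inv_mem (Subgroup.mem_zpowers c)
    exact ((Subgroup.mem_normalizer_iff.mp (htop ▸ Subgroup.mem_top g :
      g ∈ (Subgroup.normalizer (Subgroup.zpowers c : Set G)).comap σ4)) c).mp (Subgroup.mem_zpowers c)
  -- the word `b x w x w`
  set g5 := b * (x * (w * (x * (w * 1)))) with hg5
  have hg5w : (J2Four.wordW.map τ).prod = g5 := rfl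
  have hg5W : g5 ∈ W := by
    have e : g5 = b * (x * u) := by rw [hg5, hu]; simp [mul_assoc]
    rw [e]
    exact mul_mem (hMW hbM) (mul_mem (hMW hxM) (mem_cent.mpr hcu))
  have hpow : ∀ n, σ4 ((J2Four.wPow n).map J2Four.presFour.σ).prod = g5 ^ n := fun n => by
    rw [hword _ (J2Four.wPow_letters n), J2Four.wPow_prod, hg5w]
  have hinjm : Function.Injective J2Four.model := by
    rw [← MonoidHom.ker_eq_bot_iff]
    by_contra hN
    set N' := J2Four.model.ker.map σ4 with hN'
    have hnorm : ∀ g ∈ R, ∀ n ∈ N', g * n * g⁻¹ ∈ N' := by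
      rintro _ ⟨g, rfl⟩ _ ⟨n, hn, rfl⟩
      exact ⟨g * n * g⁻¹, Subgroup.Normal.conj_mem inferInstance n hn g, by simp⟩
    haveI : (N'.subgroupOf W).Normal := ⟨fun a ha g => hnorm _ (hWR g.2) _ ha⟩
    have hcN' : c ∈ N' := by
      rcases IsSimpleGroup.eq_bot_or_eq_top_of_normal ((N'.subgroupOf W).map q)
        (Subgroup.Normal.map inferInstance q hqs) with hb | ht
      · have hsub : ∀ n ∈ N', n ∈ W → n ∈ Subgroup.zpowers c := fun n hn hnW =>
          (hq ⟨n, hnW⟩).mp (Subgroup.mem_bot.mp (hb ▸ ⟨⟨n, hnW⟩, hn, rfl⟩))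
        by_contra hcN'
        have htriv : ∀ n ∈ N', n ∈ W → n = 1 := fun n hn hnW => by
          by_contra hne
          obtain ⟨i, hi⟩ := Subgroup.mem_zpowers_iff.mp
            ((zpowers_eq_of_mem hc (hsub n hn hnW) hne).1 ▸ Subgroup.mem_zpowers c : c ∈ Subgroup.zpowers n)
          exact hcN' (hi ▸ Subgroup.zpow_mem N' hn i)
        obtain ⟨g, hg, hg1⟩ : ∃ g ∈ N', g ≠ 1 := by
          obtain ⟨⟨a, ha⟩, ha1⟩ := Subgroup.ne_bot_iff_exists_ne_one.mp hN
          exact ⟨σ4 a, ⟨a, ha, rfl⟩, fun e => ha1 (Subtype.ext (hinj4 (e.trans (map_one σ4).symm)))⟩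
        have hgR' : g ∈ R := by obtain ⟨a, -, rfl⟩ := hg; exact ⟨a, rfl⟩
        have h1 : g * c * g⁻¹ * c⁻¹ ∈ Subgroup.zpowers c := mul_mem (hcN g hgR') (inv_mem (Subgroup.mem_zpowers c))
        have h2 : g * c * g⁻¹ * c⁻¹ ∈ N' := by
          rw [show g * c * g⁻¹ * c⁻¹ = g * (c * g⁻¹ * c⁻¹) by group]
          exact mul_mem hg (hnorm c (hWR (mem_cent.mpr rfl)) _ (inv_mem hg))
        have h3 := htriv _ h2 (Subgroup.zpowers_le.mpr (mem_cent.mpr rfl) h1)
        exact hg1 (htriv g hg (mem_cent.mpr (conj_fix_iff.mp (mul_inv_eq_one.mp h3))))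
      · exact S.onto_contains hc hcM q hq N' fun a => by
          obtain ⟨g, hg, e⟩ := (ht ▸ Subgroup.mem_top a : a ∈ (N'.subgroupOf W).map q)
          exact ⟨g, hg, e⟩
    have key : ∀ n, (q ⟨g5, hg5W⟩) ^ n = 1 → ((J2Four.wPow n).map J2Iso.elt).prod = 1 := fun n hn => by
      have h1 := (hq ((⟨g5, hg5W⟩ : ↥W) ^ n)).mp (by rw [map_pow, hn])
      have h2 : g5 ^ n ∈ N' := by simpa using Subgroup.zpowers_le.mpr hcN' h1
      rw [← hpow n] at h2
      obtain ⟨a, ha, e⟩ := h2
      rw [← J2Four.model_word (J2Four.wPow_letters n), ← hinj4 e]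
      exact ha
    rcases a6_twelve_five (q ⟨g5, hg5W⟩) with h | h
    · exact J2Four.twelve_ne (key 12 h)
    · exact J2Four.five_ne (key 5 h)
  -- the fifth power generates `⟨c⟩`
  have hg51 : g5 ^ 5 ≠ 1 := fun e => J2Four.five_ne (by
    rw [← J2Four.model_word (J2Four.wPow_letters 5),
      hinj4 ((hpow 5).trans (e.trans (map_one σ4).symm)), map_one])
  have hcomm : ∀ v ∈ ([[0], [1], [2], [3, 2, 3]] : List (List ℕ)),
      g5 ^ 5 * (v.map τ).prod = (v.map τ).prod * g5 ^ 5 := by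
    intro v hv
    have hv4 : ∀ i ∈ v, i < 4 :=
      (show ∀ v ∈ ([[0], [1], [2], [3, 2, 3]] : List (List ℕ)), ∀ i ∈ v, i < 4 by decide) v hv
    have hl : ∀ i ∈ J2Four.commWord v, i < 4 := fun i hi => by
      simp only [J2Four.commWord, List.mem_append, List.mem_reverse] at hi
      rcases hi with ((h | h) | h) | h
      exacts [J2Four.wPow_letters 5 i h, hv4 i h, J2Four.wPow_letters 5 i h, hv4 i h]
    have h1 : ((J2Four.commWord v).map J2Four.presFour.σ).prod = 1 := hinjm (by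
      rw [J2Four.model_word hl, map_one]
      exact J2Iso.word_one (List.all_eq_true.mp J2Four.comm_check v hv))
    have h2 := congrArg σ4 h1
    rw [hword _ hl, map_one, J2Four.commWord, List.map_append, List.map_append, List.map_append, List.prod_append,
      List.prod_append, List.prod_append, prod_reverse τ hτ, prod_reverse τ hτ, J2Four.wPow_prod, hg5w] at h2
    calc g5 ^ 5 * (v.map τ).prod
        = g5 ^ 5 * (v.map τ).prod * (g5 ^ 5)⁻¹ * ((v.map τ).prod)⁻¹ * ((v.map τ).prod * g5 ^ 5) := by group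
      _ = _ := by rw [h2, one_mul]
  have hg5c : g5 ^ 5 ∈ Subgroup.zpowers c := by
    have hall : H0 ≤ Subgroup.centralizer ({g5 ^ 5} : Set G) := (Subgroup.closure_le _).mpr (by
      have h0 := hcomm [0] (by simp)
      have h1 := hcomm [1] (by simp)
      have h2 := hcomm [2] (by simp)
      have h3 := hcomm [3, 2, 3] (by simp)
      simp only [List.map_cons, List.map_nil, List.prod_cons, List.prod_nil, mul_one, t0, t1, t2, t3] at h0 h1 h2 h3
      rw [← mul_assoc w x w, ← hu] at h3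
      rintro a (rfl | rfl | rfl | rfl)
      exacts [mem_cent.mpr h0.symm, mem_cent.mpr h2.symm, mem_cent.mpr h1.symm, mem_cent.mpr h3.symm])
    refine (hq ⟨g5 ^ 5, pow_mem hg5W 5⟩).mp (a6_centre _ fun a => ?_)
    obtain ⟨k, rfl⟩ := hqs a
    rw [← map_mul, ← map_mul]
    exact congrArg q (Subtype.ext (mem_cent.mp (hall (hWH0 k.2))).symm)
  have hlast : (g5 ^ 5 * t) ^ 3 = 1 := by
    obtain ⟨i, hi⟩ := Subgroup.mem_zpowers_iff.mp hg5c
    rw [← zpow_mod_orderOf, hc] at hi
    rcases (show i % 3 = 0 ∨ i % 3 = 1 ∨ i % 3 = 2 by omega) with e | e | e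
    · simp only [Nat.cast_ofNat, e, zpow_zero] at hi
      exact absurd hi.symm hg51
    · simp only [Nat.cast_ofNat, e, zpow_one] at hi
      rw [← hi]; exact hct
    · simp only [Nat.cast_ofNat, e] at hi
      have hc3 : c ^ 3 = 1 := hc ▸ pow_orderOf_eq_one c
      have h2 : c ^ (2 : ℤ) = c⁻¹ := by
        rw [show (2 : ℤ) = ((2 : ℕ) : ℤ) from rfl, zpow_natCast]
        exact eq_inv_of_mul_eq_one_left (by rw [← pow_succ, hc3])
      rw [← hi, h2, show c⁻¹ * t = c⁻¹ * (t * c⁻¹) * c⁻¹⁻¹ by group, conj_pow,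
        show t * c⁻¹ = (c * t)⁻¹ by rw [mul_inv_rev, inv_eq_of_mul_eq_one_right D.K.tt], inv_pow, hct]
      simp
  have rel5 : ∀ v ∈ presJ2.rels, (v.map τ).prod = 1 := by
    intro v hv
    rcases presJ2.mem_rels hv with ⟨i, hi, j, hj, rfl⟩ | hv
    · rw [prod_coxWord]
      have hm : ∀ i < 5, ∀ j < 5, presJ2.m i j =
          ((([[1, 5, 2, 2, 2], [5, 1, 3, 2, 2], [2, 3, 1, 8, 2], [2, 2, 8, 1, 3], [2, 2, 2, 3, 1]] : List (List ℕ)).getD i
            []).getD j 0) := by decide
      rw [hm i hi j hj]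
      have s : ∀ i, (τ i * τ i) ^ 1 = 1 := fun i => by rw [pow_one, hτ]
      interval_cases i <;> interval_cases j <;> simp only [t0, t1, t2, t3, t4] <;>
        first
          | exact s 0
          | exact s 1
          | exact s 2
          | exact s 3
          | exact s 4
          | assumption
          | exact swap_pow Pr.h.zz hbb hzb
          | exact swap_pow Pr.h.zz Pr.xx hzx
          | exact swap_pow Pr.h.zz hww hzw
          | exact swap_pow Pr.h.zz D.K.tt hzt
          | exact swap_pow hbb hww hbw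
          | exact swap_pow hbb D.K.tt hbt
          | exact swap_pow Pr.xx hbb hxb
          | exact swap_pow Pr.xx hww hxw8
          | exact swap_pow Pr.xx D.K.tt hxt
          | exact swap_pow hww D.K.tt hwt
    · rcases List.mem_cons.mp hv with rfl | hv
      · exact hext
      · rw [List.mem_singleton.mp hv,
          show ([1, 2, 3, 2, 3, 1, 2, 3, 2, 3, 1, 2, 3, 2, 3, 1, 2, 3, 2, 3, 1, 2, 3, 2, 3, 4, 1, 2, 3, 2, 3, 1, 2,
            3, 2, 3, 1, 2, 3, 2, 3, 1, 2, 3, 2, 3, 1, 2, 3, 2, 3, 4, 1, 2, 3, 2, 3, 1, 2, 3, 2, 3, 1, 2, 3, 2, 3, 1,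
            2, 3, 2, 3, 1, 2, 3, 2, 3, 4] : List ℕ) =
            (J2Four.wPow 5 ++ [4]) ++ ((J2Four.wPow 5 ++ [4]) ++ (J2Four.wPow 5 ++ [4])) from rfl]
        simp only [List.map_append, List.prod_append, J2Four.wPow_prod, hg5w, List.map_cons, List.map_nil,
          List.prod_cons, List.prod_nil, mul_one, t4]
        rw [← hlast, pow_succ (g5 ^ 5 * t), pow_two (g5 ^ 5 * t), mul_assoc (g5 ^ 5 * t)]
  obtain ⟨Φ, hΦ⟩ := pres_lift presJ2 τ hτ rel5
  exact ⟨Φ, hΦ 0 (by norm_num)⟩

end Sub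

end CfsgLib.HallJankoType
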