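import Cfsg.Agent.Lib.HallJankoType.Classes
import Cfsg.Agent.Lib.Transfer
import Cfsg.Agent.Lib.BSW.Small

/-!
Groups of Hall–Janko type: the centralizer of the second class of involutions.
-/

set_option autoImplicit false
set_option linter.unusedSectionVars false

namespace CfsgLib.HallJankoType

open Cfsg CfsgLargeExtra Equiv
open scoped commutatorElement

universe u

variable {G : Type u} [Group G] [Finite G] {z x t t' d : G} {Q Q' : Subgroup G} {pm pm' : G → Perm (Fin 5)}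

theorem conj_comm_iff (g a b : G) :
    g * a * g⁻¹ * (g * b * g⁻¹) = g * b * g⁻¹ * (g * a * g⁻¹) ↔ a * b = b * a := by
  rw [show g * a * g⁻¹ * (g * b * g⁻¹) = g * (a * b) * g⁻¹ by group,
    show g * b * g⁻¹ * (g * a * g⁻¹) = g * (b * a) * g⁻¹ by group, mul_left_inj, mul_right_inj]

/-- A configuration with an element of order three in `C(t)` cycling the four group. -/
structure Cyc (z x t t' d : G) (Q Q' : Subgroup G) (pm pm' : G → Perm (Fin 5)) : Prop where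
  K : Cfg z x t t' Q Q' pm pm'
  dt : d * t = t * d
  hd : orderOf d = 3
  dz : d * z * d⁻¹ = x
  dx : d * x * d⁻¹ = z * x
  dzx : d * (z * x) * d⁻¹ = z

theorem exists_cyc (h : HJ z Q pm) :
    ∃ (x t t' d : G) (Q' : Subgroup G) (pm' : G → Perm (Fin 5)), Cyc z x t t' d Q Q' pm pm' := by
  obtain ⟨x, t, t', Q', pm', K⟩ := exists_cfg_of_HJ h
  obtain ⟨d, h1, h2, h3, h4, h5⟩ := K.exists_d
  exact ⟨x, t, t', d, Q', pm', K, h1, h2, h3, h4, h5⟩

namespace Cyc

variable (D : Cyc z x t t' d Q Q' pm pm')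
include D

theorem d3 : d ^ 3 = 1 := D.hd ▸ pow_orderOf_eq_one d

theorem ddd : d * (d * d) = 1 := by have := D.d3; rwa [pow_succ, pow_two, mul_assoc] at this

theorem ddz : d * d * z * (d * d)⁻¹ = z * x := by
  rw [show d * d * z * (d * d)⁻¹ = d * (d * z * d⁻¹) * d⁻¹ by group, D.dz, D.dx]

theorem fix_x {a : G} (hat : a * t = t * a) (hax : a * x = x * a) : a ∈ D.K.E := by
  have h1 : d⁻¹ * a * d ∈ D.K.E := by
    refine D.K.mem_E.mpr ⟨?_, ?_⟩
    · have e := conj_back D.dz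
      rw [← e]
      have := (conj_comm_iff d⁻¹ a x).mpr hax
      rwa [inv_inv] at this
    · have e := conj_back (conj_fix_iff.mpr D.dt)
      conv_lhs => rw [← e]
      conv_rhs => rw [← e]
      have := (conj_comm_iff d⁻¹ a t).mpr hat
      rwa [inv_inv] at this
  set W := Subgroup.centralizer ({x} : Set G) ⊓ Subgroup.centralizer ({t} : Set G) with hW
  have hEW : D.K.E ≤ W := fun e he => ⟨mem_cent.mpr (D.K.E_comm_x he), he.2⟩
  have hback : W.map (MulAut.conj d⁻¹).toMonoidHom ≤ D.K.E := by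
    rintro _ ⟨b, ⟨hb1, hb2⟩, rfl⟩
    simp only [MulEquiv.coe_toMonoidHom, MulAut.conj_apply]
    refine D.K.mem_E.mpr ⟨?_, ?_⟩
    · have e := conj_back D.dz
      rw [← e]
      have := (conj_comm_iff d⁻¹ b x).mpr (mem_cent.mp hb1)
      rw [inv_inv] at this ⊢
      exact this
    · have e := conj_back (conj_fix_iff.mpr D.dt)
      conv_lhs => rw [← e]
      conv_rhs => rw [← e]
      have := (conj_comm_iff d⁻¹ b t).mpr (mem_cent.mp hb2)
      rw [inv_inv] at this ⊢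
      exact this
  have hc := Subgroup.card_le_of_le hback
  rw [Subgroup.card_map_of_injective (f := (MulAut.conj d⁻¹).toMonoidHom) (MulAut.conj d⁻¹).injective] at hc
  rw [Subgroup.eq_of_le_of_card_ge hEW hc]
  exact ⟨mem_cent.mpr hax, mem_cent.mpr hat⟩

theorem d_mem {e : G} (he : e ∈ D.K.E) : d * e * d⁻¹ ∈ D.K.E := by
  refine D.fix_x ?_ ?_
  · have := conj_fix_iff.mpr D.dt
    conv_lhs => rw [← this]
    conv_rhs => rw [← this]
    exact (conj_comm_iff d e t).mpr (D.K.mem_E.mp he).2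
  · rw [← D.dz]
    exact (conj_comm_iff d e z).mpr (D.K.mem_E.mp he).1

theorem d_mem_inv {e : G} (he : e ∈ D.K.E) : d⁻¹ * e * d ∈ D.K.E := by
  have hdi : d⁻¹ = d * d := inv_eq_of_mul_eq_one_right D.ddd
  rw [show d⁻¹ * e * d = d⁻¹ * e * d⁻¹⁻¹ by group, hdi,
    show d * d * e * (d * d)⁻¹ = d * (d * e * d⁻¹) * d⁻¹ by group]
  exact D.d_mem (D.d_mem he)

theorem fix_zx {a : G} (hat : a * t = t * a) (hax : a * (z * x) = z * x * a) : a ∈ D.K.E := by
  have h1 : d⁻¹ * a * d ∈ D.K.E := by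
    refine D.fix_x ?_ ?_
    · have e := conj_back (conj_fix_iff.mpr D.dt)
      conv_lhs => rw [← e]
      conv_rhs => rw [← e]
      have := (conj_comm_iff d⁻¹ a t).mpr hat
      rwa [inv_inv] at this
    · have e := conj_back D.dx
      rw [← e]
      have := (conj_comm_iff d⁻¹ a (z * x)).mpr hax
      rwa [inv_inv] at this
  have := D.d_mem h1
  rwa [show d * (d⁻¹ * a * d) * d⁻¹ = a by group] at this

theorem fix_U {a u : G} (hat : a * t = t * a) (hu : u ∈ D.K.P.U) (hu1 : u ≠ 1) (hau : a * u = u * a) :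
    a ∈ D.K.E := by
  rcases hu with rfl | rfl | rfl | rfl
  exacts [absurd rfl hu1, D.K.mem_E.mpr ⟨hau, hat⟩, D.fix_x hat hau, D.fix_zx hat hau]

theorem norm_cases {n : G} (hnt : n * t = t * n) (hn : n * z * n⁻¹ ∈ D.K.P.U) :
    n ∈ D.K.E ∨ d⁻¹ * n ∈ D.K.E ∨ (d * d)⁻¹ * n ∈ D.K.E := by
  rcases hn with e | e | e | e
  · exact absurd (conj_eq_one_iff.mp e) D.K.P.h.es.ne
  · exact Or.inl (D.K.mem_E.mpr ⟨conj_fix_iff.mp e, hnt⟩)
  · refine Or.inr (Or.inl (D.K.mem_E.mpr ⟨conj_fix_iff.mp ?_, Commute.mul_left (Commute.inv_left D.dt) hnt⟩))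
    rw [show d⁻¹ * n * z * (d⁻¹ * n)⁻¹ = d⁻¹ * (n * z * n⁻¹) * d by group, e, conj_back D.dz]
  · refine Or.inr (Or.inr (D.K.mem_E.mpr
      ⟨conj_fix_iff.mp ?_, Commute.mul_left (Commute.inv_left (Commute.mul_left D.dt D.dt)) hnt⟩))
    rw [show (d * d)⁻¹ * n * z * ((d * d)⁻¹ * n)⁻¹ = (d * d)⁻¹ * (n * z * n⁻¹) * (d * d) by simp [mul_assoc], e,
      conj_back D.ddz]

/-- A 2-subgroup of `C(t)` containing `E` equals `E`. -/
theorem E_max (P : Subgroup G) (hP : IsPGroup 2 ↥P) (hPt : ∀ p ∈ P, p * t = t * p) (hle : D.K.E ≤ P) :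
    P = D.K.E := by
  haveI : Fact (Nat.Prime 2) := ⟨Nat.prime_two⟩
  by_contra hne
  haveI : Group.IsNilpotent ↥P := hP.isNilpotent
  have hlt : D.K.E.subgroupOf P < ⊤ :=
    lt_top_iff_ne_top.mpr fun e => hne (le_antisymm (Subgroup.subgroupOf_eq_top.mp e) hle)
  obtain ⟨⟨n, hnP⟩, hn, hnn⟩ := SetLike.exists_of_lt (Group.normalizerCondition_of_isNilpotent _ hlt)
  have hnz : n * z * n⁻¹ ∈ D.K.E :=
    ((Subgroup.mem_normalizer_iff.mp hn) ⟨z, hle (D.K.U_le_E D.K.P.zU)⟩).mp (D.K.U_le_E D.K.P.zU)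
  have hne1 : n * z * n⁻¹ ≠ 1 := fun e => D.K.P.h.es.ne (conj_eq_one_iff.mp e)
  have hU := (D.K.conj_z_mem_U hnz hne1).mp (isConj_iff.mpr ⟨n, rfl⟩)
  have hnt := hPt n hnP
  have key : ∀ c : G, c ^ 3 = 1 → c * t = t * c → (∀ e ∈ D.K.E, c * e * c⁻¹ ∈ D.K.E) →
      c⁻¹ * n ∈ D.K.E → n ∈ D.K.E := by
    intro c hc _ hcE hce
    set e := c⁻¹ * n with he
    have hn3 : n ^ 3 ∈ D.K.E := by
      have e1 : n = c * e := by rw [he, mul_inv_cancel_left]
      have h3 : n ^ 3 = (c * e * c⁻¹) * (c * (c * e * c⁻¹) * c⁻¹) * (c * (c * (c * e * c⁻¹) * c⁻¹) * c⁻¹) *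
          c ^ 3 := by
        rw [e1]; simp [pow_succ, mul_assoc]
      rw [h3, hc, mul_one]
      exact mul_mem (mul_mem (hcE _ hce) (hcE _ (hcE _ hce))) (hcE _ (hcE _ (hcE _ hce)))
    obtain ⟨k, hk⟩ := hP ⟨n, hnP⟩
    have hk' : n ^ (2 ^ k) = 1 := congrArg Subtype.val hk
    have hcop : Nat.Coprime 3 (2 ^ k) := Nat.Coprime.pow_right _ (by norm_num)
    have h1 : (3 : ℤ) * Nat.gcdA 3 (2 ^ k) + (2 ^ k : ℕ) * Nat.gcdB 3 (2 ^ k) = 1 := by
      rw [show (3 : ℤ) = ((3 : ℕ) : ℤ) from rfl, ← Nat.gcd_eq_gcd_ab, hcop]; rfl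
    rw [← zpow_one n, ← h1, zpow_add, zpow_mul, zpow_mul, zpow_natCast, hk', one_zpow, mul_one,
      show (3 : ℤ) = ((3 : ℕ) : ℤ) from rfl, zpow_natCast]
    exact zpow_mem hn3 _
  rcases D.norm_cases hnt hU with h | h | h
  · exact hnn h
  · exact hnn (key d D.d3 D.dt (fun e he => D.d_mem he) h)
  · refine hnn (key (d * d) ?_ (Commute.mul_left D.dt D.dt) (fun e he => ?_) h)
    · rw [← pow_two, ← pow_mul, show 2 * 3 = 3 * 2 from rfl, pow_mul, D.d3, one_pow]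
    · rw [show d * d * e * (d * d)⁻¹ = d * (d * e * d⁻¹) * d⁻¹ by group]
      exact D.d_mem (D.d_mem he)

theorem d_U {u : G} (hu : u ∈ D.K.P.U) : d * u * d⁻¹ ∈ D.K.P.U := by
  rcases hu with rfl | rfl | rfl | rfl
  · simp
  · rw [D.dz]; exact D.K.P.xU
  · rw [D.dx]; exact mul_mem D.K.P.zU D.K.P.xU
  · rw [D.dzx]; exact D.K.P.zU

theorem d_U_inv {u : G} (hu : d * u * d⁻¹ ∈ D.K.P.U) : u ∈ D.K.P.U := by
  have := D.d_U (D.d_U hu)
  rwa [show d * (d * (d * u * d⁻¹) * d⁻¹) * d⁻¹ = d * (d * d) * u * (d * (d * d))⁻¹ by group, D.ddd, one_mul,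
    inv_one, mul_one] at this

/-- Commutators of `E` with `d` lie in `U`. -/
theorem comm_d {e : G} (he : e ∈ D.K.E) : e * (d * e * d⁻¹) ∈ D.K.P.U := by
  have ht' := D.d_mem D.K.t'_mem_E
  have hdt : d * t * d⁻¹ = t := conj_fix_iff.mpr D.dt
  have hU1 : ∀ {u : G}, u ∈ D.K.P.U → u * u = 1 := fun hu => (D.K.P.U_mem hu).2.2
  have key : t' * (d * t' * d⁻¹) ∈ D.K.P.U := by
    obtain ⟨u, hu, e' | e' | e' | e'⟩ := D.K.E_cases ht'
    · exfalso
      rw [← e'] at hu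
      exact D.K.inv'.2.2 (D.K.P.h.pm_Q (D.K.P.U_mem (D.d_U_inv hu)).1)
    · exfalso
      have h1 : d * (t⁻¹ * t') * d⁻¹ = u := by
        rw [show d * (t⁻¹ * t') * d⁻¹ = (d * t * d⁻¹)⁻¹ * (d * t' * d⁻¹) by group, hdt, e']; group
      have h2 := D.d_U_inv (h1 ▸ hu)
      refine D.K.pm_ne ?_
      have h3 := D.K.P.h.pm_Q (D.K.P.U_mem h2).1
      rw [D.K.P.h.pm_mul _ _ (Commute.inv_left D.K.tz) D.K.tz', D.K.P.h.pm_inv D.K.tz] at h3
      exact inv_mul_eq_one.mp h3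
    · rw [e', ← mul_assoc, D.K.tt', one_mul]; exact hu
    · have h2 : d * (d * t' * d⁻¹) * d⁻¹ = t' * (u * (d * u * d⁻¹)) := by
        calc d * (d * t' * d⁻¹) * d⁻¹ = d * (t * t' * u) * d⁻¹ := by rw [e']
          _ = d * t * d⁻¹ * (d * t' * d⁻¹) * (d * u * d⁻¹) := by group
          _ = t * (t * t' * u) * (d * u * d⁻¹) := by rw [hdt, e']
          _ = t * t * t' * u * (d * u * d⁻¹) := by group
          _ = t' * (u * (d * u * d⁻¹)) := by rw [D.K.tt]; group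
      have h3 : d * (d * (d * t' * d⁻¹) * d⁻¹) * d⁻¹ = t' := by
        rw [show d * (d * (d * t' * d⁻¹) * d⁻¹) * d⁻¹ = d * (d * d) * t' * (d * (d * d))⁻¹ by group, D.ddd]; group
      rw [h2, show d * (t' * (u * (d * u * d⁻¹))) * d⁻¹ =
        d * t' * d⁻¹ * (d * (u * (d * u * d⁻¹)) * d⁻¹) by group] at h3
      have hw : d * (u * (d * u * d⁻¹)) * d⁻¹ ∈ D.K.P.U := D.d_U (mul_mem hu (D.d_U hu))
      rw [eq_mul_inv_of_mul_eq h3, ← mul_assoc, D.K.tt', one_mul]
      exact inv_mem hw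
  have hcu : ∀ a u : G, a ∈ D.K.E → u ∈ D.K.P.U → u * a = a * u := fun a u ha hu =>
    D.K.P.U_central hu (D.K.mem_E.mp ha).1 (D.K.E_comm_x ha)
  have hsplit : ∀ a u : G, a ∈ D.K.E → u ∈ D.K.P.U →
      a * u * (d * (a * u) * d⁻¹) = a * (d * a * d⁻¹) * (u * (d * u * d⁻¹)) := by
    intro a u ha hu
    calc a * u * (d * (a * u) * d⁻¹) = a * (u * (d * a * d⁻¹)) * (d * u * d⁻¹) := by group
      _ = a * (d * a * d⁻¹) * (u * (d * u * d⁻¹)) := by rw [hcu _ u (D.d_mem ha) hu]; group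
  obtain ⟨u, hu, rfl | rfl | rfl | rfl⟩ := D.K.E_cases he
  · exact mul_mem hu (D.d_U hu)
  · rw [hsplit t u D.K.t_mem_E hu, hdt, D.K.tt, one_mul]
    exact mul_mem hu (D.d_U hu)
  · rw [hsplit t' u D.K.t'_mem_E hu]
    exact mul_mem key (mul_mem hu (D.d_U hu))
  · rw [hsplit _ u (mul_mem D.K.t_mem_E D.K.t'_mem_E) hu,
      show t * t' * (d * (t * t') * d⁻¹) = t * t' * (d * t * d⁻¹) * (d * t' * d⁻¹) by group, hdt,
      D.K.comm, show t' * t * t * (d * t' * d⁻¹) = t' * (t * t) * (d * t' * d⁻¹) by group, D.K.tt, mul_one]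
    exact mul_mem key (mul_mem hu (D.d_U hu))

/-- `C(t)` has a normal subgroup of index four meeting `E` in the four group. -/
theorem exists_M : ∃ M : Subgroup G, (∀ g, g * t = t * g → ∀ m ∈ M, g * m * g⁻¹ ∈ M) ∧
    (∀ m ∈ M, m * t = t * m) ∧ (∀ a, a ∈ M ∧ a ∈ D.K.E ↔ a ∈ D.K.P.U) ∧ d ∈ M ∧
    Nat.card ↥(Subgroup.centralizer ({t} : Set G)) = 4 * Nat.card ↥M ∧
    (∀ g, g * t = t * g → ∃ m ∈ M, ∃ e ∈ D.K.E, g = m * e) := by
  classical
  haveI : Fact (Nat.Prime 2) := ⟨Nat.prime_two⟩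
  set C := Subgroup.centralizer ({t} : Set G) with hC
  have hEC : D.K.E ≤ C := fun e he => mem_cent.mpr (D.K.mem_E.mp he).2
  set E' := D.K.E.subgroupOf C with hE'
  have hcE : Nat.card ↥E' = 16 := by
    rw [hE', Nat.card_congr (Subgroup.subgroupOfEquivOfLe hEC).toEquiv, D.K.card_E]
  obtain ⟨P, hP⟩ := (IsPGroup.of_card (n := 4) (by rw [hcE]; rfl) : IsPGroup 2 ↥E').exists_le_sylow
  have hPE : (P : Subgroup C) = E' := by
    have h1 := D.E_max ((P : Subgroup C).map C.subtype) (P.2.map _) (by rintro _ ⟨w, -, rfl⟩; exact mem_cent.mp w.2)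
      (fun e he => ⟨⟨e, hEC he⟩, hP he, rfl⟩)
    refine le_antisymm (fun w hw => ?_) hP
    show (w : G) ∈ D.K.E
    rw [← h1]
    exact ⟨w, hw, rfl⟩
  haveI : IsMulCommutative ↥(P : Subgroup C) :=
    ⟨⟨fun a b => Subtype.ext (Subtype.ext (D.K.E_comm (hPE.le a.2) (hPE.le b.2)))⟩⟩
  have hfoc : (E'.focalSubgroup).map C.subtype ≤ D.K.P.U := by
    rw [Subgroup.focalSubgroup_def, MonoidHom.map_closure, Subgroup.closure_le]
    rintro _ ⟨g, ⟨hg, a, ha, u, rfl⟩, rfl⟩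
    have hua : u * a⁻¹ * u⁻¹ ∈ E' := by
      have := E'.mul_mem (inv_mem ha) hg
      rwa [show a⁻¹ * ⁅a, u⁆ = u * a⁻¹ * u⁻¹ by rw [commutatorElement_def]; group] at this
    obtain ⟨n, hn, e⟩ := P.conj_eq_normalizer_conj_of_mem a⁻¹ u⁻¹ (show a⁻¹ ∈ (P : Subgroup C) by rw [hPE]; exact inv_mem ha)
      (show u⁻¹⁻¹ * a⁻¹ * u⁻¹ ∈ (P : Subgroup C) by rw [inv_inv, hPE]; exact hua)
    rw [inv_inv] at e
    set a' : G := ((a : C) : G)⁻¹ with ha'
    have ha'E : a' ∈ D.K.E := inv_mem ha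
    have hcomm : C.subtype ⁅a, u⁆ = a' * (((n : C) : G)⁻¹ * a' * ((n : C) : G)) := by
      rw [commutatorElement_def, show a * u * a⁻¹ * u⁻¹ = a * (u * a⁻¹ * u⁻¹) by group, e,
        show a = a⁻¹⁻¹ by rw [inv_inv], inv_inv]
      simp only [map_mul, map_inv, Subgroup.coe_subtype]
      have : ((a : C) : G) = a' := by
        rw [ha']; exact (D.K.E_inv (show ((a : C) : G) ∈ D.K.E from ha)).symm
      rw [this, D.K.E_inv ha'E]
    rw [SetLike.mem_coe, hcomm]
    set m : G := ((n : C) : G)⁻¹ with hm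
    have hmt : m * t = t * m := Commute.inv_left (mem_cent.mp (n : C).2)
    have hconjE : ∀ w ∈ D.K.E, m * w * m⁻¹ ∈ D.K.E := by
      intro w hw
      have h2 := ((Subgroup.mem_normalizer_iff.mp (inv_mem hn)) ⟨w, hEC hw⟩).mp (show (⟨w, hEC hw⟩ : C) ∈ (P : Subgroup C) by rw [hPE]; exact hw)
      rw [hPE] at h2
      exact h2
    rw [show ((n : C) : G)⁻¹ * a' * ((n : C) : G) = m * a' * m⁻¹ by rw [hm, inv_inv]]
    have hzU : m * z * m⁻¹ ∈ D.K.P.U :=
      (D.K.conj_z_mem_U (hconjE z (D.K.U_le_E D.K.P.zU)) fun e => D.K.P.h.es.ne (conj_eq_one_iff.mp e)).mp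
        (isConj_iff.mpr ⟨m, rfl⟩)
    rcases D.norm_cases hmt hzU with h | h | h
    · rw [D.K.E_comm h ha'E, mul_inv_cancel_right, D.K.E_sq ha'E]; exact one_mem _
    · have e2 : m * a' * m⁻¹ = d * a' * d⁻¹ := by
        conv_lhs => rw [show m = d * (d⁻¹ * m) by group]
        rw [show d * (d⁻¹ * m) * a' * (d * (d⁻¹ * m))⁻¹ = d * (d⁻¹ * m * a' * (d⁻¹ * m)⁻¹) * d⁻¹ by group,
          D.K.E_comm h ha'E, mul_inv_cancel_right]
      rw [e2]; exact D.comm_d ha'E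
    · have e2 : m * a' * m⁻¹ = d * d * a' * (d * d)⁻¹ := by
        conv_lhs => rw [show m = d * d * ((d * d)⁻¹ * m) by group]
        rw [show d * d * ((d * d)⁻¹ * m) * a' * (d * d * ((d * d)⁻¹ * m))⁻¹ =
          d * d * ((d * d)⁻¹ * m * a' * ((d * d)⁻¹ * m)⁻¹) * (d * d)⁻¹ by group,
          D.K.E_comm h ha'E, mul_inv_cancel_right]
      rw [e2]
      have hw := D.d_mem ha'E
      have h3 := mul_mem (D.comm_d ha'E) (D.comm_d hw)
      rwa [show a' * (d * a' * d⁻¹) * (d * a' * d⁻¹ * (d * (d * a' * d⁻¹) * d⁻¹)) =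
        a' * (d * a' * d⁻¹ * (d * a' * d⁻¹)) * (d * d * a' * (d * d)⁻¹) by group, D.K.E_sq hw, mul_one] at h3
  have hidx : (E'.index).Coprime (Nat.card (↥E' ⧸ E'.focalSubgroupOf)) := by
    have h2 : Nat.card (↥E' ⧸ E'.focalSubgroupOf) ∣ 2 ^ 4 := by
      rw [show (2 : ℕ) ^ 4 = Nat.card ↥E' by rw [hcE]; rfl]
      exact Subgroup.card_quotient_dvd_card _
    refine Nat.Coprime.coprime_dvd_right h2 (Nat.Coprime.pow_right _ ?_)
    rw [Nat.coprime_comm, Nat.prime_two.coprime_iff_not_dvd, ← hPE]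
    exact P.not_dvd_index
  obtain ⟨-, N, hN, hNE, hsup⟩ := CfsgLib.Transfer.exists_normal_inf_eq_focal E' hidx
  haveI := hN
  have hinter : ∀ a : C, a ∈ N ∧ a ∈ E' → (a : G) ∈ D.K.P.U := fun a ha => by
    refine hfoc ⟨a, ?_, rfl⟩
    rw [← hNE]; exact ha
  -- the image of `U` lies in `N`
  have hdm : (⟨d, mem_cent.mpr D.dt⟩ : C) ∈ N := by
    have hidx4 : N.index ∣ 16 := by
      rw [← Subgroup.relIndex_top_right, ← hsup, sup_comm, Subgroup.relIndex_sup_right, ← hcE]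
      exact Subgroup.relIndex_dvd_card _ _
    have h1 := Subgroup.pow_index_mem N (⟨d, mem_cent.mpr D.dt⟩ : C)
    have h16 : (⟨d, mem_cent.mpr D.dt⟩ : C) ^ 16 ∈ N := by
      obtain ⟨k, hk⟩ := hidx4
      rw [hk, pow_mul]; exact pow_mem h1 k
    rwa [show (16 : ℕ) = 3 * 5 + 1 from rfl, pow_succ, pow_mul,
      show (⟨d, mem_cent.mpr D.dt⟩ : C) ^ 3 = 1 from Subtype.ext D.d3, one_pow, one_mul] at h16
  have hUN : ∀ u : C, (u : G) ∈ D.K.P.U → u ∈ N := by
    have hz : ∀ e : G, ∀ he : e ∈ C, e ∈ D.K.E → (⟨e * (d * e * d⁻¹), mul_mem he (mul_mem (mul_mem (mem_cent.mpr D.dt) he) (inv_mem (mem_cent.mpr D.dt)))⟩ : C) ∈ N := by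
      intro e he heE
      have hrw : (⟨e * (d * e * d⁻¹), mul_mem he (mul_mem (mul_mem (mem_cent.mpr D.dt) he) (inv_mem (mem_cent.mpr D.dt)))⟩ : C) =
          (⟨e, he⟩ * ⟨d, mem_cent.mpr D.dt⟩ * ⟨e, he⟩⁻¹) * ⟨d, mem_cent.mpr D.dt⟩⁻¹ := by
        apply Subtype.ext
        simp only [Subgroup.coe_mul, Subgroup.coe_inv]
        rw [D.K.E_inv heE]; group
      rw [hrw]
      exact mul_mem (hN.conj_mem _ hdm _) (inv_mem hdm)
    rintro ⟨u, huC⟩ (e | e | e | e)
    · rw [show (⟨u, huC⟩ : C) = 1 from Subtype.ext e]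
      exact one_mem N
    · have hx' : x ∈ D.K.E := D.K.U_le_E D.K.P.xU
      convert hz x (hEC hx') hx' using 1
      apply Subtype.ext
      show u = x * (d * x * d⁻¹)
      rw [show u = z from e, D.dx, D.K.P.zx, ← mul_assoc, D.K.P.xx, one_mul]
    · have hy : z * x ∈ D.K.E := D.K.U_le_E (mul_mem D.K.P.zU D.K.P.xU)
      convert hz (z * x) (hEC hy) hy using 1
      apply Subtype.ext
      show u = z * x * (d * (z * x) * d⁻¹)
      rw [show u = x from e, D.dzx, D.K.P.zx, mul_assoc, D.K.P.h.zz, mul_one]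
    · have hz' : z ∈ D.K.E := D.K.U_le_E D.K.P.zU
      convert hz z (hEC hz') hz' using 1
      apply Subtype.ext
      show u = z * (d * z * d⁻¹)
      rw [show u = z * x from e, D.dz]
  have hcardU : Nat.card ↥(N ⊓ E') = 4 := by
    rw [← D.K.P.card_U]
    exact Nat.card_congr
      { toFun := fun a => ⟨((a.1 : C) : G), hinter a.1 a.2⟩
        invFun := fun u => ⟨⟨u.1, hEC (D.K.U_le_E u.2)⟩, hUN _ u.2, D.K.U_le_E u.2⟩
        left_inv := fun a => rfl
        right_inv := fun u => rfl }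
  have hindex : N.index = 4 := by
    rw [← Subgroup.relIndex_top_right, ← hsup, sup_comm, Subgroup.relIndex_sup_right]
    have h2 := Subgroup.card_mul_index (N.subgroupOf E')
    rw [hcE, ← Subgroup.inf_subgroupOf_right,
      Nat.card_congr (Subgroup.subgroupOfEquivOfLe (inf_le_right : N ⊓ E' ≤ E')).toEquiv, hcardU] at h2
    show (N.subgroupOf E').index = 4
    rw [← Subgroup.inf_subgroupOf_right]
    omega
  refine ⟨N.map C.subtype, ?_, ?_, ?_, ⟨_, hdm, rfl⟩, ?_, ?_⟩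
  · rintro g hg _ ⟨m, hm, rfl⟩
    exact ⟨⟨g, mem_cent.mpr hg⟩ * m * ⟨g, mem_cent.mpr hg⟩⁻¹, hN.conj_mem _ hm _, rfl⟩
  · rintro _ ⟨m, -, rfl⟩; exact mem_cent.mp m.2
  · intro a
    refine ⟨?_, fun ha => ⟨⟨⟨a, hEC (D.K.U_le_E ha)⟩, hUN _ ha, rfl⟩, D.K.U_le_E ha⟩⟩
    rintro ⟨⟨m, hm, rfl⟩, hE⟩
    exact hinter m ⟨hm, hE⟩
  · rw [Subgroup.card_map_of_injective C.subtype_injective, ← hindex, mul_comm, Subgroup.card_mul_index]
  · intro g hg
    have hmem : (⟨g, mem_cent.mpr hg⟩ : C) ∈ N ⊔ E' := hsup ▸ Subgroup.mem_top _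
    rw [← SetLike.mem_coe, Subgroup.normal_mul] at hmem
    obtain ⟨m, hm, e, he, hme⟩ := hmem
    exact ⟨m, ⟨m, hm, rfl⟩, e, he, (congrArg Subtype.val hme).symm⟩

/-- The conjugates of `z` commuting with `t`. -/
def I (_D : Cyc z x t t' d Q Q' pm pm') : Set G := {y | y * t = t * y ∧ IsConj z y}

theorem exists_conj_E {y : G} (hyt : y * t = t * y) (hy : y * y = 1) :
    ∃ g : G, g * t = t * g ∧ g * y * g⁻¹ ∈ D.K.E := by
  classical
  haveI : Fact (Nat.Prime 2) := ⟨Nat.prime_two⟩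
  set C := Subgroup.centralizer ({t} : Set G) with hC
  have hEC : D.K.E ≤ C := fun e he => mem_cent.mpr (D.K.mem_E.mp he).2
  obtain ⟨P, hP⟩ := (IsPGroup.of_card (n := 4) (by
    rw [Nat.card_congr (Subgroup.subgroupOfEquivOfLe hEC).toEquiv, D.K.card_E]; rfl) :
    IsPGroup 2 ↥(D.K.E.subgroupOf C)).exists_le_sylow
  have h1 := D.E_max ((P : Subgroup C).map C.subtype) (P.2.map _) (by rintro _ ⟨w, -, rfl⟩; exact mem_cent.mp w.2)
    (fun e he => ⟨⟨e, hEC he⟩, hP he, rfl⟩)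
  have hyp : IsPGroup 2 ↥(Subgroup.zpowers (⟨y, mem_cent.mpr hyt⟩ : C)) := by
    refine IsPGroup.of_card_dvd_pow (n := 1) ?_
    rw [Nat.card_zpowers, pow_one]
    exact orderOf_dvd_of_pow_eq_one (Subtype.ext (by rw [pow_two]; exact hy))
  obtain ⟨R, hR⟩ := hyp.exists_le_sylow
  obtain ⟨g, hg⟩ := MulAction.exists_smul_eq C R P
  refine ⟨g, mem_cent.mp g.2, ?_⟩
  rw [← h1]
  refine ⟨g * ⟨y, mem_cent.mpr hyt⟩ * g⁻¹, ?_, rfl⟩
  rw [← hg, Sylow.coe_subgroup_smul]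
  exact Subgroup.smul_mem_pointwise_smul _ (MulAut.conj g) _ (hR (Subgroup.mem_zpowers _))

theorem orb_I : orb (Subgroup.centralizer ({t} : Set G)) z = D.I := by
  ext y
  constructor
  · rintro ⟨g, hg, rfl⟩
    exact ⟨Commute.mul_left (Commute.mul_left (mem_cent.mp hg) D.K.tz.symm) (Commute.inv_left (mem_cent.mp hg)),
      isConj_iff.mpr ⟨g, rfl⟩⟩
  · rintro ⟨hyt, hc⟩
    obtain ⟨k, hk⟩ := isConj_iff.mp hc
    have hyy : y * y = 1 := by rw [← hk]; exact conj_sq k z D.K.P.h.zz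
    have hy1 : y ≠ 1 := fun e => D.K.P.h.es.ne (conj_eq_one_iff.mp (hk.trans e))
    obtain ⟨g, hgt, hgE⟩ := D.exists_conj_E hyt hyy
    have hU := (D.K.conj_z_mem_U hgE fun e => hy1 (conj_eq_one_iff.mp e)).mp
      (hc.trans (isConj_iff.mpr ⟨g, rfl⟩))
    have fin : ∀ c : G, c * t = t * c → c * z * c⁻¹ = g * y * g⁻¹ →
        y ∈ orb (Subgroup.centralizer ({t} : Set G)) z := fun c hct e =>
      ⟨g⁻¹ * c, mem_cent.mpr (Commute.mul_left (Commute.inv_left hgt) hct), by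
        rw [show g⁻¹ * c * z * (g⁻¹ * c)⁻¹ = g⁻¹ * (c * z * c⁻¹) * g by group, e]; group⟩
    rcases hU with e | e | e | e
    · exact absurd (conj_eq_one_iff.mp e) hy1
    · exact fin 1 (by simp) (by rw [e]; group)
    · exact fin d D.dt (by rw [e, D.dz])
    · exact fin (d * d) (Commute.mul_left D.dt D.dt) (by rw [e, D.ddz])

theorem card_Ct : Nat.card ↥(Subgroup.centralizer ({t} : Set G)) = 16 * D.I.ncard := by
  have e := ncard_orb (Subgroup.centralizer ({t} : Set G)) z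
  rw [D.orb_I, inf_comm, show Nat.card ↥(Subgroup.centralizer ({z} : Set G) ⊓
    Subgroup.centralizer ({t} : Set G)) = 16 from D.K.card_E] at e
  omega

/-- `C(t)` has order `48` or `240`. -/
theorem ncard_I : D.I.ncard = 3 ∨ D.I.ncard = 15 := by
  classical
  obtain ⟨M, hnor, hMt, hME, -, hMcard, hprod⟩ := D.exists_M
  have hzM : z ∈ M := ((hME z).mpr D.K.P.zU).1
  have hxM : x ∈ M := ((hME x).mpr D.K.P.xU).1
  let zM : M := ⟨z, hzM⟩
  let xM : M := ⟨x, hxM⟩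
  have hzM2 : orderOf zM = 2 :=
    orderOf_two_of (Subtype.ext D.K.P.h.zz) fun e => D.K.P.h.es.ne (congrArg Subtype.val e)
  have hxM2 : orderOf xM = 2 := orderOf_two_of (Subtype.ext D.K.P.xx) fun e => D.K.P.x1 (congrArg Subtype.val e)
  have hcent : ∀ a : M, a ∈ Subgroup.centralizer ({zM} : Set M) ↔ (a : G) ∈ D.K.P.U := fun a => by
    rw [mem_cent, ← hME]
    constructor
    · intro e
      exact ⟨a.2, D.K.mem_E.mpr ⟨congrArg Subtype.val e, hMt _ a.2⟩⟩
    · rintro ⟨-, he⟩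
      exact Subtype.ext (D.K.mem_E.mp he).1
  have hconjz : ∀ y : M, orderOf y = 2 → IsConj zM y := by
    intro y hy
    have hyy : (y : G) * y = 1 := by
      have := pow_orderOf_eq_one y
      rw [hy, pow_two] at this
      exact congrArg Subtype.val this
    have hy1 : (y : G) ≠ 1 := fun e => by
      rw [show y = 1 from Subtype.ext e, orderOf_one] at hy; omega
    obtain ⟨g, hgt, hgE⟩ := D.exists_conj_E (hMt _ y.2) hyy
    have hU := (hME _).mp ⟨hnor g hgt _ y.2, hgE⟩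
    have hyI : (y : G) ∈ D.I :=
      ⟨hMt _ y.2, (D.K.conj_U hU fun e => hy1 (conj_eq_one_iff.mp e)).trans (isConj_iff.mpr ⟨g, rfl⟩).symm⟩
    rw [← D.orb_I] at hyI
    obtain ⟨k, hk, e⟩ := hyI
    obtain ⟨m, hm, e', he', rfl⟩ := hprod k (mem_cent.mp hk)
    refine isConj_iff.mpr ⟨⟨m, hm⟩, Subtype.ext ?_⟩
    show m * z * m⁻¹ = (y : G)
    rw [← e, show m * e' * z * (m * e')⁻¹ = m * (e' * z * e'⁻¹) * m⁻¹ by group,
      conj_fix_iff.mpr (D.K.mem_E.mp he').1]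
  have htwo : ∀ a : M, a ∈ Subgroup.zpowers zM → a = 1 ∨ a = zM := by
    intro a ha
    obtain ⟨k, rfl⟩ := Subgroup.mem_zpowers_iff.mp ha
    rcases Int.even_or_odd' k with ⟨j, rfl | rfl⟩
    · left; rw [zpow_mul, zpow_two, show zM * zM = 1 from Subtype.ext D.K.P.h.zz, one_zpow]
    · right
      rw [zpow_add, zpow_mul, zpow_two, show zM * zM = 1 from Subtype.ext D.K.P.h.zz, one_zpow, one_mul, zpow_one]
  letI : Fintype M := Fintype.ofFinite M
  let S : CfsgLib.BSW.Setup M :=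
    { t := zM
      K := Subgroup.zpowers zM
      s := xM
      ht := hzM2
      comm := fun a ha b hb => by
        rcases htwo a ha with rfl | rfl <;> rcases htwo b hb with rfl | rfl <;> simp
      htK := Subgroup.mem_zpowers _
      hs := hxM2
      hsK := fun hm => by
        rcases htwo xM hm with e | e
        · exact D.K.P.x1 (congrArg Subtype.val e)
        · exact D.K.P.ne (congrArg Subtype.val e)
      hH := by
        refine le_antisymm (sup_le (Subgroup.zpowers_le.mpr (mem_cent.mpr rfl))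
          (Subgroup.zpowers_le.mpr ((hcent xM).mpr D.K.P.xU))) fun a ha => ?_
        rcases (hcent a).mp ha with e | e | e | e
        · rw [show a = 1 from Subtype.ext e]; exact one_mem _
        · rw [show a = zM from Subtype.ext e]; exact Subgroup.mem_sup_left (Subgroup.mem_zpowers _)
        · rw [show a = xM from Subtype.ext e]; exact Subgroup.mem_sup_right (Subgroup.mem_zpowers _)
        · rw [show a = zM * xM from Subtype.ext e]
          exact Subgroup.mul_mem_sup (Subgroup.mem_zpowers _) (Subgroup.mem_zpowers _)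
      hCK := le_antisymm inf_le_left fun a ha => ⟨ha, mem_cent.mpr (by
        rcases htwo a ha with rfl | rfl
        · simp
        · exact Subtype.ext D.K.P.zx)⟩
      hinv := fun a ha => by
        rcases htwo a ha with rfl | rfl
        · simp
        · apply Subtype.ext
          show x * z * x⁻¹ = z⁻¹
          rw [← D.K.P.zx, mul_inv_cancel_right, inv_eq_of_mul_eq_one_right D.K.P.h.zz]
      hTI := fun g hg => by
        rw [eq_bot_iff]
        rintro a ⟨ha, b, hb, rfl⟩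
        rw [Subgroup.mem_bot]
        rcases htwo b hb with rfl | rfl
        · simp
        · exfalso
          rcases htwo _ ha with e | e
          · simp only [MulEquiv.coe_toMonoidHom, MulAut.conj_apply] at e
            exact D.K.P.h.es.ne (congrArg Subtype.val (conj_eq_one_iff.mp e))
          · simp only [MulEquiv.coe_toMonoidHom, MulAut.conj_apply] at e
            exact hg (mem_cent.mpr (conj_fix_iff.mp e))
      hconj := fun a b ha hb => (hconjz a ha).symm.trans (hconjz b hb) }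
  have hk : S.k = 2 := by
    show Nat.card ↥(Subgroup.zpowers zM) = 2
    rw [Nat.card_zpowers, hzM2]
  have hH4 : Nat.card ↥(Subgroup.centralizer ({zM} : Set M)) = 4 := by
    rw [← D.K.P.card_U]
    exact Nat.card_congr
      { toFun := fun a => ⟨((a.1 : M) : G), (hcent _).mp a.2⟩
        invFun := fun u => ⟨⟨u.1, ((hME _).mpr u.2).1⟩, (hcent _).mpr u.2⟩
        left_inv := fun a => rfl
        right_inv := fun u => rfl }
  have hi := S.index_two hk
  have hmul := Subgroup.card_mul_index (Subgroup.centralizer ({zM} : Set M))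
  have hCt := D.card_Ct
  rw [hMcard] at hCt
  rw [hH4] at hmul
  rcases hi with h | h <;>
    (change (Subgroup.centralizer ({zM} : Set M)).index = _ at h; rw [h] at hmul; omega)

end Cyc

end CfsgLib.HallJankoType
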