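import Cfsg.Agent.Lib.HallJankoType.ThreeNorm

/-!
Groups of Hall–Janko type: the remaining centralizer of order five and the Sylow seven-normalizer.
-/

set_option autoImplicit false
set_option linter.unusedSectionVars false
set_option maxRecDepth 100000

namespace CfsgLib.HallJankoType

open Cfsg CfsgLargeExtra Equiv
open scoped Pointwise

universe u

variable {G : Type u} [Group G] [Finite G]
variable {z x t t' d : G} {Q Q' : Subgroup G} {pm pm' : G → Perm (Fin 5)}
variable {M : Subgroup G}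

/-- Sufficient conditions for `z` to invert, modulo `⟨f⟩`, every element of odd order centralising `f`. -/
theorem inverts_mod {W : Type u} [Group W] [Finite W] (N : Subgroup W) [N.Normal] (K : Subgroup W) [K.Normal]
    (u : W) (huu : u * u = 1) (hfix : ∀ k ∈ K, k * u * k⁻¹ * u⁻¹ ∈ N → k ∈ N) :
    ∀ a ∈ K, ∀ b ∈ K, a * b * a⁻¹ * b⁻¹ ∈ N := by
  set q := QuotientGroup.mk' N with hq
  have hN : ∀ w, w ∈ N ↔ q w = 1 := fun w => (QuotientGroup.eq_one_iff w).symm
  have hinv := CfsgLib.InvolutionDihedralEight.inverts_of_fpf (O := K.map q) (u := q u)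
    (by rw [← map_mul, huu, map_one])
    (by
      rintro _ ⟨k, hk, rfl⟩
      exact ⟨u * k * u⁻¹, Subgroup.Normal.conj_mem inferInstance k hk u, by simp⟩)
    (by
      rintro _ ⟨k, hk, rfl⟩ e
      refine (hN k).mp (hfix k hk ((hN _).mpr ?_))
      have e' : q k * q u = q u * q k := by
        calc q k * q u = q u * q k * (q u)⁻¹ * q u := by rw [e]
          _ = q u * q k := by group
      rw [map_mul, map_mul, map_mul, map_inv, map_inv, e']
      group)
  intro a ha b hb
  rw [hN, map_mul, map_mul, map_mul, map_inv, map_inv]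
  have h1 := hinv (q a * q b) (mul_mem ⟨a, ha, rfl⟩ ⟨b, hb, rfl⟩)
  rw [show q u * (q a * q b) * (q u)⁻¹ = (q u * q a * (q u)⁻¹) * (q u * q b * (q u)⁻¹) by group,
    hinv _ ⟨a, ha, rfl⟩, hinv _ ⟨b, hb, rfl⟩, mul_inv_rev] at h1
  have h2 : q b * q a = q a * q b := by
    have := congrArg (fun w => w⁻¹) h1
    simpa using this
  rw [← h2]
  group

namespace Sub

variable {D : Cyc z x t t' d Q Q' pm pm'} (S : Sub D M)
include S

theorem cent_fA_free {f : G} (hf : f * z = z * f) (ho : orderOf f = 5)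
    (h10 : Nat.card ↥(Subgroup.centralizer ({z} : Set G) ⊓ Subgroup.centralizer ({f} : Set G)) = 10)
    {r : ℕ} (hr : r.Prime) (hr2 : r ≠ 2) (hr5 : r ≠ 5) : ¬ r ∣ Nat.card ↥(Subgroup.centralizer ({f} : Set G)) := by
  intro hdvd
  haveI : Fact r.Prime := ⟨hr⟩
  haveI : Fact (Nat.Prime 2) := ⟨Nat.prime_two⟩
  haveI : Fact (Nat.Prime 5) := ⟨by norm_num⟩
  set h := D.K.P.h with hh
  have h4 := h.cent_five_two hf ho h10
  set W := Subgroup.centralizer ({f} : Set G) with hW
  let zW : ↥W := ⟨z, mem_cent.mpr hf.symm⟩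
  let fW : ↥W := ⟨f, mem_cent.mpr rfl⟩
  have hzo : orderOf zW = 2 := by rw [← Subgroup.orderOf_coe]; exact h.hz
  obtain ⟨T, hT⟩ := (IsPGroup.of_card (n := 1) (by rw [Nat.card_zpowers, hzo, pow_one]) :
    IsPGroup 2 ↥(Subgroup.zpowers zW)).exists_le_sylow
  have hT2 : Nat.card ↥(T : Subgroup ↥W) = 2 := by
    obtain ⟨k, hk⟩ := IsPGroup.iff_card.mp T.isPGroup'
    have h1 := Subgroup.card_dvd_of_le hT
    rw [Nat.card_zpowers, hzo, hk] at h1
    have h2 := Subgroup.card_subgroup_dvd_card (T : Subgroup ↥W)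
    rw [hk] at h2
    have hk1 : k ≤ 1 := by
      by_contra hlt
      exact h4 ((show (2 : ℕ) ^ 2 ∣ 2 ^ k from pow_dvd_pow 2 (by omega)).trans h2)
    have hk0 : k ≠ 0 := fun e => by rw [e, pow_zero] at h1; omega
    rw [hk, show k = 1 by omega, pow_one]
  obtain ⟨T', K, hKn, hK⟩ := CfsgLib.Transfer.hasNormalPComplement_of_control T fun a ha g hg => ⟨1, one_mem _, by
    simp only [one_mul, inv_one, mul_one]
    by_cases ha1 : a = 1
    · simp [ha1]
    · obtain ⟨u, -, hu⟩ := (Nat.card_eq_two_iff' (1 : ↥(T : Subgroup ↥W))).mp hT2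
      have e1 := hu ⟨a, ha⟩ fun e => ha1 (congrArg Subtype.val e)
      have e2 := hu ⟨_, hg⟩ fun e => ha1 (conj_eq_one_iff.mp (congrArg Subtype.val e))
      exact congrArg Subtype.val (e1.trans e2.symm)⟩
  have hT'2 : Nat.card ↥(T' : Subgroup ↥W) = 2 := by
    rw [T'.card_eq_multiplicity, ← T.card_eq_multiplicity, hT2]
  have hKidx : K.index = 2 := by rw [← hT'2]; exact hK.symm.index_eq_card
  have hKodd : ¬ 2 ∣ Nat.card ↥K := fun h2 => by
    refine h4 ?_
    rw [← hK.card_mul, hT'2]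
    exact Nat.mul_dvd_mul_right h2 2
  haveI := hKn
  have hmem : ∀ w : ↥W, ¬ 2 ∣ orderOf w → w ∈ K := fun w hw => by
    have h2 : w ^ 2 ∈ K := hKidx ▸ Subgroup.pow_index_mem K w
    obtain ⟨m, hm⟩ : ∃ m, orderOf w = 2 * m + 1 := ⟨orderOf w / 2, by omega⟩
    have h1 := pow_mem h2 (m + 1)
    rwa [← pow_mul, show 2 * (m + 1) = orderOf w + 1 by omega, pow_succ, pow_orderOf_eq_one, one_mul] at h1
  set N := Subgroup.zpowers fW with hN
  haveI : N.Normal := ⟨fun a ha g => by
    obtain ⟨i, rfl⟩ := Subgroup.mem_zpowers_iff.mp ha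
    rw [conj_fix_iff.mpr ((show Commute g fW from Subtype.ext (mem_cent.mp g.2)).zpow_right i)]
    exact Subgroup.zpow_mem _ (Subgroup.mem_zpowers fW) i⟩
  have hf5 : f ^ 5 = 1 := ho ▸ pow_orderOf_eq_one f
  have hpw : ∀ i : ℤ, (f ^ i) ^ 5 = 1 := fun i => by
    rw [← zpow_natCast, ← zpow_mul, mul_comm, zpow_mul, zpow_natCast, hf5, one_zpow]
  have hab := inverts_mod N K zW (Subtype.ext h.zz) fun k hk hkN => by
    obtain ⟨i, hi⟩ := Subgroup.mem_zpowers_iff.mp hkN
    have hi' : f ^ i = (k : G) * z * (k : G)⁻¹ * z⁻¹ := congrArg Subtype.val hi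
    have hcz : Commute (f ^ i) z := Commute.zpow_left hf i
    have e2 : (f ^ i * z) * (f ^ i * z) = 1 := by
      rw [hi']
      simp only [inv_mul_cancel_right]
      exact conj_sq (k : G) z h.zz
    have e3 : f ^ i * f ^ i = 1 := by
      calc f ^ i * f ^ i = f ^ i * f ^ i * (z * z) := by rw [h.zz, mul_one]
        _ = f ^ i * (f ^ i * z) * z := by group
        _ = f ^ i * (z * f ^ i) * z := by rw [hcz.eq]
        _ = (f ^ i * z) * (f ^ i * z) := by group
        _ = 1 := e2
    have e4 : f ^ i = 1 := by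
      calc f ^ i = (f ^ i) ^ 5 * ((f ^ i * f ^ i) * (f ^ i * f ^ i))⁻¹ := by simp [pow_succ, mul_assoc]
        _ = 1 := by rw [hpw, e3]; simp
    rw [e4] at hi'
    have hkz : (k : G) * z = z * (k : G) := conj_fix_iff.mp (mul_inv_eq_one.mp hi'.symm)
    -- an element of odd order of a group of order ten
    let k2 : ↥(Subgroup.centralizer ({z} : Set G) ⊓ W) := ⟨k, mem_cent.mpr hkz, k.2⟩
    have hk5 : (k : G) ^ 5 = 1 := by
      have h10' : (k : G) ^ 10 = 1 := by
        have := congrArg Subtype.val (pow_card_eq_one' (x := k2))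
        rw [h10] at this
        exact this
      have hd : orderOf k ∣ 10 := orderOf_dvd_of_pow_eq_one (Subtype.ext (by simpa using h10'))
      have hodd : (orderOf k).Coprime 2 :=
        ((Nat.prime_two.coprime_iff_not_dvd.2 fun e => hKodd (e.trans (Subgroup.orderOf_dvd_natCard K hk)))).symm
      have h5 := hodd.dvd_of_dvd_mul_left (show orderOf k ∣ 2 * 5 from hd)
      exact congrArg Subtype.val (orderOf_dvd_iff_pow_eq_one.mp h5)
    have hzf : orderOf (z * f) = 10 := by
      rw [(show Commute z f from hf.symm).orderOf_mul_eq_mul_orderOf_of_coprime (by rw [h.hz, ho]; norm_num),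
        h.hz, ho]
    have hle : Subgroup.zpowers (z * f) ≤ Subgroup.centralizer ({z} : Set G) ⊓ W := Subgroup.zpowers_le.mpr
      ⟨mem_cent.mpr (Commute.mul_left (Commute.refl z) hf), mem_cent.mpr (Commute.mul_left hf.symm (Commute.refl f))⟩
    have heq := Subgroup.eq_of_le_of_card_ge hle (by rw [Nat.card_zpowers, hzf, h10])
    obtain ⟨j, hj⟩ := Subgroup.mem_zpowers_iff.mp (heq.symm ▸ k2.2 : (k : G) ∈ Subgroup.zpowers (z * f))
    refine Subgroup.mem_zpowers_iff.mpr ⟨j, Subtype.ext ?_⟩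
    show ((fW ^ j : ↥W) : G) = k
    rw [SubgroupClass.coe_zpow]
    show f ^ j = (k : G)
    rw [← hj, (show Commute z f from hf.symm).mul_zpow] at hk5 ⊢
    rw [((show Commute z f from hf.symm).zpow_zpow j j).mul_pow, hpw, mul_one] at hk5
    have h2 : (z ^ j) ^ 2 = 1 := by
      rw [← zpow_natCast, ← zpow_mul, mul_comm, zpow_mul, zpow_natCast, pow_two, h.zz, one_zpow]
    have h1 : z ^ j = 1 := by
      calc z ^ j = (z ^ j) ^ 5 * (((z ^ j) ^ 2) * ((z ^ j) ^ 2))⁻¹ := by group
        _ = 1 := by rw [hk5, h2]; simp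
    rw [h1, one_mul]
  obtain ⟨o, hoo⟩ := exists_prime_orderOf_dvd_card' (G := ↥W) r hdvd
  have hoK : o ∈ K := hmem o (by rw [hoo]; exact fun e => hr2 ((Nat.prime_dvd_prime_iff_eq Nat.prime_two hr).mp e).symm)
  obtain ⟨P, hP⟩ := (IsPGroup.of_card (n := 1) (by rw [Nat.card_zpowers, ho, pow_one]) :
    IsPGroup 5 ↥(Subgroup.zpowers f)).exists_le_sylow
  have hfP : f ∈ (P : Subgroup G) := hP (Subgroup.mem_zpowers f)
  have hoP : (o : G) ∈ (P : Subgroup G) := by
    rw [← S.cent_sylow_five P]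
    refine Subgroup.mem_centralizer_iff.mpr fun p hp => ?_
    let pW : ↥W := ⟨p, mem_cent.mpr (S.sylow_comm P hp hfP)⟩
    have hpK : pW ∈ K := hmem pW fun e => by
      have h25 : orderOf pW ∣ 25 := by
        rw [← Subgroup.orderOf_coe]
        show orderOf p ∣ 25
        rw [← S.card_sylow_five P]
        exact Subgroup.orderOf_dvd_natCard _ hp
      exact absurd (e.trans h25) (by norm_num)
    obtain ⟨i, hi⟩ := Subgroup.mem_zpowers_iff.mp (hab o hoK pW hpK)
    have hi' : f ^ i = (o : G) * p * (o : G)⁻¹ * p⁻¹ := congrArg Subtype.val hi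
    have hiter : ∀ n : ℕ, (o : G) ^ n * p * ((o : G) ^ n)⁻¹ = (f ^ i) ^ n * p := by
      intro n
      induction n with
      | zero => simp
      | succ n ih =>
        have hoc : Commute (o : G) ((f ^ i) ^ n) :=
          ((show Commute (o : G) f from mem_cent.mp o.2).zpow_right i).pow_right n
        calc (o : G) ^ (n + 1) * p * ((o : G) ^ (n + 1))⁻¹
            = (o : G) * ((o : G) ^ n * p * ((o : G) ^ n)⁻¹) * (o : G)⁻¹ := by rw [pow_succ']; group
          _ = (o : G) * (f ^ i) ^ n * p * (o : G)⁻¹ := by rw [ih]; group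
          _ = (f ^ i) ^ n * (o : G) * p * (o : G)⁻¹ := by rw [hoc.eq]
          _ = (f ^ i) ^ n * ((o : G) * p * (o : G)⁻¹ * p⁻¹) * p := by group
          _ = (f ^ i) ^ (n + 1) * p := by rw [← hi', pow_succ]
    have hor : (o : G) ^ r = 1 := by
      rw [← hoo, ← Subgroup.orderOf_coe]; exact pow_orderOf_eq_one _
    have h1 := hiter r
    rw [hor, one_mul, inv_one, mul_one, right_eq_mul] at h1
    have h2 : f ^ i = 1 := orderOf_eq_one_iff.mp (Nat.eq_one_of_dvd_coprimes
      ((Nat.coprime_primes hr (by norm_num)).mpr hr5) (orderOf_dvd_of_pow_eq_one h1)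
      (orderOf_dvd_of_pow_eq_one (hpw i)))
    rw [h2] at hi'
    exact (conj_fix_iff.mp (mul_inv_eq_one.mp hi'.symm)).symm
  have hd := Subgroup.orderOf_dvd_natCard _ hoP
  rw [S.card_sylow_five, Subgroup.orderOf_coe, hoo] at hd
  exact hr5 ((Nat.prime_dvd_prime_iff_eq hr (by norm_num)).mp
    (hr.dvd_of_dvd_pow (show r ∣ 5 ^ 2 by norm_num; exact hd)))

theorem card_sylow_seven (E : Sylow 7 G) : Nat.card ↥(E : Subgroup G) = 7 := by
  haveI : Fact (Nat.Prime 7) := ⟨by norm_num⟩
  exact (sylow_card (k := 1) (m := 86400) (by rw [S.card_G]; norm_num) (by norm_num) E).trans (pow_one 7)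

/-- An element of order seven is self-centralizing. -/
theorem card_cent_seven {e : G} (he : orderOf e = 7) : Nat.card ↥(Subgroup.centralizer ({e} : Set G)) = 7 := by
  set W := Subgroup.centralizer ({e} : Set G) with hW
  have h7 : 7 ∣ Nat.card ↥W := he ▸ Subgroup.orderOf_dvd_natCard W (mem_cent.mpr rfl)
  have key : ∀ w a : G, IsConj w a → a * e = e * a → 7 ∣ Nat.card ↥(Subgroup.centralizer ({w} : Set G)) := by
    intro w a hwa hae
    obtain ⟨g, hg⟩ := isConj_iff.mp hwa
    rw [← card_cent_conj g w, hg, ← he]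
    exact Subgroup.orderOf_dvd_natCard _ (mem_cent.mpr hae.symm)
  have cent_sub : ∀ {a b : G}, orderOf a = orderOf b → (orderOf b).Prime → a ∈ Subgroup.zpowers b →
      Subgroup.centralizer ({a} : Set G) = Subgroup.centralizer ({b} : Set G) := by
    intro a b hab hp hm
    haveI : Fact (orderOf b).Prime := ⟨hp⟩
    have ha1 : a ≠ 1 := fun h1 => hp.ne_one (by rw [← hab, h1, orderOf_one])
    obtain ⟨i, hi⟩ := Subgroup.mem_zpowers_iff.mp hm
    obtain ⟨j, hj⟩ := Subgroup.mem_zpowers_iff.mp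
      ((zpowers_eq_of_mem rfl hm ha1).1 ▸ Subgroup.mem_zpowers b : b ∈ Subgroup.zpowers a)
    ext w
    rw [mem_cent, mem_cent]
    exact ⟨fun h => by rw [← hj]; exact (show Commute w a from h).zpow_right j,
      fun h => by rw [← hi]; exact (show Commute w b from h).zpow_right i⟩
  have h2 : ¬ 2 ∣ Nat.card ↥W := fun hd => by
    haveI : Fact (Nat.Prime 2) := ⟨Nat.prime_two⟩
    obtain ⟨⟨a, ha⟩, hao⟩ := exists_prime_orderOf_dvd_card' (G := ↥W) 2 hd
    rw [Subgroup.orderOf_mk] at hao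
    rcases D.K.class_cases (y := a) (by rw [← pow_two, ← hao]; exact pow_orderOf_eq_one a)
      (fun e' => by rw [e', orderOf_one] at hao; omega) with hc | hc
    · have := key z a hc (mem_cent.mp ha)
      rw [D.K.P.h.card_C] at this
      omega
    · have := key t a hc (mem_cent.mp ha)
      rw [S.card_C] at this
      omega
  have h3 : ¬ 3 ∣ Nat.card ↥W := fun hd => by
    haveI : Fact (Nat.Prime 3) := ⟨Nat.prime_three⟩
    obtain ⟨⟨a, ha⟩, hao⟩ := exists_prime_orderOf_dvd_card' (G := ↥W) 3 hd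
    rw [Subgroup.orderOf_mk] at hao
    obtain ⟨c, ho, -, hcM, -⟩ := S.exists_c0
    obtain ⟨g, hg | hg⟩ := S.three_classes ho hcM hao
    · have := key (g * a * g⁻¹) a (IsConj.symm (isConj_iff.mpr ⟨g, rfl⟩)) (mem_cent.mp ha)
      rw [cent_sub (((orderOf_conj' g a).trans hao).trans ho.symm) (ho.symm ▸ Nat.prime_three) hg,
        (S.card_cent_three ho hcM).1] at this
      omega
    · have := key (g * a * g⁻¹) a (IsConj.symm (isConj_iff.mpr ⟨g, rfl⟩)) (mem_cent.mp ha)
      rw [cent_sub (((orderOf_conj' g a).trans hao).trans D.hd.symm) (D.hd.symm ▸ Nat.prime_three) hg] at this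
      rcases S.card_cent_d with e' | e' <;> rw [e'] at this <;> omega
  have h5 : ¬ 5 ∣ Nat.card ↥W := fun hd => by
    haveI : Fact (Nat.Prime 5) := ⟨by norm_num⟩
    obtain ⟨⟨a, ha⟩, hao⟩ := exists_prime_orderOf_dvd_card' (G := ↥W) 5 hd
    rw [Subgroup.orderOf_mk] at hao
    obtain ⟨fA, fB, hfz, hoA, hfM, hoB, h10, -, hall⟩ := S.exists_five_data
    obtain ⟨g, hg | hg⟩ := hall a hao
    · have := key (g * a * g⁻¹) a (IsConj.symm (isConj_iff.mpr ⟨g, rfl⟩)) (mem_cent.mp ha)
      rw [cent_sub (((orderOf_conj' g a).trans hao).trans hoA.symm) (hoA.symm ▸ (by norm_num)) hg] at this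
      exact S.cent_fA_free hfz hoA h10 (by norm_num) (by norm_num) (by norm_num) this
    · have := key (g * a * g⁻¹) a (IsConj.symm (isConj_iff.mpr ⟨g, rfl⟩)) (mem_cent.mp ha)
      rw [cent_sub (((orderOf_conj' g a).trans hao).trans hoB.symm) (hoB.symm ▸ (by norm_num)) hg,
        (S.card_cent_five hfM hoB).1] at this
      omega
  have hdG := Subgroup.card_subgroup_dvd_card W
  rw [S.card_G] at hdG
  have hcop : (Nat.card ↥W).Coprime 86400 := by
    rw [show (86400 : ℕ) = 2 ^ 7 * (3 ^ 3 * 5 ^ 2) from rfl]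
    exact Nat.Coprime.mul_right (Nat.Coprime.pow_right 7 (Nat.prime_two.coprime_iff_not_dvd.2 h2).symm)
      (Nat.Coprime.mul_right (Nat.Coprime.pow_right 3 (Nat.prime_three.coprime_iff_not_dvd.2 h3).symm)
        (Nat.Coprime.pow_right 2 ((by norm_num : Nat.Prime 5).coprime_iff_not_dvd.2 h5).symm))
  exact Nat.dvd_antisymm (hcop.dvd_of_dvd_mul_left (show Nat.card ↥W ∣ 86400 * 7 from hdG)) h7

theorem seven_data (E : Sylow 7 G) : Subgroup.centralizer ((E : Subgroup G) : Set G) = E ∧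
    Nat.card ↥(Subgroup.normalizer (E : Set G)) = 42 := by
  haveI : Fact (Nat.Prime 7) := ⟨by norm_num⟩
  obtain ⟨⟨e, heE⟩, he⟩ := exists_prime_orderOf_dvd_card' (G := ↥(E : Subgroup G)) 7 (by rw [S.card_sylow_seven])
  rw [Subgroup.orderOf_mk] at he
  have hEz : Subgroup.zpowers e = (E : Subgroup G) :=
    Subgroup.eq_of_le_of_card_ge (Subgroup.zpowers_le.mpr heE) (by rw [S.card_sylow_seven, Nat.card_zpowers, he])
  have hCe : Subgroup.centralizer ({e} : Set G) = (E : Subgroup G) := by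
    rw [← hEz]
    exact (Subgroup.eq_of_le_of_card_ge (Subgroup.zpowers_le.mpr (mem_cent.mpr rfl))
      (by rw [S.card_cent_seven he, Nat.card_zpowers, he])).symm
  refine ⟨le_antisymm (fun a ha => hCe ▸ mem_cent.mpr (Subgroup.mem_centralizer_iff.mp ha e heE).symm) ?_, ?_⟩
  · intro a ha
    refine Subgroup.mem_centralizer_iff.mpr fun b hb => ?_
    rw [← hEz] at ha hb
    obtain ⟨i, rfl⟩ := Subgroup.mem_zpowers_iff.mp ha
    obtain ⟨j, rfl⟩ := Subgroup.mem_zpowers_iff.mp hb
    exact (Commute.refl e).zpow_zpow j i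
  set N := Subgroup.normalizer (E : Set G) with hN
  have hr := ncard_orb N e
  have hEN : (E : Subgroup G) ≤ N := Subgroup.le_normalizer
  rw [hCe, inf_eq_right.mpr hEN, S.card_sylow_seven] at hr
  have hsub : orb N e ⊆ ((E : Subgroup G) : Set G) \ {1} := by
    rintro _ ⟨n, hn, rfl⟩
    exact ⟨((Subgroup.mem_normalizer_iff.mp hn) e).mp heE,
      fun h1 => by rw [conj_eq_one_iff.mp h1, orderOf_one] at he; omega⟩
  have hle : (orb N e).ncard ≤ 6 := by
    refine (Set.ncard_le_ncard hsub (Set.toFinite _)).trans ?_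
    rw [Set.ncard_sdiff_singleton_of_mem (one_mem _), ← Nat.card_coe_set_eq]
    exact (congrArg (· - 1) (S.card_sylow_seven E)).le
  have hidx := Subgroup.card_mul_index N
  rw [S.card_G, ← hr] at hidx
  have hmod := card_sylow_modEq_one 7 G
  rw [E.card_eq_index_normalizer, ← hN] at hmod
  rw [← hr]
  unfold Nat.ModEq at hmod
  interval_cases hc : (orb N e).ncard <;> omega

end Sub

end CfsgLib.HallJankoType
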