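import Cfsg.Agent.Lib.HallJankoType.Classes
import Cfsg.Agent.Lib.InvolutionDihedralEight
import Cfsg.Agent.Lib.Perm.AutAltGen
import Cfsg.Agent.S0494

/-!
A group of order sixty with self-centralizing fused four group, and automorphisms of order three of the
alternating group of degree five.
-/

set_option autoImplicit false
set_option linter.unusedSectionVars false
set_option maxRecDepth 100000

namespace CfsgLib.HallJankoType

open Cfsg Equiv

universe u

theorem alt_five_cent_three :
    ∀ a b : alternatingGroup (Fin 5), a ^ 3 = 1 → a ≠ 1 → a * b = b * a → b = 1 ∨ b = a ∨ b = a * a := by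
  decide +kernel

theorem alt_five_three_cycle : ∀ σ : Perm (Fin 5), Perm.sign σ = 1 → σ ^ 3 = 1 → σ ≠ 1 →
    σ.support.card = 3 := by decide +kernel

/-- An automorphism of a copy of the alternating group whose cube is inner is inner. -/
theorem exists_inner {M : Type u} [Group M] (e : M ≃* alternatingGroup (Fin 5)) (α : MulAut M) (m₀ : M)
    (hα : ∀ y, (α ^ 3) y = m₀ * y * m₀⁻¹) : ∃ m : M, ∀ y : M, α y = m * y * m⁻¹ := by
  set φ : MulAut (alternatingGroup (Fin 5)) := MulAut.congr e α with hφ
  have hφ3 : φ ^ 3 = MulAut.conjNormal ((e m₀ : alternatingGroup (Fin 5)) : Perm (Fin 5)) := by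
    refine MulEquiv.ext fun w => Subtype.ext ?_
    rw [hφ, ← map_pow, MulAut.conjNormal_apply]
    have h1 : MulAut.congr e (α ^ 3) w = e ((α ^ 3) (e.symm w)) := rfl
    rw [h1, hα]
    simp
  obtain ⟨σ, hσ⟩ := CfsgLib.AutAltGen.exists_conjNormal 5 (by norm_num) φ fun a ha => by
    have h1 : a ^ 3 = 1 := by
      refine Subtype.ext ?_
      rw [Subgroup.coe_pow, ← ha.orderOf]
      exact pow_orderOf_eq_one _
    have h2 : a ≠ 1 := fun e' => by
      rw [e', OneMemClass.coe_one] at ha
      exact ha.ne_one rfl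
    refine card_support_eq_three_iff.mp (alt_five_three_cycle _ (Perm.mem_alternatingGroup.mp (φ a).2) ?_ ?_)
    · rw [← Subgroup.coe_pow, ← map_pow, h1, map_one]; rfl
    · intro e'
      exact h2 (φ.injective (by rw [map_one]; exact Subtype.ext e'))
  have hσ3 : σ ^ 3 = ((e m₀ : alternatingGroup (Fin 5)) : Perm (Fin 5)) := by
    refine CfsgLib.AutAltGen.conjNormal_injective 5 (by norm_num) ?_
    rw [map_pow, hσ, hφ3]
  have hσa : σ ∈ alternatingGroup (Fin 5) := by
    rw [Perm.mem_alternatingGroup]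
    have h := congrArg Perm.sign hσ3
    rw [map_pow, Perm.mem_alternatingGroup.mp (e m₀).2] at h
    rcases Int.units_eq_one_or (Perm.sign σ) with e' | e'
    · exact e'
    · rw [e'] at h; exact absurd h (by decide)
  refine ⟨e.symm ⟨σ, hσa⟩, fun y => e.injective ?_⟩
  have h1 : φ (e y) = e (α y) := by simp [hφ, MulAut.congr]
  rw [map_mul, map_mul, map_inv, e.apply_symm_apply, ← h1, ← hσ]
  exact Subtype.ext (by rw [MulAut.conjNormal_apply]; rfl)

variable {M : Type u} [Group M] [Finite M]

/-- A group of order sixty with a four group that is the centralizer of each of its involutions. -/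
theorem iso_five_of_four (hM : Nat.card M = 60) (U : Subgroup M) (a b : M) (hU : ∀ u, u ∈ U ↔ u = 1 ∨ u = a ∨ u = b ∨ u = a * b)
    (haa : a * a = 1) (hbb : b * b = 1) (ha1 : a ≠ 1) (hb1 : b ≠ 1) (hab : a ≠ b)
    (hcent : ∀ u ∈ U, u ≠ 1 → ∀ m, m * u = u * m → m ∈ U)
    (hconj : ∀ y : M, orderOf y = 2 → IsConj a y) : Nonempty (M ≃* alternatingGroup (Fin 5)) := by
  classical
  have haU : a ∈ U := (hU a).mpr (Or.inr (Or.inl rfl))
  have hbU : b ∈ U := (hU b).mpr (Or.inr (Or.inr (Or.inl rfl)))
  have habU : a * b ∈ U := U.mul_mem haU hbU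
  have hab1 : a * b ≠ 1 := fun e => hab (by rw [eq_inv_of_mul_eq_one_left e, inv_eq_of_mul_eq_one_right hbb])
  have hU4 : Nat.card U = 4 := by
    have hs : (U : Set M) = {1, a, b, a * b} := by ext u; exact hU u
    rw [show Nat.card U = (U : Set M).ncard from Nat.card_coe_set_eq _, hs, Set.ncard_insert_of_notMem,
      Set.ncard_insert_of_notMem, Set.ncard_pair]
    · exact fun e => ha1 (mul_eq_right.mp e.symm)
    · rintro (e | e)
      exacts [hab e, hb1 (mul_eq_left.mp e.symm)]
    · rintro (e | e | e)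
      exacts [ha1 e.symm, hb1 e.symm, hab1 e.symm]
  have hsq : ∀ u ∈ U, u * u = 1 := by
    intro u hu
    have hc : a * b = b * a := by
      haveI : Fact (Nat.Prime 2) := ⟨Nat.prime_two⟩
      exact congrArg Subtype.val ((IsPGroup.isMulCommutative_of_card_eq_prime_sq (p := 2)
        (show Nat.card U = 2 ^ 2 from hU4)).is_comm.comm ⟨a, haU⟩ ⟨b, hbU⟩)
    rcases (hU u).mp hu with rfl | rfl | rfl | rfl
    · simp
    · exact haa
    · exact hbb
    · rw [show a * b * (a * b) = a * (b * a) * b by group, ← hc, show a * (a * b) * b = a * a * (b * b) by group,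
        haa, hbb, mul_one]
  have hodd : ∀ N : Subgroup M, N.Normal → Odd (Nat.card N) → N = ⊥ := by
    intro N hN ho
    rw [Subgroup.eq_bot_iff_forall]
    intro n hn
    by_contra hn1
    have h2n : ∀ u ∈ U, u ∈ N → u = 1 := by
      intro u hu huN
      by_contra hu1
      have := Subgroup.orderOf_dvd_natCard N huN
      rw [orderOf_two_of (hsq u hu) hu1] at this
      exact Nat.not_even_iff_odd.mpr ho (even_iff_two_dvd.mpr this)
    have hinv : ∀ u ∈ U, u ≠ 1 → ∀ o ∈ N, u * o * u⁻¹ = o⁻¹ := fun u hu hu1 =>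
      CfsgLib.InvolutionDihedralEight.inverts_of_fpf (hsq u hu) (fun o ho' => hN.conj_mem o ho' u)
        fun o ho' he => h2n o (hcent u hu hu1 o (mul_inv_eq_iff_eq_mul.mp he).symm) ho'
    have e1 := hinv a haU ha1 _ (inv_mem hn)
    have e2 := hinv b hbU hb1 n hn
    have e3 := hinv (a * b) habU hab1 n hn
    rw [show a * b * n * (a * b)⁻¹ = a * (b * n * b⁻¹) * a⁻¹ by group, e2, e1, inv_inv] at e3
    have hn2 : n * n = 1 := by nth_rewrite 2 [e3]; rw [mul_inv_cancel]
    have := Subgroup.orderOf_dvd_natCard N hn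
    rw [orderOf_two_of hn2 hn1] at this
    exact Nat.not_even_iff_odd.mpr ho (even_iff_two_dvd.mpr this)
  haveI : Nontrivial M := ⟨⟨a, 1, ha1⟩⟩
  haveI : IsSimpleGroup M := by
    refine ⟨fun N hN => ?_⟩
    by_cases ho : Odd (Nat.card N)
    · exact Or.inl (hodd N hN ho)
    right
    haveI : Fact (Nat.Prime 2) := ⟨Nat.prime_two⟩
    obtain ⟨⟨y, hyN⟩, hy⟩ := exists_prime_orderOf_dvd_card' (G := N) 2
      (even_iff_two_dvd.mp (Nat.not_odd_iff_even.mp ho))
    rw [Subgroup.orderOf_mk] at hy
    obtain ⟨g, hg⟩ := isConj_iff.mp (hconj y hy)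
    have haN : a ∈ N := by
      have h := hN.conj_mem y hyN g⁻¹
      rwa [← hg, show g⁻¹ * (g * a * g⁻¹) * g⁻¹⁻¹ = a by group] at h
    have hall : ∀ w : M, orderOf w = 2 → w ∈ N := fun w hw => by
      obtain ⟨k, rfl⟩ := isConj_iff.mp (hconj w hw)
      exact hN.conj_mem a haN k
    have hUN : U ≤ N := fun u hu => by
      by_cases hu1 : u = 1
      · rw [hu1]; exact one_mem _
      · exact hall u (orderOf_two_of (hsq u hu) hu1)
    -- the fifteen involutions
    have hcentA : Subgroup.centralizer ({a} : Set M) = U := by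
      refine le_antisymm (fun m hm => hcent a haU ha1 m (mem_cent.mp hm)) fun u hu => mem_cent.mpr ?_
      have := hsq _ (U.mul_mem hu haU)
      have e := inv_eq_of_mul_eq_one_right this
      rw [mul_inv_rev, inv_eq_of_mul_eq_one_right haa, inv_eq_of_mul_eq_one_right (hsq u hu)] at e
      exact e.symm
    have horb := ncard_orb (⊤ : Subgroup M) a
    rw [top_inf_eq, hcentA, hU4, Subgroup.card_top, hM] at horb
    have hsub : insert 1 (orb (⊤ : Subgroup M) a) ⊆ (N : Set M) := by
      rintro w (rfl | ⟨k, -, rfl⟩)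
      exacts [one_mem N, hN.conj_mem a haN k]
    have hcnt := Set.ncard_le_ncard hsub (Set.toFinite _)
    rw [Set.ncard_insert_of_notMem (fun h => by obtain ⟨k, -, e⟩ := h; exact ha1 (conj_eq_one_iff.mp e)),
      ← Nat.card_coe_set_eq (N : Set M)] at hcnt
    have h15 : (orb (⊤ : Subgroup M) a).ncard = 15 := by omega
    rw [h15, SetLike.coe_sort_coe] at hcnt
    have hdvd : Nat.card N ∣ 60 := hM ▸ Subgroup.card_subgroup_dvd_card N
    have h4 : 4 ∣ Nat.card N := hU4 ▸ Subgroup.card_dvd_of_le hUN
    have hcase : Nat.card N = 20 ∨ Nat.card N = 60 := by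
      have : ∀ m ∈ Nat.divisors 60, 4 ∣ m → 16 ≤ m → m = 20 ∨ m = 60 := by decide +kernel
      exact this _ (Nat.mem_divisors.mpr ⟨hdvd, by norm_num⟩) h4 (by omega)
    rcases hcase with h20 | h60
    · exfalso
      haveI : Fact (Nat.Prime 5) := ⟨by norm_num⟩
      obtain ⟨P⟩ : Nonempty (Sylow 5 N) := inferInstance
      have hP5 : Nat.card P = 5 ^ 1 :=
        CfsgLib.SmallOrder.card_sylow_eq P (by rw [h20]; norm_num) (by rw [h20]; norm_num)
      have hn := CfsgLib.SmallOrder.card_sylow_mem_filter P (n := 4) hP5 (by rw [h20]; norm_num) (by norm_num)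
      rw [show (Nat.divisors 4).filter (fun m => m % 5 = 1) = {1} by decide +kernel, Finset.mem_singleton] at hn
      haveI : Subsingleton (Sylow 5 N) := (Nat.card_eq_one_iff_unique.mp hn).1
      haveI := Sylow.characteristic_of_subsingleton P
      haveI : ((P : Subgroup N).map N.subtype).Normal := inferInstance
      have h := hodd ((P : Subgroup N).map N.subtype) inferInstance
        (by rw [Subgroup.card_map_of_injective N.subtype_injective, hP5]; decide)
      have := congrArg (fun H : Subgroup M => Nat.card H) h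
      simp only [Subgroup.card_bot] at this
      rw [Subgroup.card_map_of_injective N.subtype_injective, hP5] at this
      norm_num at this
    · exact Subgroup.eq_top_of_card_eq N (h60.trans hM.symm)
  exact Cfsg.Agent.S0494.result hM

end CfsgLib.HallJankoType
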