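import Cfsg.Agent.Lib.HallJankoType.Order
import Cfsg.Agent.Lib.HallJankoType.Simple60

/-!
Groups of Hall–Janko type: `C(t)` is the product of a four group and an alternating group of degree five.
-/

set_option autoImplicit false
set_option linter.unusedSectionVars false

namespace CfsgLib.HallJankoType

open Cfsg CfsgLargeExtra Equiv

universe u

variable {G : Type u} [Group G] [Finite G] {z x t t' d : G} {Q Q' : Subgroup G} {pm pm' : G → Perm (Fin 5)}
variable {M : Subgroup G}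

/-- The normal subgroup of index four of `C(t)`. -/
structure Sub (D : Cyc z x t t' d Q Q' pm pm') (M : Subgroup G) : Prop where
  nor : ∀ g, g * t = t * g → ∀ m ∈ M, g * m * g⁻¹ ∈ M
  Mt : ∀ m ∈ M, m * t = t * m
  ME : ∀ a, a ∈ M ∧ a ∈ D.K.E ↔ a ∈ D.K.P.U
  dM : d ∈ M
  cardC : Nat.card ↥(Subgroup.centralizer ({t} : Set G)) = 4 * Nat.card ↥M
  prod : ∀ g, g * t = t * g → ∃ m ∈ M, ∃ e ∈ D.K.E, g = m * e

theorem Cyc.exists_sub (D : Cyc z x t t' d Q Q' pm pm') : ∃ M : Subgroup G, Sub D M := by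
  obtain ⟨M, h1, h2, h3, h4, h5, h6⟩ := D.exists_M
  exact ⟨M, h1, h2, h3, h4, h5, h6⟩

theorem Cyc.I_fifteen (D : Cyc z x t t' d Q Q' pm pm') : D.I.ncard = 15 := D.ncard_I.resolve_left D.not_three

namespace Sub

variable {D : Cyc z x t t' d Q Q' pm pm'} (S : Sub D M)
include S

theorem card_M : Nat.card ↥M = 60 := by
  have h1 := D.card_Ct
  rw [D.I_fifteen, S.cardC] at h1
  omega

theorem card_C : Nat.card ↥(Subgroup.centralizer ({t} : Set G)) = 240 := by rw [D.card_Ct, D.I_fifteen]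

theorem U_le : D.K.P.U ≤ M := fun u hu => ((S.ME u).mpr hu).1

theorem fix {u m : G} (hu : u ∈ D.K.P.U) (hu1 : u ≠ 1) (hm : m ∈ M) (hc : m * u = u * m) : m ∈ D.K.P.U :=
  (S.ME m).mp ⟨hm, D.fix_U (S.Mt m hm) hu hu1 hc⟩

theorem I_mem {y : G} (hy : y ∈ D.I) : y ∈ M := by
  rw [← D.orb_I] at hy
  obtain ⟨k, hk, rfl⟩ := hy
  exact S.nor k (mem_cent.mp hk) z (S.U_le D.K.P.zU)

theorem inv_mem_I {y : G} (hy : y ∈ M) (hy2 : y * y = 1) (hy1 : y ≠ 1) : y ∈ D.I := by
  obtain ⟨g, hgt, hgE⟩ := D.exists_conj_E (S.Mt y hy) hy2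
  have hU := (S.ME _).mp ⟨S.nor g hgt _ hy, hgE⟩
  exact ⟨S.Mt y hy, (D.K.conj_U hU fun e => hy1 (conj_eq_one_iff.mp e)).trans (isConj_iff.mpr ⟨g, rfl⟩).symm⟩

theorem M_conj {y : G} (hy : y ∈ D.I) : ∃ m ∈ M, m * z * m⁻¹ = y := by
  rw [← D.orb_I] at hy
  obtain ⟨k, hk, e⟩ := hy
  obtain ⟨m, hm, e', he', rfl⟩ := S.prod k (mem_cent.mp hk)
  refine ⟨m, hm, ?_⟩
  rw [← e, show m * e' * z * (m * e')⁻¹ = m * (e' * z * e'⁻¹) * m⁻¹ by group,
    conj_fix_iff.mpr (D.K.mem_E.mp he').1]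

theorem exists_iso : Nonempty (↥M ≃* alternatingGroup (Fin 5)) := by
  refine iso_five_of_four S.card_M (D.K.P.U.subgroupOf M) ⟨z, S.U_le D.K.P.zU⟩ ⟨x, S.U_le D.K.P.xU⟩ ?_
    (Subtype.ext D.K.P.h.zz) (Subtype.ext D.K.P.xx) (fun e => D.K.P.h.es.ne (congrArg Subtype.val e))
    (fun e => D.K.P.x1 (congrArg Subtype.val e)) (fun e => D.K.P.ne (congrArg Subtype.val e).symm) ?_ ?_
  · intro u
    simp only [Subgroup.mem_subgroupOf, D.K.P.mem_U, Subtype.ext_iff, OneMemClass.coe_one, Subgroup.coe_mul]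
  · intro u hu hu1 m hc
    exact S.fix hu (fun e => hu1 (Subtype.ext e)) m.2 (congrArg Subtype.val hc)
  · intro y hy
    have hyy : (y : G) * y = 1 := by
      have := pow_orderOf_eq_one y
      rw [hy, pow_two] at this
      exact congrArg Subtype.val this
    have hy1 : (y : G) ≠ 1 := fun e => by
      rw [show y = 1 from Subtype.ext e, orderOf_one] at hy; omega
    obtain ⟨m, hm, e⟩ := S.M_conj (S.inv_mem_I y.2 hyy hy1)
    exact isConj_iff.mpr ⟨⟨m, hm⟩, Subtype.ext e⟩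

omit S in
/-- The fixed points of `d` on `E`. -/
def F (D : Cyc z x t t' d Q Q' pm pm') : Subgroup G := D.K.E ⊓ Subgroup.centralizer ({d} : Set G)

theorem t_mem_F : t ∈ F D := ⟨D.K.t_mem_E, mem_cent.mpr D.dt.symm⟩

theorem F_inter {f : G} (hf : f ∈ F D) (hfM : f ∈ M) : f = 1 := by
  have hU := (S.ME f).mp ⟨hfM, hf.1⟩
  have hd := mem_cent.mp hf.2
  rcases hU with e | e | e | e
  · exact e
  all_goals exfalso; have h := conj_fix_iff.mpr hd.symm; rw [e] at h
  · exact D.K.P.ne (D.dz.symm.trans h)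
  · exact D.K.P.zx_ne_x (D.dx.symm.trans h)
  · exact D.K.P.zx_ne_z ((D.dzx.symm.trans h).symm)

theorem card_F : Nat.card ↥(F D) = 4 := by
  let φ : ↥D.K.E →* G := MonoidHom.mk' (fun e => (e : G) * (d * (e : G) * d⁻¹)) fun a b => by
    show (a : G) * b * (d * ((a : G) * b) * d⁻¹) = (a : G) * (d * a * d⁻¹) * ((b : G) * (d * b * d⁻¹))
    calc (a : G) * b * (d * ((a : G) * b) * d⁻¹) = (a : G) * ((b : G) * (d * a * d⁻¹)) * (d * b * d⁻¹) := by group
      _ = (a : G) * (d * a * d⁻¹ * b) * (d * b * d⁻¹) := by rw [D.K.E_comm b.2 (D.d_mem a.2)]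
      _ = (a : G) * (d * a * d⁻¹) * ((b : G) * (d * b * d⁻¹)) := by group
  have hr : φ.range = D.K.P.U := by
    refine le_antisymm ?_ ?_
    · rintro _ ⟨e, rfl⟩
      exact D.comm_d e.2
    · have h1 : z * x ∈ φ.range := ⟨⟨z, D.K.U_le_E D.K.P.zU⟩, by
        show z * (d * z * d⁻¹) = z * x
        rw [D.dz]⟩
      have h2 : z ∈ φ.range := ⟨⟨x, D.K.U_le_E D.K.P.xU⟩, by
        show x * (d * x * d⁻¹) = z
        rw [D.dx, D.K.P.zx, ← mul_assoc, D.K.P.xx, one_mul]⟩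
      rintro u (rfl | rfl | rfl | rfl)
      · exact one_mem _
      · exact h2
      · have h3 : z * (z * u) ∈ φ.range := mul_mem h2 h1
        rwa [← mul_assoc, D.K.P.h.zz, one_mul] at h3
      · exact h1
  have hk : Nat.card φ.ker = Nat.card ↥(F D) := by
    refine Nat.card_congr
      { toFun := fun e => ⟨(e.1 : G), e.1.2, mem_cent.mpr ?_⟩
        invFun := fun f => ⟨⟨f.1, f.2.1⟩, ?_⟩
        left_inv := fun e => rfl
        right_inv := fun f => rfl }
    · have h := e.2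
      have e1 : d * (e.1 : G) * d⁻¹ = (e.1 : G) :=
        (eq_inv_of_mul_eq_one_right h).trans (D.K.E_inv e.1.2)
      exact (conj_fix_iff.mp e1).symm
    · show (f.1 : G) * (d * f.1 * d⁻¹) = 1
      rw [conj_fix_iff.mpr (mem_cent.mp f.2.2).symm, D.K.E_sq f.2.1]
  have := Subgroup.card_mul_index φ.ker
  rw [Subgroup.index_ker, hr, D.K.P.card_U, hk, D.K.card_E] at this
  omega

omit S in
/-- The elements of `M` normalising the four group. -/
def N (D : Cyc z x t t' d Q Q' pm pm') (M : Subgroup G) : Subgroup G := M ⊓ Subgroup.normalizer (D.K.P.U : Set G)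

theorem mem_N_of {m : G} (hm : m ∈ M) (h : ∀ u ∈ D.K.P.U, m * u * m⁻¹ ∈ D.K.P.U) : m ∈ N D M :=
  ⟨hm, mem_normalizer_of_le h⟩

theorem U_le_N : D.K.P.U ≤ N D M := fun u hu =>
  ⟨S.U_le hu, Subgroup.le_normalizer hu⟩

theorem d_mem_N : d ∈ N D M := S.mem_N_of S.dM fun _ => D.d_U

theorem card_N : Nat.card ↥(N D M) = 12 := by
  have e := ncard_orb (N D M) z
  have ho : orb (N D M) z = {z, x, z * x} := by
    ext w
    constructor
    · rintro ⟨n, hn, rfl⟩
      rcases ((Subgroup.mem_normalizer_iff.mp hn.2) z).mp D.K.P.zU with e | e | e | e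
      · exact absurd (conj_eq_one_iff.mp e) D.K.P.h.es.ne
      · exact Or.inl e
      · exact Or.inr (Or.inl e)
      · exact Or.inr (Or.inr e)
    · rintro (rfl | rfl | rfl)
      · exact ⟨1, one_mem _, by simp⟩
      · exact ⟨d, S.d_mem_N, D.dz⟩
      · exact ⟨d * d, mul_mem S.d_mem_N S.d_mem_N, D.ddz⟩
  have hs : N D M ⊓ Subgroup.centralizer ({z} : Set G) = D.K.P.U := by
    refine le_antisymm (fun a ha => S.fix D.K.P.zU D.K.P.h.es.ne ha.1.1 (mem_cent.mp ha.2)) fun u hu =>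
      ⟨S.U_le_N hu, mem_cent.mpr (D.K.P.h.es.comm u (D.K.P.U_mem hu).1)⟩
  rw [ho, hs, D.K.P.card_U,
    Set.ncard_eq_three.mpr ⟨z, x, z * x, D.K.P.ne.symm, D.K.P.zx_ne_z.symm, D.K.P.zx_ne_x.symm, rfl⟩] at e
  omega

theorem F_comm_N {f n : G} (hf : f ∈ F D) (hn : n ∈ N D M) : f * n = n * f := by
  have hfd : Commute f d := (mem_cent.mp hf.2 : f * d = d * f)
  have hfu : ∀ w ∈ D.K.E, Commute f w := fun w hw => D.K.E_comm hf.1 hw
  have hnU := ((Subgroup.mem_normalizer_iff.mp hn.2) z).mp D.K.P.zU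
  show Commute f n
  rcases D.norm_cases (S.Mt n hn.1) hnU with h | h | h
  · exact hfu n h
  · rw [show n = d * (d⁻¹ * n) by group]
    exact Commute.mul_right hfd (hfu _ h)
  · rw [show n = d * d * ((d * d)⁻¹ * n) by simp [mul_assoc]]
    exact Commute.mul_right (Commute.mul_right hfd hfd) (hfu _ h)

theorem N_elements {a : G} (ha : a ∈ N D M) : a ∈ D.K.P.U ∨ a ^ 3 = 1 := by
  haveI : ((D.K.P.U).subgroupOf (N D M)).Normal :=
    ⟨fun u hu g => ((Subgroup.mem_normalizer_iff.mp g.2.2) _).mp hu⟩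
  have hidx : ((D.K.P.U).subgroupOf (N D M)).index = 3 := by
    have := Subgroup.card_mul_index ((D.K.P.U).subgroupOf (N D M))
    rw [Nat.card_congr (Subgroup.subgroupOfEquivOfLe S.U_le_N).toEquiv, D.K.P.card_U, S.card_N] at this
    omega
  have h3 : a ^ 3 ∈ D.K.P.U := by
    have := Subgroup.pow_index_mem ((D.K.P.U).subgroupOf (N D M)) ⟨a, ha⟩
    rw [hidx] at this
    exact this
  by_cases h1 : a ^ 3 = 1
  · exact Or.inr h1
  · exact Or.inl (S.fix h3 h1 ha.1 (Commute.self_pow a 3).eq)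

theorem F_central {f m : G} (hf : f ∈ F D) (hm : m ∈ M) : f * m = m * f := by
  classical
  by_cases hmN : m ∈ N D M
  · exact S.F_comm_N hf hmN
  obtain ⟨a, ha, hna, ha1⟩ : ∃ a, a ∈ N D M ∧ m⁻¹ * a * m ∈ N D M ∧ a ≠ 1 := by
    by_contra hno
    push Not at hno
    have hinj : Function.Injective (fun p : ↥(N D M) × ↥(N D M) =>
        (⟨(p.1 : G) * m * p.2, mul_mem (mul_mem p.1.2.1 hm) p.2.2.1⟩ : ↥M)) := by
      rintro ⟨a₁, b₁⟩ ⟨a₂, b₂⟩ e
      have e' : (a₁ : G) * m * b₁ = (a₂ : G) * m * b₂ := congrArg Subtype.val e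
      have key : ((a₂ : G)⁻¹ * a₁) = m * ((b₂ : G) * (b₁ : G)⁻¹) * m⁻¹ := by
        calc ((a₂ : G)⁻¹ * a₁) = (a₂ : G)⁻¹ * ((a₁ : G) * m * b₁) * (b₁ : G)⁻¹ * m⁻¹ := by group
          _ = (a₂ : G)⁻¹ * ((a₂ : G) * m * b₂) * (b₁ : G)⁻¹ * m⁻¹ := by rw [e']
          _ = m * ((b₂ : G) * (b₁ : G)⁻¹) * m⁻¹ := by group
      have h1 : (a₂ : G)⁻¹ * a₁ = 1 := by
        refine hno _ (mul_mem (inv_mem a₂.2) a₁.2) ?_
        rw [key, show m⁻¹ * (m * ((b₂ : G) * (b₁ : G)⁻¹) * m⁻¹) * m = (b₂ : G) * (b₁ : G)⁻¹ by group]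
        exact mul_mem b₂.2 (inv_mem b₁.2)
      have h2 : a₁ = a₂ := Subtype.ext (inv_mul_eq_one.mp h1).symm
      subst h2
      exact Prod.ext rfl (Subtype.ext (mul_left_cancel e'))
    have := Nat.card_le_card_of_injective _ hinj
    rw [Nat.card_prod, S.card_N, S.card_M] at this
    omega
  have ha3 : a ^ 3 = 1 := by
    rcases S.N_elements ha with hU | h
    swap
    · exact h
    exfalso
    rcases S.N_elements hna with hnU | h
    · -- both in the four group, so `m` normalises it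
      refine hmN (S.mem_N_of hm fun u hu => ?_)
      refine S.fix hU ha1 (mul_mem (mul_mem hm (S.U_le hu)) (inv_mem hm)) ?_
      have hc : u * (m⁻¹ * a * m) = m⁻¹ * a * m * u := D.K.E_comm (D.K.U_le_E hu) (D.K.U_le_E hnU)
      have := (conj_comm_iff m u (m⁻¹ * a * m)).mpr hc
      rwa [show m * (m⁻¹ * a * m) * m⁻¹ = a by group] at this
    · have h' : a ^ 3 = 1 := by
        rw [show m⁻¹ * a * m = m⁻¹ * a * m⁻¹⁻¹ by group, ← MulAut.conj_apply, ← map_pow] at h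
        exact (MulEquiv.map_eq_one_iff _).mp h
      rw [pow_succ, pow_two, (D.K.P.U_mem hU).2.2, one_mul] at h'
      exact ha1 h'
  have hft : f * t = t * f := (D.K.mem_E.mp hf.1).2
  have hfi := D.K.E_inv hf.1
  set r := f * m * f⁻¹ * m⁻¹ with hr
  have hrM : r ∈ M := mul_mem (S.nor f hft m hm) (inv_mem hm)
  have hfa : Commute f a := S.F_comm_N hf ha
  have hf'a : Commute (m * f * m⁻¹) a := by
    have := (conj_comm_iff m f (m⁻¹ * a * m)).mpr (S.F_comm_N hf hna)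
    rwa [show m * (m⁻¹ * a * m) * m⁻¹ = a by group] at this
  have hr' : r = f * (m * f * m⁻¹) := by rw [hr]; nth_rewrite 2 [← hfi]; simp [mul_assoc]
  have hra : r * a = a * r := by rw [hr']; exact Commute.mul_left hfa hf'a
  obtain ⟨e⟩ := S.exists_iso
  have hfr : f * r = r * f := by
    rcases alt_five_cent_three (e ⟨a, ha.1⟩) (e ⟨r, hrM⟩)
        (by rw [← map_pow, show (⟨a, ha.1⟩ : ↥M) ^ 3 = 1 from Subtype.ext ha3, map_one])
        (fun e' => ha1 (congrArg Subtype.val (e.injective (e'.trans e.map_one.symm))))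
        (by rw [← map_mul, ← map_mul]; exact congrArg e (Subtype.ext hra.symm)) with e' | e' | e'
    · rw [show r = 1 from congrArg Subtype.val (e.injective (e'.trans e.map_one.symm))]; simp
    · rw [show r = a from congrArg Subtype.val (e.injective e')]; exact hfa
    · rw [← map_mul] at e'
      rw [show r = a * a from congrArg Subtype.val (e.injective e')]; exact Commute.mul_right hfa hfa
  have hr2 : r * r = 1 := by
    have h1 : f * r * f⁻¹ = r⁻¹ := by
      rw [hr, mul_inv_rev, mul_inv_rev, mul_inv_rev, inv_inv, inv_inv, hfi]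
      calc f * (f * m * f * m⁻¹) * f = f * f * (m * (f * (m⁻¹ * f))) := by group
        _ = _ := by rw [D.K.E_sq hf.1, one_mul]
    rw [conj_fix_iff.mpr hfr] at h1
    nth_rewrite 1 [h1]
    rw [inv_mul_cancel]
  have hr1 : r = 1 := by
    by_contra hne
    obtain ⟨k, hk, hkz⟩ := S.M_conj (S.inv_mem_I hrM hr2 hne)
    have h1 : k⁻¹ * a * k ∈ D.K.P.U := by
      refine S.fix D.K.P.zU D.K.P.h.es.ne (mul_mem (mul_mem (inv_mem hk) ha.1) hk) ?_
      have := (conj_comm_iff k⁻¹ a r).mpr hra.symm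
      rw [inv_inv, conj_back hkz] at this
      exact this
    have h2 := (D.K.P.U_mem h1).2.2
    rw [show k⁻¹ * a * k * (k⁻¹ * a * k) = k⁻¹ * (a * a) * k by group] at h2
    have h3 : a * a = 1 := by
      calc a * a = k * (k⁻¹ * (a * a) * k) * k⁻¹ := by group
        _ = 1 := by rw [h2]; group
    rw [pow_succ, pow_two, h3, one_mul] at ha3
    exact ha1 ha3
  rw [hr] at hr1
  exact (conj_fix_iff.mp ((mul_inv_eq_one).mp hr1))

theorem F_le : F D ≤ Subgroup.centralizer ({t} : Set G) := fun f hf => mem_cent.mpr (D.K.mem_E.mp hf.1).2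

theorem M_le : M ≤ Subgroup.centralizer ({t} : Set G) := fun m hm => mem_cent.mpr (S.Mt m hm)

theorem FM_unique {f f' m m' : G} (hf : f ∈ F D) (hf' : f' ∈ F D) (hm : m ∈ M) (hm' : m' ∈ M)
    (e : f * m = f' * m') : f = f' ∧ m = m' := by
  have h : f'⁻¹ * f = m' * m⁻¹ := by
    calc f'⁻¹ * f = f'⁻¹ * (f * m) * m⁻¹ := by group
      _ = f'⁻¹ * (f' * m') * m⁻¹ := by rw [e]
      _ = m' * m⁻¹ := by group
  have h1 := S.F_inter (mul_mem (inv_mem hf') hf) (h ▸ mul_mem hm' (inv_mem hm))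
  have hff := (inv_mul_eq_one.mp h1).symm
  subst hff
  exact ⟨rfl, mul_left_cancel e⟩

/-- `C(t)` is the direct product of `F` and `M`. -/
theorem exists_prodEquiv : ∃ ψ : ↥(F D) × ↥M ≃* ↥(Subgroup.centralizer ({t} : Set G)),
    ∀ p, ((ψ p : ↥(Subgroup.centralizer ({t} : Set G))) : G) = (p.1 : G) * p.2 := by
  let φ : ↥(F D) × ↥M →* ↥(Subgroup.centralizer ({t} : Set G)) :=
    MonoidHom.mk' (fun p => ⟨(p.1 : G) * p.2, mul_mem (S.F_le p.1.2) (S.M_le p.2.2)⟩) fun p q => by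
      apply Subtype.ext
      show (p.1 : G) * q.1 * ((p.2 : G) * q.2) = (p.1 : G) * p.2 * ((q.1 : G) * q.2)
      calc (p.1 : G) * q.1 * ((p.2 : G) * q.2) = (p.1 : G) * ((q.1 : G) * p.2) * q.2 := by group
        _ = (p.1 : G) * ((p.2 : G) * q.1) * q.2 := by rw [S.F_central q.1.2 p.2.2]
        _ = (p.1 : G) * p.2 * ((q.1 : G) * q.2) := by group
  have hinj : Function.Injective φ := by
    rintro ⟨f, m⟩ ⟨f', m'⟩ e
    obtain ⟨h1, h2⟩ := S.FM_unique f.2 f'.2 m.2 m'.2 (congrArg Subtype.val e)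
    exact Prod.ext (Subtype.ext h1) (Subtype.ext h2)
  refine ⟨MulEquiv.ofBijective φ ((Nat.bijective_iff_injective_and_card _).mpr ⟨hinj, ?_⟩), fun p => rfl⟩
  rw [Nat.card_prod, S.card_F, S.card_M, S.card_C]

theorem exists_FM {g : G} (hg : g * t = t * g) : ∃ f ∈ F D, ∃ m ∈ M, g = f * m := by
  obtain ⟨ψ, hψ⟩ := S.exists_prodEquiv
  obtain ⟨p, hp⟩ := ψ.surjective ⟨g, mem_cent.mpr hg⟩
  exact ⟨p.1, p.1.2, p.2, p.2.2, by rw [← hψ p, hp]⟩

omit S in
/-- A four group is a product of two cyclic groups of order two. -/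
theorem four_equiv {H : Type u} [Group H] [Finite H] (h4 : Nat.card H = 4) (h2 : ∀ a : H, a * a = 1) :
    Nonempty (H ≃* Multiplicative (ZMod 2) × Multiplicative (ZMod 2)) := by
  haveI : IsKleinFour H := by
    refine ⟨h4, ?_⟩
    refine Nat.dvd_antisymm (Monoid.exponent_dvd_of_forall_pow_eq_one fun a => by rw [pow_two]; exact h2 a) ?_
    haveI : Nontrivial H := Finite.one_lt_card_iff_nontrivial.mp (by omega)
    obtain ⟨a, ha⟩ := exists_ne (1 : H)
    rw [← orderOf_two_of (h2 a) ha]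
    exact Monoid.order_dvd_exponent a
  haveI : IsKleinFour (Multiplicative (ZMod 2) × Multiplicative (ZMod 2)) := by
    refine ⟨by rw [Nat.card_eq_fintype_card]; rfl, ?_⟩
    refine Nat.dvd_antisymm (Monoid.exponent_dvd_of_forall_pow_eq_one (by decide)) ?_
    have : orderOf ((Multiplicative.ofAdd (1 : ZMod 2)), (1 : Multiplicative (ZMod 2))) = 2 :=
      orderOf_eq_prime (by decide) (by decide)
    calc 2 = orderOf ((Multiplicative.ofAdd (1 : ZMod 2)), (1 : Multiplicative (ZMod 2))) := this.symm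
      _ ∣ _ := Monoid.order_dvd_exponent _
  exact IsKleinFour.nonempty_mulEquiv

theorem ct_iso : Nonempty (↥(Subgroup.centralizer ({t} : Set G)) ≃*
    (Multiplicative (ZMod 2) × Multiplicative (ZMod 2)) × alternatingGroup (Fin 5)) := by
  obtain ⟨ψ, -⟩ := S.exists_prodEquiv
  obtain ⟨e⟩ := four_equiv S.card_F fun a => Subtype.ext (D.K.E_sq a.2.1)
  obtain ⟨e'⟩ := S.exists_iso
  exact ⟨ψ.symm.trans (MulEquiv.prodCongr e e')⟩

theorem M_no_center {m : G} (hm : m ∈ M) (h : ∀ y ∈ M, m * y = y * m) : m = 1 := by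
  have hU := S.fix D.K.P.zU D.K.P.h.es.ne hm (h z (S.U_le D.K.P.zU))
  rcases hU with e | e | e | e
  · exact e
  all_goals exfalso; have hd := conj_fix_iff.mpr (h d S.dM).symm; rw [e] at hd
  · exact D.K.P.ne (D.dz.symm.trans hd)
  · exact D.K.P.zx_ne_x (D.dx.symm.trans hd)
  · exact D.K.P.zx_ne_z ((D.dzx.symm.trans hd).symm)

theorem pCore_eq : (Cfsg.pCore 2 ↥(Subgroup.centralizer ({t} : Set G))).map
    (Subgroup.subtype (Subgroup.centralizer ({t} : Set G))) = F D := by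
  set C := Subgroup.centralizer ({t} : Set G) with hC
  haveI : Fact (Nat.Prime 2) := ⟨Nat.prime_two⟩
  refine le_antisymm ?_ ?_
  · rintro _ ⟨w, hw, rfl⟩
    obtain ⟨f, hf, m, hm, e⟩ := S.exists_FM (mem_cent.mp w.2)
    obtain ⟨ea⟩ := S.exists_iso
    set R := (Cfsg.pCore 2 ↥C).map C.subtype with hR
    have hnor : ∀ g ∈ C, ∀ r ∈ R, g * r * g⁻¹ ∈ R := by
      rintro g hg _ ⟨r, hr, rfl⟩
      exact ⟨⟨g, hg⟩ * r * ⟨g, hg⟩⁻¹, (inferInstance : (Cfsg.pCore 2 ↥C).Normal).conj_mem r hr _, rfl⟩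
    haveI : (R.subgroupOf M).Normal := ⟨fun r hr g => hnor _ (S.M_le g.2) _ hr⟩
    have hp : IsPGroup 2 ↥(R.subgroupOf M) :=
      (((CfsgLib.isPGroup_pCore (G := ↥C) 2).map C.subtype).comap_of_injective _ M.subtype_injective)
    haveI : IsSimpleGroup (alternatingGroup (Fin 5)) := alternatingGroup.isSimpleGroup_five
    haveI : Nontrivial ↥M := ⟨⟨⟨z, S.U_le D.K.P.zU⟩, 1, fun e' => D.K.P.h.es.ne (congrArg Subtype.val e')⟩⟩
    haveI : IsSimpleGroup ↥M := IsSimpleGroup.isSimpleGroup_of_surjective ea.symm.toMonoidHom ea.symm.surjective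
    have hbot : R.subgroupOf M = ⊥ := by
      rcases Subgroup.Normal.eq_bot_or_eq_top (inferInstance : (R.subgroupOf M).Normal) with h | h
      · exact h
      · exfalso
        obtain ⟨k, hk⟩ := IsPGroup.iff_card.mp hp
        rw [h, Subgroup.card_top, S.card_M] at hk
        have h3 : 3 ∣ 2 ^ k := hk ▸ (by norm_num)
        exact absurd (Nat.prime_three.dvd_of_dvd_pow h3) (by norm_num)
    -- the core commutes with `M`
    have hcm : ∀ y ∈ M, m * y = y * m := by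
      intro y hy
      have hwR : f * m ∈ R := ⟨w, hw, e⟩
      have hc : (f * m) * y * (f * m)⁻¹ * y⁻¹ ∈ (R.subgroupOf M).map M.subtype := by
        have h1 : (f * m) * y * (f * m)⁻¹ * y⁻¹ ∈ R := by
          rw [show (f * m) * y * (f * m)⁻¹ * y⁻¹ = (f * m) * (y * (f * m)⁻¹ * y⁻¹) by group]
          exact mul_mem hwR (hnor y (S.M_le hy) _ (inv_mem hwR))
        have h2 : (f * m) * y * (f * m)⁻¹ * y⁻¹ ∈ M :=
          mul_mem (S.nor _ (Commute.mul_left (mem_cent.mp (S.F_le hf)) (S.Mt m hm)) y hy) (inv_mem hy)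
        exact ⟨⟨_, h2⟩, h1, rfl⟩
      rw [hbot, Subgroup.map_bot, Subgroup.mem_bot, mul_inv_eq_one] at hc
      have hfy : f * (m * y * m⁻¹) * f⁻¹ = m * y * m⁻¹ :=
        conj_fix_iff.mpr (S.F_central hf (mul_mem (mul_mem hm hy) (inv_mem hm)))
      rw [show (f * m) * y * (f * m)⁻¹ = f * (m * y * m⁻¹) * f⁻¹ by group, hfy] at hc
      exact conj_fix_iff.mp hc
    show (w : G) ∈ F D
    rw [e, S.M_no_center hm hcm, mul_one]
    exact hf
  · intro f hf
    refine ⟨⟨f, S.F_le hf⟩, ?_, rfl⟩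
    haveI : ((F D).subgroupOf C).Normal := ⟨fun r hr g => by
      obtain ⟨f', hf', m, hm, e⟩ := S.exists_FM (mem_cent.mp g.2)
      show (g : G) * (r : G) * (g : G)⁻¹ ∈ F D
      rw [e, show f' * m * (r : G) * (f' * m)⁻¹ = f' * (m * (r : G) * m⁻¹) * f'⁻¹ by group,
        conj_fix_iff.mpr (show m * (r : G) = (r : G) * m from (S.F_central hr hm).symm)]
      exact mul_mem (mul_mem hf' hr) (inv_mem hf')⟩
    exact CfsgLib.le_pCore (IsPGroup.of_card (n := 2) (by
      rw [Nat.card_congr (Subgroup.subgroupOfEquivOfLe S.F_le).toEquiv, S.card_F]; rfl) :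
      IsPGroup 2 ↥((F D).subgroupOf C)) hf

end Sub

end CfsgLib.HallJankoType
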