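import Cfsg.Agent.Lib.HallJankoType.ThreeCent
import Cfsg.Agent.Lib.Fusion.EssentialSmall.Cube

/-!
Groups of Hall–Janko type: the Sylow three-subgroup and the two classes of elements of order three.
-/

set_option autoImplicit false
set_option linter.unusedSectionVars false
set_option maxRecDepth 100000

namespace CfsgLib.HallJankoType

open Cfsg CfsgLargeExtra Equiv
open scoped Pointwise

universe u

/-- The non-identity elements of a cyclic group. -/
def punct {G : Type u} [Group G] (a : G) : Set G := (Subgroup.zpowers a : Set G) \ {1}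

variable {G : Type u} [Group G] [Finite G]

theorem ncard_punct {a : G} {p : ℕ} (ha : orderOf a = p) : (punct a).ncard = p - 1 := by
  rw [punct, Set.ncard_sdiff_singleton_of_mem (one_mem _), ← Nat.card_coe_set_eq,
    show Nat.card ↥(Subgroup.zpowers a : Set G) = p from (Nat.card_zpowers a).trans ha]

theorem punct_disjoint {p : ℕ} [Fact p.Prime] {a b : G} (ha : orderOf a = p) (hb : orderOf b = p)
    (hab : b ∉ Subgroup.zpowers a) : Disjoint (punct a) (punct b) :=
  Set.disjoint_left.mpr fun v hva hvb => hab (by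
    rw [← (zpowers_eq_of_mem ha hva.1 hva.2).1, (zpowers_eq_of_mem hb hvb.1 hvb.2).1]
    exact Subgroup.mem_zpowers b)

variable {z x t t' d : G} {Q Q' : Subgroup G} {pm pm' : G → Perm (Fin 5)}
variable {M : Subgroup G}

namespace Sub

variable {D : Cyc z x t t' d Q Q' pm pm'} (S : Sub D M)
include S

theorem card_sylow_three (P : Sylow 3 G) : Nat.card ↥(P : Subgroup G) = 27 := by
  haveI : Fact (Nat.Prime 3) := ⟨Nat.prime_three⟩
  exact sylow_card (k := 3) (m := 22400) (by rw [S.card_G]; norm_num) (by norm_num) P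

theorem card_cent_d : Nat.card ↥(Subgroup.centralizer ({d} : Set G)) = 36 ∨
    Nat.card ↥(Subgroup.centralizer ({d} : Set G)) = 180 := by
  haveI : Fact (Nat.Prime 3) := ⟨Nat.prime_three⟩
  rcases (S.card_cent (Or.inl rfl) S.dM D.hd).1 with e | e <;> omega

theorem not_le_cent_d (P : Sylow 3 G) : ¬ (P : Subgroup G) ≤ Subgroup.centralizer ({d} : Set G) := fun hle => by
  have := Subgroup.card_dvd_of_le hle
  rw [S.card_sylow_three] at this
  rcases S.card_cent_d with e | e <;> rw [e] at this <;> omega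

theorem c_not_mem_d {c : G} (ho : orderOf c = 3) (hcM : ∀ m ∈ M, c * m = m * c) : c ∉ Subgroup.zpowers d := fun hc => by
  haveI : Fact (Nat.Prime 3) := ⟨Nat.prime_three⟩
  refine S.three_sep ho hcM 1 ?_
  rw [one_mul, inv_one, mul_one, (zpowers_eq_of_mem D.hd hc fun e => by rw [e, orderOf_one] at ho; omega).1]
  exact Subgroup.mem_zpowers d

theorem exists_sylow_three {c : G} (ho : orderOf c = 3) (hcM : ∀ m ∈ M, c * m = m * c) :
    ∃ P : Sylow 3 G, c ∈ (P : Subgroup G) ∧ d ∈ (P : Subgroup G) := by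
  haveI : Fact (Nat.Prime 3) := ⟨Nat.prime_three⟩
  have hle : Subgroup.zpowers c ≤ Subgroup.normalizer (Subgroup.zpowers d : Set G) :=
    Subgroup.zpowers_le.mpr (mem_normalizer_of_le fun a ha => by
      obtain ⟨i, rfl⟩ := Subgroup.mem_zpowers_iff.mp ha
      rw [conj_fix_iff.mpr ((show Commute c d from hcM d S.dM).zpow_right i)]
      exact ha)
  have hp := IsPGroup.to_sup_of_normal_right'
    (IsPGroup.of_card (n := 1) (by rw [Nat.card_zpowers, ho, pow_one]) : IsPGroup 3 ↥(Subgroup.zpowers c))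
    (IsPGroup.of_card (n := 1) (by rw [Nat.card_zpowers, D.hd, pow_one]) : IsPGroup 3 ↥(Subgroup.zpowers d)) hle
  obtain ⟨P, hP⟩ := hp.exists_le_sylow
  exact ⟨P, hP (Subgroup.mem_sup_left (Subgroup.mem_zpowers c)), hP (Subgroup.mem_sup_right (Subgroup.mem_zpowers d))⟩

/-- The Sylow three-subgroup through `c` and `d` has centre `⟨c⟩`. -/
theorem sylow_three_center {c : G} (ho : orderOf c = 3) (hcM : ∀ m ∈ M, c * m = m * c) (P : Sylow 3 G)
    (hcP : c ∈ (P : Subgroup G)) (hdP : d ∈ (P : Subgroup G)) :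
    (∀ a ∈ (P : Subgroup G), c * a = a * c) ∧
      ∀ w ∈ (P : Subgroup G), (∀ a ∈ (P : Subgroup G), w * a = a * w) → w ∈ Subgroup.zpowers c := by
  classical
  haveI : Fact (Nat.Prime 3) := ⟨Nat.prime_three⟩
  set A := (P : Subgroup G) ⊓ Subgroup.centralizer ({d} : Set G) with hA
  have hP27 := S.card_sylow_three P
  have hcA : c ∈ A := ⟨hcP, mem_cent.mpr (hcM d S.dM)⟩
  have hdA : d ∈ A := ⟨hdP, mem_cent.mpr rfl⟩
  have hne : A ≠ (P : Subgroup G) := fun e => S.not_le_cent_d P (e ▸ inf_le_right)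
  have hd27 : Nat.card ↥A ∣ 3 ^ 3 := by
    rw [show (3 : ℕ) ^ 3 = 27 from rfl, ← hP27]; exact Subgroup.card_dvd_of_le inf_le_left
  obtain ⟨k, hk, hkA⟩ := (Nat.dvd_prime_pow Nat.prime_three).mp hd27
  have hk2 : k = 2 := by
    by_contra hne2
    rcases (show k = 0 ∨ k = 1 ∨ k = 3 by omega) with rfl | rfl | rfl
    · have := Subgroup.orderOf_dvd_natCard A hdA
      rw [D.hd, hkA] at this
      omega
    · have := Subgroup.eq_of_le_of_card_ge (Subgroup.zpowers_le.mpr hdA)
        (by rw [hkA, Nat.card_zpowers, D.hd]; norm_num)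
      exact S.c_not_mem_d ho hcM (this ▸ hcA)
    · exact hne (Subgroup.eq_of_le_of_card_ge inf_le_left (by rw [hkA, hP27]; norm_num))
  subst hk2
  have hA9 : Nat.card ↥A = 9 := by rw [hkA]; norm_num
  -- `A` is normalised by `P`
  have hAn : ∀ p ∈ (P : Subgroup G), ∀ a ∈ A, p * a * p⁻¹ ∈ A := by
    haveI : Group.IsNilpotent ↥(P : Subgroup G) := P.isPGroup'.isNilpotent
    set K := A.subgroupOf (P : Subgroup G) with hK
    have hK9 : Nat.card ↥K = 9 := by
      rw [hK, Nat.card_congr (Subgroup.subgroupOfEquivOfLe (inf_le_left : A ≤ (P : Subgroup G))).toEquiv, hA9]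
    have hlt : K < ⊤ := lt_top_iff_ne_top.mpr fun e => by rw [e, Subgroup.card_top, hP27] at hK9; omega
    have h1 : K < Subgroup.normalizer (K : Set ↥(P : Subgroup G)) := Group.normalizerCondition_of_isNilpotent _ hlt
    have htop : Subgroup.normalizer (K : Set ↥(P : Subgroup G)) = ⊤ := by
      refine Subgroup.eq_top_of_card_eq _ ?_
      rw [hP27]
      have hd1 := Subgroup.card_subgroup_dvd_card (Subgroup.normalizer (K : Set ↥(P : Subgroup G)))
      rw [hP27] at hd1
      have hgt : 9 < Nat.card ↥(Subgroup.normalizer (K : Set ↥(P : Subgroup G))) := by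
        by_contra hle
        exact h1.ne (Subgroup.eq_of_le_of_card_ge h1.le (by omega))
      have hle := Nat.le_of_dvd (by norm_num) hd1
      interval_cases hc : Nat.card ↥(Subgroup.normalizer (K : Set ↥(P : Subgroup G))) <;> omega
    intro p hp a ha
    have hm : (⟨p, hp⟩ : ↥(P : Subgroup G)) ∈ Subgroup.normalizer (K : Set ↥(P : Subgroup G)) := by
      rw [htop]; exact Subgroup.mem_top _
    exact (Subgroup.mem_normalizer_iff.mp hm ⟨a, ha.1⟩).mp ha
  obtain ⟨p, hp, hpA⟩ : ∃ p ∈ (P : Subgroup G), p ∉ A := by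
    by_contra hall
    push Not at hall
    exact hne (le_antisymm inf_le_left hall)
  have hfix : ∀ q ∈ (P : Subgroup G), q * d * q⁻¹ ∈ Subgroup.zpowers d → q ∈ A := fun q hq hmem => by
    refine ⟨hq, mem_cent.mpr (conj_fix_iff.mp ?_)⟩
    have h27 : q ^ 27 = 1 := by
      have := congrArg Subtype.val (pow_card_eq_one' (x := (⟨q, hq⟩ : ↥(P : Subgroup G))))
      rw [hP27] at this
      simpa using this
    obtain ⟨i, hi⟩ := Subgroup.mem_zpowers_iff.mp hmem
    have hq2 : q * q * d * (q * q)⁻¹ = d := by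
      rw [show q * q * d * (q * q)⁻¹ = q * (q * d * q⁻¹) * q⁻¹ by group, ← hi, ← conj_zpow, ← hi, ← zpow_mul]
      have hi' : ¬ (3 : ℤ) ∣ i := fun h3 => by
        obtain ⟨m, rfl⟩ := h3
        rw [zpow_mul, show (3 : ℤ) = ((3 : ℕ) : ℤ) from rfl, zpow_natCast, D.d3, one_zpow] at hi
        have := D.hd
        rw [conj_eq_one_iff.mp hi.symm, orderOf_one] at this
        omega
      obtain ⟨m, hm⟩ : (3 : ℤ) ∣ i * i - 1 := by
        have : i % 3 = 1 ∨ i % 3 = 2 := by omega
        rcases this with h | h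
        · obtain ⟨r, rfl⟩ : ∃ r, i = 3 * r + 1 := ⟨i / 3, by omega⟩
          exact ⟨3 * r * r + 2 * r, by ring⟩
        · obtain ⟨r, rfl⟩ : ∃ r, i = 3 * r + 2 := ⟨i / 3, by omega⟩
          exact ⟨3 * r * r + 4 * r + 1, by ring⟩
      rw [show i * i = 3 * m + 1 by omega, zpow_add, zpow_mul, show (3 : ℤ) = ((3 : ℕ) : ℤ) from rfl, zpow_natCast,
        D.d3, one_zpow, one_mul, zpow_one]
    have hc : Commute (q * q) d := conj_fix_iff.mp hq2
    have hq' : (q * q) ^ 14 = q := by
      rw [← pow_two, ← pow_mul, show 2 * 14 = 27 + 1 from rfl, pow_succ, h27, one_mul]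
    exact conj_fix_iff.mpr (hq' ▸ hc.pow_left 14)
  set d₁ := p * d * p⁻¹ with hd₁def
  set d₂ := p * d₁ * p⁻¹ with hd₂def
  have ho₁ : orderOf d₁ = 3 := (orderOf_conj' p d).trans D.hd
  have ho₂ : orderOf d₂ = 3 := (orderOf_conj' p d₁).trans ho₁
  have hd₂e : d₂ = p * p * d * (p * p)⁻¹ := by rw [hd₂def, hd₁def]; group
  have h01 : Disjoint (punct d) (punct d₁) := punct_disjoint D.hd ho₁ fun h => hpA (hfix p hp h)
  have h02 : Disjoint (punct d) (punct d₂) := punct_disjoint D.hd ho₂ fun h => by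
    rw [hd₂e] at h
    have h2 := hfix _ (mul_mem hp hp) h
    have h27 : p ^ 27 = 1 := by
      have := congrArg Subtype.val (pow_card_eq_one' (x := (⟨p, hp⟩ : ↥(P : Subgroup G))))
      rw [hP27] at this
      simpa using this
    refine hpA ?_
    have := pow_mem h2 14
    rwa [← pow_two, ← pow_mul, show 2 * 14 = 27 + 1 from rfl, pow_succ, h27, one_mul] at this
  have h12 : Disjoint (punct d₁) (punct d₂) := punct_disjoint ho₁ ho₂ fun h => hpA (hfix p hp (by
    obtain ⟨i, hi⟩ := Subgroup.mem_zpowers_iff.mp h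
    refine Subgroup.mem_zpowers_iff.mpr ⟨i, ?_⟩
    have hi' : p * d ^ i * p⁻¹ = p * d₁ * p⁻¹ := by rw [← conj_zpow]; exact hi
    exact mul_left_cancel (mul_right_cancel hi')))
  have hc0 : ∀ (g : G), c ∉ Subgroup.zpowers (g * d * g⁻¹) := fun g h => by
    refine S.three_sep ho hcM g ?_
    rw [(zpowers_eq_of_mem ((orderOf_conj' g d).trans D.hd) h fun e => by rw [e, orderOf_one] at ho; omega).1]
    exact Subgroup.mem_zpowers _
  have hcd : Disjoint (punct d) (punct c) := punct_disjoint D.hd ho (S.c_not_mem_d ho hcM)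
  have hc1 : Disjoint (punct d₁) (punct c) := punct_disjoint ho₁ ho (hc0 p)
  have hc2 : Disjoint (punct d₂) (punct c) := punct_disjoint ho₂ ho (hd₂e ▸ hc0 (p * p))
  have hd₁A : d₁ ∈ A := hAn p hp d hdA
  have hd₂A : d₂ ∈ A := hAn p hp d₁ hd₁A
  have hall : punct d ∪ punct d₁ ∪ punct d₂ ∪ punct c = (A : Set G) \ {1} := by
    refine Set.eq_of_subset_of_ncard_le ?_ ?_ (Set.toFinite _)
    · rintro v (((h | h) | h) | h)
      exacts [⟨Subgroup.zpowers_le.mpr hdA h.1, h.2⟩, ⟨Subgroup.zpowers_le.mpr hd₁A h.1, h.2⟩,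
        ⟨Subgroup.zpowers_le.mpr hd₂A h.1, h.2⟩, ⟨Subgroup.zpowers_le.mpr hcA h.1, h.2⟩]
    · rw [Set.ncard_union_eq (Set.disjoint_union_left.mpr ⟨Set.disjoint_union_left.mpr ⟨hcd, hc1⟩, hc2⟩),
        Set.ncard_union_eq (Set.disjoint_union_left.mpr ⟨h02, h12⟩), Set.ncard_union_eq h01,
        ncard_punct D.hd, ncard_punct ho₁, ncard_punct ho₂, ncard_punct ho,
        Set.ncard_sdiff_singleton_of_mem (one_mem _), ← Nat.card_coe_set_eq]
      exact (congrArg (· - 1) hA9).le
  have key : ∀ w ∈ (P : Subgroup G), (∀ a ∈ (P : Subgroup G), w * a = a * w) → w ∈ Subgroup.zpowers c := by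
    intro w hw hwc
    by_cases hw1 : w = 1
    · rw [hw1]; exact one_mem _
    have hmem : w ∈ (A : Set G) \ {1} := ⟨⟨hw, mem_cent.mpr (hwc d hdP)⟩, hw1⟩
    rw [← hall] at hmem
    have bad : ∀ g ∈ (P : Subgroup G), w ∈ punct (g * d * g⁻¹) → False := fun g hg hm => by
      refine S.not_le_cent_d P fun a ha => mem_cent.mpr ?_
      obtain ⟨i, hi⟩ := Subgroup.mem_zpowers_iff.mp
        ((zpowers_eq_of_mem ((orderOf_conj' g d).trans D.hd) hm.1 hm.2).1 ▸ Subgroup.mem_zpowers (g * d * g⁻¹) :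
          g * d * g⁻¹ ∈ Subgroup.zpowers w)
      have hcen : ∀ b ∈ (P : Subgroup G), g * d * g⁻¹ * b = b * (g * d * g⁻¹) := fun b hb => by
        rw [← hi]; exact Commute.zpow_left (hwc b hb) i
      have hgd : g * d * g⁻¹ = d := by
        have h1 := hcen g hg
        calc g * d * g⁻¹ = g⁻¹ * (g * (g * d * g⁻¹)) := by group
          _ = g⁻¹ * (g * d * g⁻¹ * g) := by rw [h1]
          _ = d := by group
      rw [← hgd]
      exact (hcen a ha).symm
    rcases hmem with ((h | h) | h) | h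
    · exact absurd h (fun h => bad 1 (one_mem _) (by simpa using h))
    · exact absurd h (fun h => bad p hp h)
    · exact absurd h (fun h => bad (p * p) (mul_mem hp hp) (hd₂e ▸ h))
    · exact h.1
  refine ⟨?_, key⟩
  haveI : Nontrivial ↥(P : Subgroup G) := Finite.one_lt_card_iff_nontrivial.mp (by rw [hP27]; norm_num)
  haveI := P.isPGroup'.center_nontrivial
  obtain ⟨⟨⟨w, hwP⟩, hwc⟩, hw1⟩ := exists_ne (1 : ↥(Subgroup.center ↥(P : Subgroup G)))
  have hwcomm : ∀ a ∈ (P : Subgroup G), w * a = a * w := fun a ha =>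
    (congrArg Subtype.val (Subgroup.mem_center_iff.mp hwc ⟨a, ha⟩)).symm
  have hw' : w ≠ 1 := fun e => hw1 (Subtype.ext (Subtype.ext e))
  obtain ⟨i, hi⟩ := Subgroup.mem_zpowers_iff.mp
    ((zpowers_eq_of_mem ho (key w hwP hwcomm) hw').1 ▸ Subgroup.mem_zpowers c : c ∈ Subgroup.zpowers w)
  intro a ha
  rw [← hi]
  exact Commute.zpow_left (hwcomm a ha) i

theorem sylow_three_extraspecial (P : Sylow 3 G) : IsExtraspecial 3 ↥(P : Subgroup G) := by
  haveI : Fact (Nat.Prime 3) := ⟨Nat.prime_three⟩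
  refine (Cfsg.EssentialSmall.extraspecial_cube (p := 3) (by rw [S.card_sylow_three]; norm_num) fun hab => ?_).1
  obtain ⟨R, hR⟩ := (IsPGroup.of_card (n := 1) (by rw [Nat.card_zpowers, D.hd, pow_one]) :
    IsPGroup 3 ↥(Subgroup.zpowers d)).exists_le_sylow
  obtain ⟨g, hg⟩ := MulAction.exists_smul_eq G R P
  refine S.not_le_cent_d R fun a ha => mem_cent.mpr ?_
  have hmem : ∀ b ∈ (R : Subgroup G), g * b * g⁻¹ ∈ (P : Subgroup G) := fun b hb => by
    rw [← hg, Sylow.coe_subgroup_smul]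
    exact Subgroup.smul_mem_pointwise_smul b (MulAut.conj g) _ hb
  exact (conj_comm_iff g a d).mp
    (congrArg Subtype.val (hab ⟨_, hmem a ha⟩ ⟨_, hmem d (hR (Subgroup.mem_zpowers d))⟩))

end Sub

end CfsgLib.HallJankoType
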