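import Cfsg.Agent.Lib.HallJankoType.Five

/-!
Groups of Hall–Janko type: the fixed points on `Q` of an element of order three centralising `M`.
-/

set_option autoImplicit false
set_option linter.unusedSectionVars false
set_option maxRecDepth 100000

namespace CfsgLib.HallJankoType

open Cfsg CfsgLargeExtra Equiv
open scoped Pointwise

universe u

theorem a5_three_five : ∀ a : alternatingGroup (Fin 5), a ^ 3 = 1 → a ≠ 1 →
    ∃ b : alternatingGroup (Fin 5), (a * (b * a * b⁻¹)) ^ 5 = 1 ∧ a * (b * a * b⁻¹) ≠ 1 := by decide +kernel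

theorem dihedral_four_monolith : ∀ a : DihedralGroup 4, a ≠ 1 →
    a = DihedralGroup.r 2 ∨ ∃ b : DihedralGroup 4, a * b * a⁻¹ * b⁻¹ = DihedralGroup.r 2 := by decide +kernel

variable {G : Type u} [Group G] [Finite G]

/-- The fixed points of an element of prime order on a set that it leaves invariant. -/
theorem fixed_set_modEq {p : ℕ} [hp : Fact p.Prime] (A : Set G) {s : G} (hs : s ^ p = 1)
    (hA : ∀ a, a ∈ A ↔ s * a * s⁻¹ ∈ A) :
    {a | a ∈ A ∧ s * a = a * s}.ncard ≡ A.ncard [MOD p] := by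
  classical
  haveI : Fintype ↥A := Fintype.ofFinite _
  let φ : Perm ↥A :=
    { toFun := fun a => ⟨s * a * s⁻¹, (hA _).mp a.2⟩
      invFun := fun a => ⟨s⁻¹ * a * s, (hA _).mpr (by
        rw [show s * (s⁻¹ * (a : G) * s) * s⁻¹ = a by group]; exact a.2)⟩
      left_inv := fun a => Subtype.ext (by simp [mul_assoc])
      right_inv := fun a => Subtype.ext (by simp [mul_assoc]) }
  have hpw : ∀ (k : ℕ) (a : ↥A), ((φ ^ k) a : G) = s ^ k * a * (s ^ k)⁻¹ := by
    intro k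
    induction k with
    | zero => intro a; simp
    | succ k ih =>
      intro a
      rw [pow_succ', Perm.mul_apply]
      show s * ((φ ^ k) a : G) * s⁻¹ = _
      rw [ih, pow_succ']; group
  have hφ : φ ^ p ^ 1 = 1 := by
    rw [pow_one]
    exact Perm.ext fun a => Subtype.ext (by rw [hpw, hs]; simp)
  have h1 := Equiv.Perm.card_compl_support_modEq hφ
  rw [← Nat.card_eq_fintype_card, Nat.card_coe_set_eq] at h1
  convert h1 using 1
  rw [← Nat.card_eq_finsetCard, ← Nat.card_coe_set_eq]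
  exact Nat.card_congr
    { toFun := fun a => ⟨⟨(a : G), a.2.1⟩, by
        simp only [Finset.mem_compl, Perm.notMem_support]
        exact Subtype.ext (conj_fix_iff.mpr a.2.2)⟩
      invFun := fun a => ⟨((a : ↥A) : G), (a : ↥A).2, conj_fix_iff.mp
        (congrArg Subtype.val (Perm.notMem_support.mp (Finset.mem_compl.mp a.2)))⟩
      left_inv := fun a => rfl
      right_inv := fun a => rfl }

variable {z x t t' d : G} {Q Q' : Subgroup G} {pm pm' : G → Perm (Fin 5)}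
variable {M : Subgroup G}

namespace HJ

variable (h : HJ z Q pm)
include h

/-- An element of order three of `C(z)` does not centralise `Q`. -/
theorem three_not_cent_Q {c : G} (hc : c * z = z * c) (ho : orderOf c = 3) :
    pm c ≠ 1 ∧ ¬ ∀ q ∈ Q, c * q = q * c := by
  have hcQ : c ∉ Q := fun hq => by
    have := Subgroup.orderOf_dvd_natCard Q hq
    rw [ho, h.card] at this
    omega
  have hp1 : pm c ≠ 1 := fun e => hcQ ((h.pm_ker c hc).mp e)
  refine ⟨hp1, fun hall => ?_⟩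
  have hp3 : pm c ^ 3 = 1 := by rw [← h.pm_pow hc, ← ho, pow_orderOf_eq_one, h.pm_one]
  obtain ⟨b, hb5, hb1⟩ := a5_three_five ⟨pm c, Equiv.Perm.mem_alternatingGroup.mpr (h.pm_sign c hc)⟩
    (Subtype.ext hp3) fun e => hp1 (congrArg Subtype.val e)
  obtain ⟨g, hg, hpg⟩ := h.pm_surj _ (Equiv.Perm.mem_alternatingGroup.mp b.2)
  set a := c * (g * c * g⁻¹) with hadef
  have hgcz : g * c * g⁻¹ * z = z * (g * c * g⁻¹) :=
    Commute.mul_left (Commute.mul_left hg hc) (Commute.inv_left hg)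
  have haz : a * z = z * a := Commute.mul_left hc hgcz
  have haQ : ∀ q ∈ Q, a * q = q * a := by
    intro q hq
    have h2 : g⁻¹ * q * g ∈ Q := by
      have := h.nor_mem (c := g⁻¹) (Commute.inv_left hg) hq
      rwa [inv_inv] at this
    have h3 : g * c * g⁻¹ * q = q * (g * c * g⁻¹) := by
      calc g * c * g⁻¹ * q = g * (c * (g⁻¹ * q * g)) * g⁻¹ := by group
        _ = g * (g⁻¹ * q * g * c) * g⁻¹ := by rw [hall _ h2]
        _ = q * (g * c * g⁻¹) := by group
    exact Commute.mul_left (hall q hq) h3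
  have hpa : pm a = pm c * (pm g * pm c * (pm g)⁻¹) := by
    rw [hadef, h.pm_mul _ _ hc hgcz, h.pm_conj hg hc]
  have hpa5 : pm a ^ 5 = 1 := by rw [hpa, hpg]; exact congrArg Subtype.val hb5
  have hpa1 : pm a ≠ 1 := by rw [hpa, hpg]; exact fun e => hb1 (Subtype.ext e)
  have ha5 : a ^ 5 ∈ Q := (h.pm_ker _ (Commute.pow_left haz 5)).mp (by rw [h.pm_pow haz, hpa5])
  have ha20 : (a ^ 5) ^ 4 = 1 := congrArg Subtype.val (h.es.toExt.pow_four ⟨a ^ 5, ha5⟩)
  set f := a ^ 16 with hfdef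
  have hf : f * z = z * f := Commute.pow_left haz 16
  have hf5 : f ^ 5 = 1 := by
    rw [hfdef, ← pow_mul, show 16 * 5 = (5 * 4) * 4 from rfl, pow_mul, pow_mul, ha20, one_pow]
  have hpf : pm f = pm a := by
    rw [hfdef, h.pm_pow haz, show (16 : ℕ) = 5 * 3 + 1 from rfl, pow_succ, pow_mul, hpa5, one_pow, one_mul]
  have hfo : orderOf f = 5 := orderOf_eq_prime (hp := ⟨by norm_num⟩) hf5 fun e => hpa1 (by rw [← hpf, e, h.pm_one])
  have hfQ : f ∉ Q := fun hq => hpa1 (hpf ▸ h.pm_Q hq)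
  obtain ⟨p, hp⟩ : h.S.Nonempty := Set.nonempty_of_ncard_ne_zero (by rw [h.ncard_S]; omega)
  rcases h.five_fix hf hfo hfQ hp.1 (Commute.pow_left (haQ p hp.1) 16) with e | e
  exacts [hp.2.2.1 e, hp.2.2.2 e]

end HJ

namespace Sub

variable {D : Cyc z x t t' d Q Q' pm pm'} (S : Sub D M)
include S

/-- The fixed points on `Q` of an element of order three centralising `M` are dihedral of order eight. -/
theorem cent_Q_three {c : G} (ho : orderOf c = 3) (hcM : ∀ m ∈ M, c * m = m * c) :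
    Nat.card ↥(Q ⊓ Subgroup.centralizer ({c} : Set G)) = 8 ∧
      ∃ δ : DihedralGroup 4 →* G, Function.Injective δ ∧ δ (DihedralGroup.r 2) = z ∧
        δ.range = Q ⊓ Subgroup.centralizer ({c} : Set G) := by
  haveI : Fact (Nat.Prime 3) := ⟨Nat.prime_three⟩
  set P := D.K.P with hP
  have hcz : c * z = z * c := hcM z (S.U_le P.zU)
  have hc3 : c ^ 3 = 1 := ho ▸ pow_orderOf_eq_one c
  obtain ⟨-, hnc⟩ := P.h.three_not_cent_Q hcz ho
  set R := Q ⊓ Subgroup.centralizer ({c} : Set G) with hR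
  have hUR : P.U ≤ R := fun u hu => ⟨(P.U_mem hu).1, mem_cent.mpr (hcM u (S.U_le hu)).symm⟩
  have hcN : c ∈ Subgroup.normalizer (Q : Set G) := mem_normalizer_of_le fun q hq => P.h.nor_mem hcz hq
  have hmod := fixed_modEq (p := 3) Q hc3 hcN
  rw [← hR, P.h.card] at hmod
  have hd1 : Nat.card ↥R ∣ 32 := P.h.card ▸ Subgroup.card_dvd_of_le inf_le_left
  have hd2 : 4 ∣ Nat.card ↥R := P.card_U ▸ Subgroup.card_dvd_of_le hUR
  have hne : Nat.card ↥R ≠ 32 := fun e => hnc fun q hq => by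
    have := Subgroup.eq_of_le_of_card_ge (inf_le_left : R ≤ Q) (by rw [e, P.h.card])
    exact (mem_cent.mp ((this.symm ▸ hq : q ∈ Q ⊓ Subgroup.centralizer ({c} : Set G)).2)).symm
  have h8 : Nat.card ↥R = 8 := by
    have hle := Nat.le_of_dvd (by norm_num) hd1
    unfold Nat.ModEq at hmod
    interval_cases hc : Nat.card ↥R <;> omega
  refine ⟨h8, ?_⟩
  -- an involution of `R` outside `U`
  have hSinv : ∀ a, a ∈ P.h.S ↔ c * a * c⁻¹ ∈ P.h.S := fun a => ⟨P.h.S_conj hcz, fun ha => by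
    have := P.h.S_conj (c := c⁻¹) (Commute.inv_left hcz) ha
    simpa [mul_assoc] using this⟩
  have hmodS := fixed_set_modEq (p := 3) P.h.S hc3 hSinv
  rw [P.h.ncard_S] at hmodS
  obtain ⟨p, ⟨hpS, hpc⟩, hpx, hpzx⟩ : ∃ p ∈ {a | a ∈ P.h.S ∧ c * a = a * c}, p ≠ x ∧ p ≠ z * x := by
    by_contra hall
    push Not at hall
    have hsub : {a | a ∈ P.h.S ∧ c * a = a * c} = {x, z * x} := by
      ext a
      constructor
      · intro ha
        by_cases e : a = x
        · exact Or.inl e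
        · exact Or.inr (hall a ha e)
      · rintro (rfl | rfl)
        · exact ⟨P.memS, hcM _ (S.U_le P.xU)⟩
        · have hzx : z * x ∈ P.U := Or.inr (Or.inr (Or.inr rfl))
          exact ⟨⟨(P.U_mem hzx).1, (P.U_mem hzx).2.2, P.zx_ne_one, P.zx_ne_z⟩, hcM _ (S.U_le hzx)⟩
    rw [hsub, Set.ncard_pair P.zx_ne_x.symm] at hmodS
    exact absurd hmodS (by decide)
  have hne' : x * p ≠ p * x := fun e => by
    rcases P.h.ea P.memS hpS.1 hpS.2.1 e.symm with e | e | e | e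
    exacts [hpS.2.2.1 e, hpS.2.2.2 e, hpx e, hpzx e]
  obtain ⟨δ, hδz, hδx, hδp, -⟩ := CfsgLib.ExtraTwo.exists_dihedral_hom P.h.es.toExt
    (x := ⟨x, P.hx⟩) (y := ⟨p, hpS.1⟩) (Subtype.ext P.xx) (Subtype.ext hpS.2.1)
    fun e => hne' (congrArg Subtype.val e)
  set δ' : DihedralGroup 4 →* G := Q.subtype.comp δ with hδ'
  have hz' : δ' (DihedralGroup.r 2) = z := congrArg Subtype.val hδz
  have hinj : Function.Injective δ' := by
    rw [← MonoidHom.ker_eq_bot_iff, Subgroup.eq_bot_iff_forall]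
    intro a ha
    by_contra ha1
    rw [MonoidHom.mem_ker] at ha
    rcases dihedral_four_monolith a ha1 with e | ⟨b, e⟩
    · exact P.h.es.ne (hz' ▸ e ▸ ha)
    · refine P.h.es.ne (hz' ▸ ?_)
      rw [← e, map_mul, map_mul, map_mul, ha, map_inv, map_inv, ha]
      simp
  refine ⟨δ', hinj, hz', ?_⟩
  have hgen : ∀ a : DihedralGroup 4, δ' a ∈ R := by
    have h0 : δ' (DihedralGroup.sr 0) ∈ R := by
      rw [show δ' (DihedralGroup.sr 0) = x from congrArg Subtype.val hδx]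
      exact hUR P.xU
    have h1 : δ' (DihedralGroup.sr 1) ∈ R := by
      rw [show δ' (DihedralGroup.sr 1) = p from congrArg Subtype.val hδp]
      exact ⟨hpS.1, mem_cent.mpr hpc.symm⟩
    have hr : ∀ n : ℕ, δ' (DihedralGroup.r (n : ZMod 4)) ∈ R := fun n => by
      rw [← DihedralGroup.r_one_pow, map_pow,
        show (DihedralGroup.r 1 : DihedralGroup 4) = DihedralGroup.sr 0 * DihedralGroup.sr 1 by decide, map_mul]
      exact pow_mem (mul_mem h0 h1) n
    intro a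
    match a with
    | .r i => simpa using hr i.val
    | .sr i =>
      rw [show (DihedralGroup.sr i : DihedralGroup 4) = DihedralGroup.sr 0 * DihedralGroup.r i by simp, map_mul]
      exact mul_mem h0 (by simpa using hr i.val)
  refine Subgroup.eq_of_le_of_card_ge ?_ ?_
  · rintro _ ⟨a, rfl⟩
    exact hgen a
  · rw [h8, Nat.card_congr (MonoidHom.ofInjective hinj).symm.toEquiv, DihedralGroup.nat_card]

/-- The centralizer in `C(z)` of an element of order three centralising `M`. -/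
theorem cent_z_three {c : G} (ho : orderOf c = 3) (hcM : ∀ m ∈ M, c * m = m * c) {w : G} :
    (w * z = z * w ∧ w * c = c * w) ↔ ∃ r ∈ Q ⊓ Subgroup.centralizer ({c} : Set G), ∃ i : ℤ, w = r * c ^ i := by
  set P := D.K.P with hP
  have hcz : c * z = z * c := hcM z (S.U_le P.zU)
  constructor
  · rintro ⟨hwz, hwc⟩
    obtain ⟨hp1, -⟩ := P.h.three_not_cent_Q hcz ho
    have hp3 : pm c ^ 3 = 1 := by rw [← P.h.pm_pow hcz, ← ho, pow_orderOf_eq_one, P.h.pm_one]
    have hcomm : pm c * pm w = pm w * pm c := by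
      rw [← P.h.pm_mul _ _ hcz hwz, ← hwc, P.h.pm_mul _ _ hwz hcz]
    have key : ∀ k : ℕ, pm w = pm c ^ k → ∃ r ∈ Q ⊓ Subgroup.centralizer ({c} : Set G), ∃ i : ℤ, w = r * c ^ i := by
      intro k hk
      refine ⟨w * (c ^ k)⁻¹, ⟨(P.h.pm_ker _ (Commute.mul_left hwz (Commute.inv_left (Commute.pow_left hcz k)))).mp
        ?_, mem_cent.mpr (Commute.mul_left hwc (Commute.inv_left (Commute.pow_left (Commute.refl c) k)))⟩, k, ?_⟩
      · rw [P.h.pm_mul _ _ hwz (Commute.inv_left (Commute.pow_left hcz k)),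
          P.h.pm_inv (Commute.pow_left hcz k), P.h.pm_pow hcz, hk, mul_inv_cancel]
      · rw [zpow_natCast]; group
    rcases alt_five_cent_three ⟨pm c, Equiv.Perm.mem_alternatingGroup.mpr (P.h.pm_sign c hcz)⟩
      ⟨pm w, Equiv.Perm.mem_alternatingGroup.mpr (P.h.pm_sign w hwz)⟩ (Subtype.ext hp3)
      (fun e => hp1 (congrArg Subtype.val e)) (Subtype.ext hcomm) with e | e | e
    · exact key 0 (by rw [pow_zero]; exact congrArg Subtype.val e)
    · exact key 1 (by rw [pow_one]; exact congrArg Subtype.val e)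
    · exact key 2 (by rw [pow_two]; exact congrArg Subtype.val e)
  · rintro ⟨r, hr, i, rfl⟩
    exact ⟨Commute.mul_left (P.h.es.comm r hr.1) (Commute.zpow_left hcz i),
      Commute.mul_left (mem_cent.mp hr.2) (Commute.zpow_left (Commute.refl c) i)⟩

theorem three_inter_Q {c : G} (ho : orderOf c = 3) {i : ℤ} (hi : c ^ i ∈ Q) : c ^ i = 1 := by
  have h1 : (c ^ i) ^ 4 = 1 := congrArg Subtype.val (D.K.P.h.es.toExt.pow_four ⟨c ^ i, hi⟩)
  have h2 : (c ^ i) ^ 3 = 1 := by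
    rw [← zpow_natCast, ← zpow_mul, mul_comm, zpow_mul, zpow_natCast, ← ho, pow_orderOf_eq_one, one_zpow]
  calc c ^ i = (c ^ i) ^ 4 * ((c ^ i) ^ 3)⁻¹ := by group
    _ = 1 := by rw [h1, h2]; simp

theorem card_cent_z_three {c : G} (ho : orderOf c = 3) (hcM : ∀ m ∈ M, c * m = m * c) :
    Nat.card ↥(Subgroup.centralizer ({z} : Set G) ⊓ Subgroup.centralizer ({c} : Set G)) = 24 := by
  obtain ⟨h8, -⟩ := S.cent_Q_three ho hcM
  set R := Q ⊓ Subgroup.centralizer ({c} : Set G) with hR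
  let ψ : ↥R × ↥(Subgroup.zpowers c) →
      ↥(Subgroup.centralizer ({z} : Set G) ⊓ Subgroup.centralizer ({c} : Set G)) := fun p =>
    ⟨(p.1 : G) * p.2, by
      obtain ⟨i, hi⟩ := Subgroup.mem_zpowers_iff.mp p.2.2
      obtain ⟨h1, h2⟩ := (S.cent_z_three ho hcM).mpr ⟨_, p.1.2, i, rfl⟩
      rw [hi] at h1 h2
      exact ⟨mem_cent.mpr h1, mem_cent.mpr h2⟩⟩
  have hbij : Function.Bijective ψ := by
    refine ⟨?_, fun w => ?_⟩
    · rintro ⟨r, a⟩ ⟨r', a'⟩ e
      have e' : (r : G) * a = r' * a' := congrArg Subtype.val e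
      have hmem : ((a' : G) * (a : G)⁻¹) ∈ Q := by
        rw [show (a' : G) * (a : G)⁻¹ = (r' : G)⁻¹ * r from eq_inv_mul_of_mul_eq (by rw [← mul_assoc, ← e']; group)]
        exact mul_mem (inv_mem r'.2.1) r.2.1
      obtain ⟨i, hi⟩ := Subgroup.mem_zpowers_iff.mp (mul_mem a'.2 (inv_mem a.2))
      have h1 : (a' : G) * (a : G)⁻¹ = 1 := by
        rw [← hi] at hmem ⊢
        exact S.three_inter_Q ho hmem
      have ha : (a : G) = a' := (mul_inv_eq_one.mp h1).symm
      rw [ha] at e'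
      exact Prod.ext (Subtype.ext (mul_right_cancel e')) (Subtype.ext ha)
    · obtain ⟨r, hr, i, hi⟩ := (S.cent_z_three ho hcM).mp ⟨mem_cent.mp w.2.1, mem_cent.mp w.2.2⟩
      exact ⟨⟨⟨r, hr⟩, ⟨c ^ i, Subgroup.mem_zpowers_iff.mpr ⟨i, rfl⟩⟩⟩, Subtype.ext hi.symm⟩
  rw [← Nat.card_congr (Equiv.ofBijective ψ hbij), Nat.card_prod, h8, Nat.card_zpowers, ho]

/-- Involutions centralising such an element are conjugate to `z`. -/
theorem three_invol {c u : G} (ho : orderOf c = 3) (hcM : ∀ m ∈ M, c * m = m * c) (hu : u * u = 1) (hu1 : u ≠ 1)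
    (huc : u * c = c * u) : IsConj z u := by
  haveI : Fact (Nat.Prime 2) := ⟨Nat.prime_two⟩
  set P := D.K.P with hP
  obtain ⟨h8, δ, -, hδz, hrange⟩ := S.cent_Q_three ho hcM
  set R := Q ⊓ Subgroup.centralizer ({c} : Set G) with hR
  set W := Subgroup.centralizer ({c} : Set G) with hW
  have hzR : z ∈ R := ⟨P.h.es.mem, mem_cent.mpr (hcM z (S.U_le P.zU)).symm⟩
  have hR2 : IsPGroup 2 ↥(R.subgroupOf W) := IsPGroup.of_card (n := 3)
    (by rw [Nat.card_congr (Subgroup.subgroupOfEquivOfLe (inf_le_right : R ≤ W)).toEquiv, h8]; norm_num)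
  obtain ⟨T, hT⟩ := hR2.exists_le_sylow
  have hTR : (T : Subgroup ↥W) = R.subgroupOf W := by
    by_contra hne
    haveI : Group.IsNilpotent ↥(T : Subgroup ↥W) := T.isPGroup'.isNilpotent
    have hlt : (R.subgroupOf W).subgroupOf (T : Subgroup ↥W) < ⊤ := lt_top_iff_ne_top.mpr fun e =>
      hne (le_antisymm (Subgroup.subgroupOf_eq_top.mp e) hT)
    obtain ⟨n, hn, hnR⟩ := SetLike.exists_of_lt (Group.normalizerCondition_of_isNilpotent _ hlt)
    have hmemn := Subgroup.mem_normalizer_iff.mp hn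
    -- `n` centralises `z`
    obtain ⟨b, hb⟩ : ∃ b ∈ R, b * b = z := by
      refine ⟨δ (DihedralGroup.r 1), hrange ▸ ⟨_, rfl⟩, ?_⟩
      rw [← map_mul, show (DihedralGroup.r 1 : DihedralGroup 4) * DihedralGroup.r 1 = DihedralGroup.r 2 by decide,
        hδz]
    have hnb : ((n : ↥W) : G) * b * ((n : ↥W) : G)⁻¹ ∈ R := by
      have hbT : (⟨b, hb.1.2⟩ : ↥W) ∈ (T : Subgroup ↥W) := hT hb.1
      exact (hmemn ⟨⟨b, hb.1.2⟩, hbT⟩).mp hb.1
    have hnz : ((n : ↥W) : G) * z = z * ((n : ↥W) : G) := by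
      rw [← conj_fix_iff]
      have hsq : ((n : ↥W) : G) * z * ((n : ↥W) : G)⁻¹ =
          (((n : ↥W) : G) * b * ((n : ↥W) : G)⁻¹) * (((n : ↥W) : G) * b * ((n : ↥W) : G)⁻¹) := by
        rw [← hb.2]; group
      rcases P.h.es.sq _ hnb.1 with e | e
      · exfalso
        rw [← hsq] at e
        exact P.h.es.ne (conj_eq_one_iff.mp e)
      · rw [hsq]; exact e
    obtain ⟨r, hr, i, hi⟩ := (S.cent_z_three ho hcM).mp ⟨hnz, mem_cent.mp (n : ↥W).2⟩
    apply hnR
    show ((n : ↥W) : G) ∈ R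
    have hci : (⟨c ^ i, mem_cent.mpr (Commute.zpow_left (Commute.refl c) i)⟩ : ↥W) ∈ (T : Subgroup ↥W) := by
      rw [show (⟨c ^ i, mem_cent.mpr (Commute.zpow_left (Commute.refl c) i)⟩ : ↥W) = (⟨r, hr.2⟩ : ↥W)⁻¹ * n from
        Subtype.ext (by show c ^ i = r⁻¹ * ((n : ↥W) : G); rw [hi]; group)]
      exact mul_mem (inv_mem (hT hr)) n.2
    obtain ⟨k, hk⟩ := T.isPGroup' ⟨_, hci⟩
    have hk' : (c ^ i) ^ 2 ^ k = 1 := congrArg (fun a : ↥(T : Subgroup ↥W) => ((a : ↥W) : G)) hk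
    have h3 : (c ^ i) ^ 3 = 1 := by
      rw [← zpow_natCast, ← zpow_mul, mul_comm, zpow_mul, zpow_natCast, ← ho, pow_orderOf_eq_one, one_zpow]
    have h1 : c ^ i = 1 := orderOf_eq_one_iff.mp (Nat.eq_one_of_dvd_coprimes
      (Nat.Coprime.pow_left k (by norm_num : Nat.Coprime 2 3)) (orderOf_dvd_of_pow_eq_one hk')
      (orderOf_dvd_of_pow_eq_one h3))
    rw [hi, h1, mul_one]
    exact hr
  let uW : ↥W := ⟨u, mem_cent.mpr huc⟩
  obtain ⟨T', hT'⟩ := (IsPGroup.of_card (n := 1) (by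
    rw [Nat.card_zpowers, pow_one]
    exact orderOf_eq_prime (show uW ^ 2 = 1 from Subtype.ext (by rw [SubgroupClass.coe_pow, pow_two]; exact hu))
      fun e => hu1 (congrArg Subtype.val e)) : IsPGroup 2 ↥(Subgroup.zpowers uW)).exists_le_sylow
  obtain ⟨w, hw⟩ := MulAction.exists_smul_eq ↥W T' T
  have hmem : (w : G) * u * (w : G)⁻¹ ∈ R := by
    have h1 := Subgroup.smul_mem_pointwise_smul uW (MulAut.conj w) _ (hT' (Subgroup.mem_zpowers _))
    rw [show MulAut.conj w • (T' : Subgroup ↥W) = R.subgroupOf W by rw [← Sylow.coe_subgroup_smul, ← hTR, ← hw]] at h1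
    exact h1
  have hc2 := conj_sq (w : G) u hu
  by_cases ez : (w : G) * u * (w : G)⁻¹ = z
  · exact IsConj.symm (isConj_iff.mpr ⟨(w : G), ez⟩)
  · exact (P.h.isConj_S ⟨hmem.1, hc2, fun e => hu1 (conj_eq_one_iff.mp e), ez⟩).trans
      (IsConj.symm (isConj_iff.mpr ⟨(w : G), rfl⟩))

/-- Elements of order three centralising `M` are not conjugate to powers of `d`. -/
theorem three_sep {c : G} (ho : orderOf c = 3) (hcM : ∀ m ∈ M, c * m = m * c) (g : G) :
    g * d * g⁻¹ ∉ Subgroup.zpowers c := by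
  haveI : Fact (Nat.Prime 3) := ⟨Nat.prime_three⟩
  intro hg
  have hne : g * d * g⁻¹ ≠ 1 := fun e => by
    have := D.hd
    rw [conj_eq_one_iff.mp e, orderOf_one] at this
    omega
  obtain ⟨i, hi⟩ := Subgroup.mem_zpowers_iff.mp
    ((zpowers_eq_of_mem ho hg hne).1 ▸ Subgroup.mem_zpowers c : c ∈ Subgroup.zpowers (g * d * g⁻¹))
  refine D.K.not_conj ((S.three_invol ho hcM (conj_sq g t D.K.tt) (fun e => D.K.t_ne (conj_eq_one_iff.mp e)) ?_).trans
    (IsConj.symm (isConj_iff.mpr ⟨g, rfl⟩)))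
  rw [← hi]
  exact Commute.zpow_right ((conj_comm_iff g t d).mpr D.dt.symm) i

/-- An element of order three commuting with an involution is conjugate into `⟨c⟩` or into `⟨d⟩`. -/
theorem three_of_invol {c u v : G} (ho : orderOf c = 3) (hcM : ∀ m ∈ M, c * m = m * c) (hv : orderOf v = 3)
    (hu : u * u = 1) (hu1 : u ≠ 1) (huv : v * u = u * v) :
    ∃ g : G, g * v * g⁻¹ ∈ Subgroup.zpowers c ∨ g * v * g⁻¹ ∈ Subgroup.zpowers d := by
  haveI : Fact (Nat.Prime 3) := ⟨Nat.prime_three⟩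
  have key : ∀ w a : G, IsConj w u → a * w = w * a → orderOf a = 3 →
      (∀ n, Nat.card ↥(Subgroup.centralizer ({w} : Set G)) = n → ¬ 3 ^ 2 ∣ n) →
      ∃ g : G, g * v * g⁻¹ ∈ Subgroup.zpowers a := by
    intro w a hw ha hoa hn
    obtain ⟨k, hk⟩ := isConj_iff.mp hw
    set H := Subgroup.centralizer ({w} : Set G) with hH
    have hv' : k⁻¹ * v * k ∈ H := mem_cent.mpr ((cent_conj hk).mp huv)
    obtain ⟨e, -, he⟩ := conj_of_sylow_prime (p := 3) (H := H)
      (by rw [← hoa]; exact Subgroup.orderOf_dvd_natCard H (mem_cent.mpr ha))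
      (hn _ rfl) (mem_cent.mpr ha) hv' hoa (by
        rw [show k⁻¹ * v * k = k⁻¹ * v * k⁻¹⁻¹ by rw [inv_inv], orderOf_conj', hv])
    exact ⟨e * k⁻¹, by rwa [show e * k⁻¹ * v * (e * k⁻¹)⁻¹ = e * (k⁻¹ * v * k) * e⁻¹ by group]⟩
  rcases D.K.class_cases hu hu1 with hw | hw
  · obtain ⟨g, hg⟩ := key z c hw (hcM z (S.U_le D.K.P.zU)) ho fun n e => by
      rw [← e, D.K.P.h.card_C]; norm_num
    exact ⟨g, Or.inl hg⟩
  · obtain ⟨g, hg⟩ := key t d hw D.dt D.hd fun n e => by rw [← e, S.card_C]; norm_num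
    exact ⟨g, Or.inr hg⟩

end Sub

end CfsgLib.HallJankoType
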