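import Cfsg.Agent.Lib.HallJankoType.Three

/-!
Groups of Hall–Janko type: the centralizer of a central element of a Sylow three-subgroup, the Sylow
three-normalizer and the two classes of elements of order three.
-/

set_option autoImplicit false
set_option linter.unusedSectionVars false
set_option maxRecDepth 100000

namespace CfsgLib.HallJankoType

open Cfsg CfsgLargeExtra Equiv
open scoped Pointwise

universe u

theorem a5_three_invert : ∀ a : alternatingGroup (Fin 5), a ^ 3 = 1 → a ≠ 1 →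
    ∃ b : alternatingGroup (Fin 5), b * a * b⁻¹ = a⁻¹ := by decide +kernel

variable {G : Type u} [Group G] [Finite G]
variable {z x t t' d : G} {Q Q' : Subgroup G} {pm pm' : G → Perm (Fin 5)}
variable {M : Subgroup G}

namespace Sub

variable {D : Cyc z x t t' d Q Q' pm pm'} (S : Sub D M)
include S

theorem card_cent_three {c : G} (ho : orderOf c = 3) (hcM : ∀ m ∈ M, c * m = m * c) :
    Nat.card ↥(Subgroup.centralizer ({c} : Set G)) = 1080 ∧
      ∃ q : ↥(Subgroup.centralizer ({c} : Set G)) →* alternatingGroup (Fin 6),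
        Function.Surjective q ∧ ∀ w, q w = 1 ↔ (w : G) ∈ Subgroup.zpowers c := by
  classical
  haveI : Fact (Nat.Prime 3) := ⟨Nat.prime_three⟩
  set Pr := D.K.P with hPr
  obtain ⟨-, δ, hδi, hδz, hrange⟩ := S.cent_Q_three ho hcM
  set W := Subgroup.centralizer ({c} : Set G) with hW
  let cW : ↥W := ⟨c, mem_cent.mpr rfl⟩
  set N := Subgroup.zpowers cW with hN
  haveI hNn : N.Normal := ⟨fun a ha g => by
    obtain ⟨i, rfl⟩ := Subgroup.mem_zpowers_iff.mp ha
    rw [conj_fix_iff.mpr ((show Commute g cW from Subtype.ext (mem_cent.mp g.2)).zpow_right i)]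
    exact Subgroup.zpow_mem _ (Subgroup.mem_zpowers cW) i⟩
  have hmemN : ∀ w : ↥W, w ∈ N ↔ (w : G) ∈ Subgroup.zpowers c := fun w => by
    constructor
    · rintro ⟨i, rfl⟩
      exact Subgroup.mem_zpowers_iff.mpr ⟨i, by simp [cW]⟩
    · rintro ⟨i, hi⟩
      exact ⟨i, Subtype.ext (by simpa [cW] using hi)⟩
  set q := QuotientGroup.mk' N with hq
  have hqk : ∀ w : ↥W, q w = 1 ↔ (w : G) ∈ Subgroup.zpowers c := fun w =>
    (QuotientGroup.eq_one_iff w).trans (hmemN w)
  have hcardN : Nat.card ↥N = 3 := by rw [hN, Nat.card_zpowers, ← Subgroup.orderOf_coe]; exact ho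
  have hWq : Nat.card ↥W = Nat.card (↥W ⧸ N) * 3 := by
    rw [Subgroup.card_eq_card_quotient_mul_card_subgroup N, hcardN]
  -- a Sylow three-subgroup lies in `W`
  obtain ⟨P, hcP, hdP⟩ := S.exists_sylow_three ho hcM
  obtain ⟨hPc, -⟩ := S.sylow_three_center ho hcM P hcP hdP
  have h27 : 27 ∣ Nat.card ↥W := S.card_sylow_three P ▸
    Subgroup.card_dvd_of_le fun a ha => mem_cent.mpr (hPc a ha).symm
  -- the involution centralizer of the quotient
  have hδW : ∀ a, δ a ∈ W := fun a => by
    have h : δ a ∈ δ.range := ⟨a, rfl⟩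
    rw [hrange] at h
    exact h.2
  have hδQ : ∀ a, δ a ∈ Q := fun a => by
    have h : δ a ∈ δ.range := ⟨a, rfl⟩
    rw [hrange] at h
    exact h.1
  let ε : DihedralGroup 4 →* ↥W ⧸ N := q.comp (δ.codRestrict W hδW)
  have hεi : Function.Injective ε := by
    rw [← MonoidHom.ker_eq_bot_iff, Subgroup.eq_bot_iff_forall]
    intro a ha
    obtain ⟨i, hi⟩ := Subgroup.mem_zpowers_iff.mp
      ((hqk _).mp (MonoidHom.mem_ker.mp ha) : δ a ∈ Subgroup.zpowers c)
    have hi' : c ^ i = δ a := hi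
    refine hδi ?_
    rw [map_one, ← hi']
    exact S.three_inter_Q ho (hi' ▸ hδQ a)
  let zW : ↥W := ⟨z, mem_cent.mpr (hcM z (S.U_le Pr.zU)).symm⟩
  have hεz : ε (DihedralGroup.r 2) = q zW := congrArg q (Subtype.ext hδz)
  have hεrange : ε.range = Subgroup.centralizer ({q zW} : Set (↥W ⧸ N)) := by
    apply le_antisymm
    · rintro _ ⟨a, rfl⟩
      refine mem_cent.mpr ?_
      rw [← hεz, ← map_mul, ← map_mul]
      exact congrArg ε ((show ∀ b : DihedralGroup 4, b * DihedralGroup.r 2 = DihedralGroup.r 2 * b by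
        decide +kernel) a)
    · intro w hw
      obtain ⟨w, rfl⟩ := QuotientGroup.mk'_surjective N w
      have hw' : q w * q zW = q zW * q w := mem_cent.mp hw
      have h1 : q (w * zW * w⁻¹ * zW⁻¹) = 1 := by
        rw [map_mul, map_mul, map_mul, map_inv, map_inv, hw']
        group
      obtain ⟨i, hi⟩ := Subgroup.mem_zpowers_iff.mp ((hqk _).mp h1)
      have hi' : c ^ i = (w : G) * z * (w : G)⁻¹ * z⁻¹ := hi
      have hcz : Commute c z := hcM z (S.U_le Pr.zU)
      have hwz : (w : G) * z * (w : G)⁻¹ = z := by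
        have e2 : (c ^ i * z) * (c ^ i * z) = 1 := by
          rw [hi']
          simp only [inv_mul_cancel_right]
          exact conj_sq (w : G) z Pr.h.zz
        have e3 : c ^ i * c ^ i = 1 := by
          calc c ^ i * c ^ i = c ^ i * c ^ i * (z * z) := by rw [Pr.h.zz, mul_one]
            _ = c ^ i * (c ^ i * z) * z := by group
            _ = c ^ i * (z * c ^ i) * z := by rw [(hcz.zpow_left i).eq]
            _ = (c ^ i * z) * (c ^ i * z) := by group
            _ = 1 := e2
        have h3 : (c ^ i) ^ 3 = 1 := by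
          rw [← zpow_natCast, ← zpow_mul, mul_comm, zpow_mul, zpow_natCast, ← ho, pow_orderOf_eq_one, one_zpow]
        have h4 : c ^ i = 1 := by
          calc c ^ i = (c ^ i) ^ 3 * (c ^ i * c ^ i)⁻¹ := by group
            _ = 1 := by rw [h3, e3]; simp
        rw [h4] at hi'
        exact mul_inv_eq_one.mp hi'.symm
      obtain ⟨r, hr, j, hj⟩ := (S.cent_z_three ho hcM).mp ⟨conj_fix_iff.mp hwz, mem_cent.mp w.2⟩
      rw [← hrange] at hr
      obtain ⟨a, rfl⟩ := hr
      refine ⟨a, ?_⟩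
      show q ⟨δ a, hδW a⟩ = q w
      rw [show w = ⟨δ a, hδW a⟩ * cW ^ j from Subtype.ext (by simpa [cW] using hj), map_mul,
        (hqk (cW ^ j)).mpr (Subgroup.mem_zpowers_iff.mpr ⟨j, by simp [cW]⟩), mul_one]
  have hCiso : Nonempty (↥(Subgroup.centralizer ({q zW} : Set (↥W ⧸ N))) ≃* DihedralGroup 4) :=
    ⟨((MonoidHom.ofInjective hεi).trans (MulEquiv.subgroupCongr hεrange)).symm⟩
  have hoz : orderOf (q zW) = 2 := by
    rw [← hεz, orderOf_injective ε hεi]
    exact orderOf_eq_prime (hp := ⟨Nat.prime_two⟩) (by decide) (by decide)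
  -- nine divides the order of the quotient
  have h9 : 9 ∣ Nat.card (↥W ⧸ N) := by omega
  have hA6 : Nonempty (↥W ⧸ N ≃* alternatingGroup (Fin 6)) := by
    rcases CfsgLib.InvolutionDihedralEight.classify (q zW) hoz hCiso with e | e | e | e | e
    · exfalso
      obtain ⟨T, σ, τ, h8⟩ := CfsgLib.InvolutionDihedralEight.exists_eight (q zW) hoz hCiso
      let xW : ↥W := ⟨x, mem_cent.mpr (hcM x (S.U_le Pr.xU)).symm⟩
      let dW : ↥W := ⟨d, mem_cent.mpr (hcM d S.dM).symm⟩
      have hUW : Pr.U ≤ W := fun u hu => mem_cent.mpr (hcM u (S.U_le hu)).symm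
      set U := (Pr.U.subgroupOf W).map q with hU
      have hinjU : ∀ u : ↥W, (u : G) ∈ Pr.U → q u = 1 → u = 1 := fun u hu hu1 => by
        obtain ⟨i, hi⟩ := Subgroup.mem_zpowers_iff.mp ((hqk _).mp hu1)
        exact Subtype.ext (hi ▸ S.three_inter_Q ho (hi ▸ (Pr.U_mem hu).1))
      have hK : IsKleinFour U := by
        have hcard : Nat.card ↥U = 4 := by
          have hr : (q.comp (Pr.U.subgroupOf W).subtype).range = U := by
            rw [hU, ← MonoidHom.map_range, Subgroup.range_subtype]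
          rw [← hr, ← Pr.card_U, ← Nat.card_congr (Subgroup.subgroupOfEquivOfLe hUW).toEquiv]
          refine (Nat.card_congr (MonoidHom.ofInjective ?_).toEquiv).symm
          rw [← MonoidHom.ker_eq_bot_iff, Subgroup.eq_bot_iff_forall]
          exact fun a ha => Subtype.ext (hinjU _ a.2 ha)
        refine ⟨hcard, ?_⟩
        haveI : Nontrivial ↥U := Finite.one_lt_card_iff_nontrivial.mp (by rw [hcard]; norm_num)
        rw [Monoid.exponent_eq_prime_iff Nat.prime_two]
        rintro ⟨_, u, hu, rfl⟩ hne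
        refine orderOf_eq_prime (Subtype.ext ?_) hne
        rw [SubgroupClass.coe_pow, ← map_pow,
          show u ^ 2 = 1 from Subtype.ext (by rw [SubgroupClass.coe_pow, pow_two]; exact (Pr.U_mem hu).2.2),
          map_one]
        rfl
      have hcx : IsConj (q zW) (q xW) :=
        isConj_iff.mpr ⟨q dW, by rw [← map_inv, ← map_mul, ← map_mul]; exact congrArg q (Subtype.ext D.dz)⟩
      have hO : oddCore (↥W ⧸ N) = ⊥ := h8.oddCore_bot hK fun u hu hu1 => by
        obtain ⟨u, hu, rfl⟩ := hu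
        rcases (hu : (u : G) ∈ Pr.U) with h | h | h | h
        · exact absurd (by rw [show u = 1 from Subtype.ext h, map_one]) hu1
        · rw [show u = zW from Subtype.ext h]
        · rw [show u = xW from Subtype.ext h]; exact hcx
        · rw [show u = zW * xW from Subtype.ext h]
          refine hcx.trans (isConj_iff.mpr ⟨q dW, ?_⟩)
          rw [← map_inv, ← map_mul, ← map_mul]
          exact congrArg q (Subtype.ext D.dx)
      rw [hO, sup_bot_eq] at e
      have hc8 := (Nat.card_congr hCiso.some.toEquiv).trans DihedralGroup.nat_card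
      rw [e, Subgroup.card_top] at hc8
      omega
    · exfalso
      rw [Nat.card_congr e.some.toEquiv, Nat.card_perm, Nat.card_fin] at h9
      exact absurd h9 (by decide)
    · exfalso
      rw [Nat.card_congr e.some.toEquiv, Nat.card_perm, Nat.card_fin] at h9
      exact absurd h9 (by decide)
    · exfalso
      rw [Nat.card_congr e.some.toEquiv] at h9
      have hd := Subgroup.card_dvd_of_injective
        (Matrix.SpecialLinearGroup.toGL : Matrix.SpecialLinearGroup (Fin 3) (ZMod 2) →* GL (Fin 3) (ZMod 2))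
        Matrix.SpecialLinearGroup.toGL_injective
      rw [CfsgLib.Order168.gl32.2] at hd
      exact absurd (h9.trans hd) (by norm_num)
    · exact e
  obtain ⟨e⟩ := hA6
  have h360 : Nat.card (alternatingGroup (Fin 6)) = 360 := by
    rw [nat_card_alternatingGroup, Nat.card_fin]; rfl
  refine ⟨by rw [hWq, Nat.card_congr e.toEquiv, h360], e.toMonoidHom.comp q,
    e.surjective.comp (QuotientGroup.mk'_surjective N), fun w => ?_⟩
  show e (q w) = 1 ↔ _
  rw [MulEquiv.map_eq_one_iff, hqk]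

/-- An element of order three centralising `M` is inverted. -/
theorem three_invert {c : G} (ho : orderOf c = 3) (hcM : ∀ m ∈ M, c * m = m * c) :
    ∃ n : G, n * c * n⁻¹ = c⁻¹ := by
  haveI : Fact (Nat.Prime 3) := ⟨Nat.prime_three⟩
  set h := D.K.P.h with hh
  have hcz : c * z = z * c := hcM z (S.U_le D.K.P.zU)
  obtain ⟨hp1, -⟩ := h.three_not_cent_Q hcz ho
  have hp3 : pm c ^ 3 = 1 := by rw [← h.pm_pow hcz, ← ho, pow_orderOf_eq_one, h.pm_one]
  obtain ⟨b, hb⟩ := a5_three_invert ⟨pm c, Equiv.Perm.mem_alternatingGroup.mpr (h.pm_sign c hcz)⟩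
    (Subtype.ext hp3) fun e => hp1 (congrArg Subtype.val e)
  obtain ⟨r, hr, hpr⟩ := h.pm_surj _ (Equiv.Perm.mem_alternatingGroup.mp b.2)
  set c' := r * c * r⁻¹ with hc'
  have hc'z : c' * z = z * c' := Commute.mul_left (Commute.mul_left hr hcz) (Commute.inv_left hr)
  have hpc' : pm c' = (pm c)⁻¹ := by
    rw [hc', h.pm_conj hr hcz, hpr]
    exact congrArg Subtype.val hb
  have hmulz : ∀ {a b : G}, a * z = z * a → b * z = z * b → a * b * z = z * (a * b) :=
    fun ha hb => Commute.mul_left ha hb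
  let φ : ↥(Subgroup.centralizer ({z} : Set G)) →* Perm (Fin 5) :=
    MonoidHom.mk' (fun a => pm a) fun a b => h.pm_mul _ _ (mem_cent.mp a.2) (mem_cent.mp b.2)
  set H := ((Subgroup.zpowers (pm c)).comap φ).map (Subgroup.centralizer ({z} : Set G)).subtype with hH
  have hmemH : ∀ a : G, a * z = z * a → pm a ∈ Subgroup.zpowers (pm c) → a ∈ H := fun a ha hp =>
    ⟨⟨a, mem_cent.mpr ha⟩, hp, rfl⟩
  have hcH : c ∈ H := hmemH c hcz (Subgroup.mem_zpowers _)
  have hc'H : c' ∈ H := hmemH c' hc'z (hpc'.symm ▸ inv_mem (Subgroup.mem_zpowers _))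
  have hcard : Nat.card ↥H ∣ 1920 := by
    rw [← h.card_C]
    exact Subgroup.card_dvd_of_le (Subgroup.map_subtype_le _)
  obtain ⟨e, he, hmem⟩ := conj_of_sylow_prime (p := 3) (H := H) (ho ▸ Subgroup.orderOf_dvd_natCard H hcH)
    (fun h9 => absurd (h9.trans hcard) (by norm_num)) hcH hc'H ho ((orderOf_conj' r c).trans ho)
  obtain ⟨⟨e', hez⟩, hep, rfl⟩ := he
  obtain ⟨j, hj'⟩ := Subgroup.mem_zpowers_iff.mp hep
  have hj : pm c ^ j = pm e' := hj'
  have hpe : pm (e' * c' * e'⁻¹) = (pm c)⁻¹ := by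
    rw [h.pm_conj (mem_cent.mp hez) hc'z, hpc', ← hj]
    group
  refine ⟨e' * r, ?_⟩
  rw [show e' * r * c * (e' * r)⁻¹ = e' * c' * e'⁻¹ by rw [hc']; group]
  have hc3 : c ^ 3 = 1 := ho ▸ pow_orderOf_eq_one c
  obtain ⟨i, hi⟩ := Subgroup.mem_zpowers_iff.mp hmem
  have hi2 : c ^ i = c ^ ((i % 3).toNat) := by
    rw [← zpow_natCast, ← zpow_mod_orderOf c i, ho, Int.toNat_of_nonneg (Int.emod_nonneg i (by norm_num))]
    rfl
  have hi' : e' * c' * e'⁻¹ = c ^ ((i % 3).toNat) := hi.symm.trans hi2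
  rw [hi', h.pm_pow hcz] at hpe
  rcases (show (i % 3).toNat = 0 ∨ (i % 3).toNat = 1 ∨ (i % 3).toNat = 2 by omega) with e0 | e0 | e0 <;>
    rw [e0] at hpe hi'
  · rw [pow_zero] at hpe
    exact absurd (inv_eq_one.mp hpe.symm) hp1
  · rw [pow_one] at hpe
    exfalso
    refine hp1 ?_
    calc pm c = pm c ^ 3 * (pm c * pm c)⁻¹ := by group
      _ = 1 := by rw [hp3, eq_inv_iff_mul_eq_one.mp hpe]; simp
  · rw [hi']
    exact eq_inv_of_mul_eq_one_left (by rw [← pow_succ, hc3])

theorem norm_sylow_three_mem {c : G} (ho : orderOf c = 3) (hcM : ∀ m ∈ M, c * m = m * c) (P : Sylow 3 G)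
    (hcP : c ∈ (P : Subgroup G)) (hdP : d ∈ (P : Subgroup G)) :
    Nat.card ↥(Subgroup.normalizer (P : Set G)) = 216 := by
  haveI : Fact (Nat.Prime 3) := ⟨Nat.prime_three⟩
  obtain ⟨hPc, hkey⟩ := S.sylow_three_center ho hcM P hcP hdP
  have hcc := S.card_cent_three ho hcM
  set W := Subgroup.centralizer ({c} : Set G) with hWdef
  obtain ⟨hW, q, hqs, hq⟩ := hcc
  set N := Subgroup.normalizer (P : Set G) with hN
  have hPW : (P : Subgroup G) ≤ W := fun a ha => mem_cent.mpr (hPc a ha).symm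
  haveI : IsSimpleGroup (alternatingGroup (Fin 6)) := alternatingGroup.isSimpleGroup (by rw [Nat.card_fin]; norm_num)
  have h360 : Nat.card (alternatingGroup (Fin 6)) = 360 := by
    rw [nat_card_alternatingGroup, Nat.card_fin]; rfl
  set PW := (P : Subgroup G).subgroupOf W with hPWdef
  have hker : q.ker ≤ PW := fun w hw => Subgroup.zpowers_le.mpr hcP ((hq w).mp hw)
  have hcker : Nat.card ↥q.ker = 3 := by
    have e : q.ker = (Subgroup.zpowers c).subgroupOf W := Subgroup.ext fun w => hq w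
    rw [e, Nat.card_congr (Subgroup.subgroupOfEquivOfLe (Subgroup.zpowers_le.mpr (hPW hcP))).toEquiv,
      Nat.card_zpowers, ho]
  have hcomap : ∀ H : Subgroup (alternatingGroup (Fin 6)), Nat.card ↥(H.comap q) = 3 * Nat.card ↥H := fun H => by
    have h1 := Subgroup.card_mul_index (H.comap q)
    have h2 := H.card_mul_index
    rw [H.index_comap_of_surjective hqs, hW] at h1
    rw [h360] at h2
    refine Nat.eq_of_mul_eq_mul_right (Nat.pos_of_ne_zero H.index_ne_zero_of_finite) ?_
    rw [h1, mul_assoc, h2]; norm_num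
  have hPback : (PW.map q).comap q = PW := Subgroup.comap_map_eq_self hker
  have hc27 : Nat.card ↥PW = 27 := by
    rw [hPWdef, Nat.card_congr (Subgroup.subgroupOfEquivOfLe hPW).toEquiv, S.card_sylow_three]
  have hc9 : Nat.card ↥(PW.map q) = 9 := by
    have := hcomap (PW.map q)
    rw [hPback, hc27] at this
    omega
  have hfac : (Nat.card (alternatingGroup (Fin 6))).factorization 3 = 2 := by
    rw [h360, show (360 : ℕ) = 3 ^ 2 * 40 from rfl, Nat.factorization_mul (by norm_num) (by norm_num),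
      Finsupp.add_apply, Nat.Prime.factorization_pow (by norm_num), Finsupp.single_eq_same,
      Nat.factorization_eq_zero_of_not_dvd (by norm_num)]
  have h36 := CfsgLib.Order360.card_normalizer_three h360 (Sylow.ofCard (PW.map q) (by rw [hc9, hfac]; rfl))
  have h108 : Nat.card ↥(N ⊓ W) = 108 := by
    rw [← Nat.card_congr (Subgroup.subgroupOfEquivOfLe (inf_le_right : N ⊓ W ≤ W)).toEquiv,
      Subgroup.inf_subgroupOf_right, hN,
      show (Subgroup.normalizer (P : Set G)).subgroupOf W = Subgroup.normalizer (PW : Set ↥W) from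
        Subgroup.subgroupOf_normalizer_eq hPW,
      ← hPback, ← Subgroup.comap_normalizer_eq_of_surjective _ hqs, hcomap]
    exact (congrArg (3 * ·) h36).trans (by norm_num)
  have hr := ncard_orb N c
  rw [← hWdef, h108] at hr
  have hc3 : c ^ 3 = 1 := ho ▸ pow_orderOf_eq_one c
  have horb : orb N c = {c, c⁻¹} := by
    apply le_antisymm
    · rintro _ ⟨n, hn, rfl⟩
      have hmemn := Subgroup.mem_normalizer_iff.mp hn
      have h1 : n * c * n⁻¹ ∈ Subgroup.zpowers c := hkey _ ((hmemn c).mp hcP) fun a ha => by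
        have ha' : n⁻¹ * a * n ∈ (P : Subgroup G) :=
          (hmemn _).mpr (by rwa [show n * (n⁻¹ * a * n) * n⁻¹ = a by group])
        calc n * c * n⁻¹ * a = n * (c * (n⁻¹ * a * n)) * n⁻¹ := by group
          _ = n * (n⁻¹ * a * n * c) * n⁻¹ := by rw [hPc _ ha']
          _ = a * (n * c * n⁻¹) := by group
      obtain ⟨i, hi⟩ := Subgroup.mem_zpowers_iff.mp h1
      rw [← zpow_mod_orderOf, ho] at hi
      rcases (show i % 3 = 0 ∨ i % 3 = 1 ∨ i % 3 = 2 by omega) with e | e | e
      · simp only [Nat.cast_ofNat, e, zpow_zero] at hi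
        exact absurd (conj_eq_one_iff.mp hi.symm) fun e' => by rw [e', orderOf_one] at ho; omega
      · simp only [Nat.cast_ofNat, e, zpow_one] at hi
        exact Or.inl hi.symm
      · simp only [Nat.cast_ofNat, e] at hi
        refine Or.inr (hi.symm.trans ?_)
        rw [show (2 : ℤ) = ((2 : ℕ) : ℤ) from rfl, zpow_natCast]
        exact eq_inv_of_mul_eq_one_left (by rw [← pow_succ, hc3])
    · rintro a (rfl | rfl)
      · exact ⟨1, one_mem _, by simp⟩
      obtain ⟨n, hn⟩ := S.three_invert ho hcM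
      -- adjust inside `W`
      have hnW : CfsgLargeExtra.cj n (P : Subgroup G) ≤ W := fun a ha => by
        rw [CfsgLargeExtra.mem_cj] at ha
        have hc := hPc _ ha
        have e : n * c⁻¹ * n⁻¹ = c := by rw [← conj_inv, hn, inv_inv]
        refine mem_cent.mpr ?_
        calc a * c = a * (n * c⁻¹ * n⁻¹) := by rw [e]
          _ = n * (n⁻¹ * a * n * c⁻¹) * n⁻¹ := by group
          _ = n * (c⁻¹ * (n⁻¹ * a * n)) * n⁻¹ := by rw [(Commute.inv_right (show Commute _ c from hc.symm)).eq]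
          _ = n * c⁻¹ * n⁻¹ * a := by group
          _ = c * a := by rw [e]
      have hfacW : (Nat.card ↥W).factorization 3 = 3 := by
        rw [hW, show (1080 : ℕ) = 3 ^ 3 * 40 from rfl, Nat.factorization_mul (by norm_num) (by norm_num),
          Finsupp.add_apply, Nat.Prime.factorization_pow (by norm_num), Finsupp.single_eq_same,
          Nat.factorization_eq_zero_of_not_dvd (by norm_num)]
      have hc1 : Nat.card ↥PW = 3 ^ (Nat.card ↥W).factorization 3 := by
        rw [hfacW, hPWdef, Nat.card_congr (Subgroup.subgroupOfEquivOfLe hPW).toEquiv, S.card_sylow_three]; rfl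
      have hc2 : Nat.card ↥((CfsgLargeExtra.cj n (P : Subgroup G)).subgroupOf W) =
          3 ^ (Nat.card ↥W).factorization 3 := by
        rw [hfacW, Nat.card_congr (Subgroup.subgroupOfEquivOfLe hnW).toEquiv, card_cj', S.card_sylow_three]; rfl
      obtain ⟨w, hw⟩ := MulAction.exists_smul_eq ↥W (Sylow.ofCard _ hc2) (Sylow.ofCard _ hc1)
      refine ⟨(w : G) * n, mem_normalizer_of_le fun a ha => ?_, ?_⟩
      · have hmem : (⟨n * a * n⁻¹, hnW (CfsgLargeExtra.conj_mem_cj ha)⟩ : ↥W) ∈
            (CfsgLargeExtra.cj n (P : Subgroup G)).subgroupOf W := CfsgLargeExtra.conj_mem_cj ha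
        have h2 := Subgroup.smul_mem_pointwise_smul _ (MulAut.conj w) _ hmem
        have h3 : ((w • Sylow.ofCard _ hc2 : Sylow 3 ↥W) : Subgroup ↥W) = PW := by rw [hw]; rfl
        rw [Sylow.coe_subgroup_smul] at h3
        rw [show (MulAut.conj w • ((CfsgLargeExtra.cj n (P : Subgroup G)).subgroupOf W)) = PW from h3] at h2
        have h4 : (w : G) * (n * a * n⁻¹) * (w : G)⁻¹ ∈ (P : Subgroup G) := h2
        rwa [show (w : G) * n * a * ((w : G) * n)⁻¹ = (w : G) * (n * a * n⁻¹) * (w : G)⁻¹ by group]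
      · rw [show (w : G) * n * c * ((w : G) * n)⁻¹ = (w : G) * (n * c * n⁻¹) * (w : G)⁻¹ by group, hn]
        exact conj_fix_iff.mpr (Commute.inv_right (mem_cent.mp w.2))
  have hne : c ≠ c⁻¹ := fun e => by
    have e2 : c * c = 1 := mul_eq_one_iff_eq_inv.mpr e
    have := orderOf_dvd_of_pow_eq_one (show c ^ 2 = 1 by rw [pow_two, e2])
    rw [ho] at this
    omega
  rw [horb, Set.ncard_pair hne] at hr
  omega

theorem norm_sylow_three (P : Sylow 3 G) : Nat.card ↥(Subgroup.normalizer (P : Set G)) = 216 := by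
  haveI : Fact (Nat.Prime 3) := ⟨Nat.prime_three⟩
  obtain ⟨c, ho, -, hcM, -⟩ := S.exists_c0
  obtain ⟨P₀, hcP, hdP⟩ := S.exists_sylow_three ho hcM
  have h1 := S.norm_sylow_three_mem ho hcM P₀ hcP hdP
  have e := P.card_eq_index_normalizer.symm.trans P₀.card_eq_index_normalizer
  have h2 := Subgroup.card_mul_index (Subgroup.normalizer (P : Set G))
  have h3 := Subgroup.card_mul_index (Subgroup.normalizer (P₀ : Set G))
  rw [e, ← h3] at h2
  rw [← h1]
  exact Nat.eq_of_mul_eq_mul_right (Nat.pos_of_ne_zero Subgroup.index_ne_zero_of_finite) h2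

/-- Every element of order three is conjugate into `⟨c⟩` or into `⟨d⟩`. -/
theorem three_classes {c : G} (ho : orderOf c = 3) (hcM : ∀ m ∈ M, c * m = m * c) {v : G} (hv : orderOf v = 3) :
    ∃ g : G, g * v * g⁻¹ ∈ Subgroup.zpowers c ∨ g * v * g⁻¹ ∈ Subgroup.zpowers d := by
  classical
  haveI : Fact (Nat.Prime 3) := ⟨Nat.prime_three⟩
  haveI : Fact (Nat.Prime 2) := ⟨Nat.prime_two⟩
  obtain ⟨P, hcP, hdP⟩ := S.exists_sylow_three ho hcM
  obtain ⟨-, hkey⟩ := S.sylow_three_center ho hcM P hcP hdP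
  obtain ⟨R, hR⟩ := (IsPGroup.of_card (n := 1) (by rw [Nat.card_zpowers, hv, pow_one]) :
    IsPGroup 3 ↥(Subgroup.zpowers v)).exists_le_sylow
  obtain ⟨g, hg⟩ := MulAction.exists_smul_eq G R P
  set w := g * v * g⁻¹ with hwdef
  have hwP : w ∈ (P : Subgroup G) := by
    rw [← hg, Sylow.coe_subgroup_smul]
    exact Subgroup.smul_mem_pointwise_smul v (MulAut.conj g) _ (hR (Subgroup.mem_zpowers _))
  have hw3 : orderOf w = 3 := (orderOf_conj' g v).trans hv
  suffices h : ∃ k : G, k * w * k⁻¹ ∈ Subgroup.zpowers c ∨ k * w * k⁻¹ ∈ Subgroup.zpowers d by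
    obtain ⟨k, hk⟩ := h
    exact ⟨k * g, by rwa [show k * g * v * (k * g)⁻¹ = k * w * k⁻¹ by rw [hwdef]; group]⟩
  by_cases hwc : w ∈ Subgroup.zpowers c
  · exact ⟨1, Or.inl (by simpa using hwc)⟩
  set N := Subgroup.normalizer (P : Set G) with hN
  set K := N ⊓ Subgroup.centralizer ({w} : Set G) with hK
  by_cases h2 : 2 ∣ Nat.card ↥K
  · obtain ⟨⟨u, hu⟩, huo⟩ := exists_prime_orderOf_dvd_card' (G := ↥K) 2 h2
    rw [Subgroup.orderOf_mk] at huo
    exact S.three_of_invol ho hcM hw3 (by rw [← pow_two, ← huo]; exact pow_orderOf_eq_one u)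
      (fun e => by rw [e, orderOf_one] at huo; omega) (mem_cent.mp hu.2).symm
  have hd : Nat.card ↥K ∣ 216 := S.norm_sylow_three P ▸ Subgroup.card_dvd_of_le inf_le_left
  have h27 : Nat.card ↥K ∣ 3 ^ 3 := by
    have hcop : (Nat.card ↥K).Coprime (2 ^ 3) :=
      Nat.Coprime.pow_right 3 ((Nat.prime_two.coprime_iff_not_dvd.2 h2).symm)
    exact hcop.dvd_of_dvd_mul_left hd
  obtain ⟨k, hk, hkK⟩ := (Nat.dvd_prime_pow Nat.prime_three).mp h27
  have hk3 : k ≠ 3 := by
    rintro rfl
    have hKp : IsPGroup 3 ↥K := IsPGroup.of_card hkK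
    have hsup := P.is_maximal' (IsPGroup.to_sup_of_normal_right' hKp P.isPGroup' inf_le_left) le_sup_right
    have hKP : K ≤ (P : Subgroup G) := le_sup_left.trans hsup.le
    have heq := Subgroup.eq_of_le_of_card_ge hKP (by rw [hkK, S.card_sylow_three]; norm_num)
    exact hwc (hkey w hwP fun a ha => (mem_cent.mp ((heq.symm ▸ ha : a ∈ K).2)).symm)
  have hr := ncard_orb N w
  rw [← hK, S.norm_sylow_three P, hkK] at hr
  have horb : orb N w ⊆ ((P : Subgroup G) : Set G) \ (Subgroup.zpowers c : Set G) := by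
    rintro _ ⟨n, hn, rfl⟩
    have hmemn := Subgroup.mem_normalizer_iff.mp hn
    refine ⟨(hmemn w).mp hwP, fun hmem => hwc (hkey w hwP fun a ha => ?_)⟩
    obtain ⟨hPc, -⟩ := S.sylow_three_center ho hcM P hcP hdP
    obtain ⟨i, hi⟩ := Subgroup.mem_zpowers_iff.mp hmem
    have h1 : n * w * n⁻¹ * (n * a * n⁻¹) = n * a * n⁻¹ * (n * w * n⁻¹) := by
      rw [← hi]
      exact Commute.zpow_left (hPc _ ((hmemn a).mp ha)) i
    exact (conj_comm_iff n w a).mp h1
  have hc24 : (((P : Subgroup G) : Set G) \ (Subgroup.zpowers c : Set G)).ncard = 24 := by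
    rw [Set.ncard_sdiff (Subgroup.zpowers_le.mpr hcP), ← Nat.card_coe_set_eq, ← Nat.card_coe_set_eq,
      show Nat.card ↥(Subgroup.zpowers c : Set G) = 3 from (Nat.card_zpowers c).trans ho]
    exact congrArg (· - 3) (S.card_sylow_three P)
  have heq := Set.eq_of_subset_of_ncard_le horb (by
    rw [hc24]
    rcases (show k = 0 ∨ k = 1 ∨ k = 2 by omega) with rfl | rfl | rfl <;> omega) (Set.toFinite _)
  have hdmem : d ∈ orb N w := by
    rw [heq]
    refine ⟨hdP, fun h => S.c_not_mem_d ho hcM ?_⟩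
    rw [(zpowers_eq_of_mem ho h fun e => by
      have := D.hd
      rw [e, orderOf_one] at this
      omega).1]
    exact Subgroup.mem_zpowers c
  obtain ⟨n, -, hn⟩ := hdmem
  exact ⟨n, Or.inr (hn ▸ Subgroup.mem_zpowers _)⟩

end Sub

end CfsgLib.HallJankoType
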